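import Cfsg.Agent.Ud.R1

/-! Elementary abelian subgroups of the semilinear unitary group: the bound. -/

set_option autoImplicit false
set_option linter.unusedSectionVars false
set_option linter.unusedVariables false

namespace CF.Ud

open Subgroup Equiv CF.Geom Module CF.Loc CF.LX CF.Dbl
open scoped commutatorElement

section grp
variable {G : Type*} [Group G] {A B C : Subgroup G} {a b : G}
theorem el_cm (h : El A) (ha : a ∈ A) (hb : b ∈ A) : a * b = b * a := by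
  rw [← inv_eq_of_mul_eq_one_right (h _ (mul_mem ha hb)), _root_.mul_inv_rev,
    inv_eq_of_mul_eq_one_right (h a ha), inv_eq_of_mul_eq_one_right (h b hb)]
theorem el_two (h : El A) : IsPGroup 2 A := isPGroup_iff_forall.2 fun x i => e2_inv (h x i)
theorem el_cj (h : El A) (g : G) : El (cj[g] A) := by
  rintro _ ⟨x, i, rfl⟩; rw [← map_mul, h x i, map_one]
theorem el_mono (h : El A) (l : B ≤ A) : El B := fun x i => h x (l i)
theorem card_ri (A B : Subgroup G) : Nat.card ↥(A ⊓ B) * B.relIndex A = Nat.card A := by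
  rw [← inf_relIndex_left, ← relIndex_bot_left, ← relIndex_bot_left]; exact relIndex_mul_relIndex _ _ _ bot_le inf_le_left
theorem cnt1 {V ι : Type*} [Finite V] (S : Set V) (f : G → ι → V) (h1 : ∀ a ∈ A, ∀ i, f a i ∈ S)
    (h2 : ∀ a ∈ A, ∀ b ∈ A, ∀ i j, f a i = f b j → a⁻¹ * b ∈ B) (h3 : ∀ a, Function.Injective (f a)) :
    B.relIndex A * Nat.card ι ≤ Nat.card S := by
  rw [relIndex, index, ← Nat.card_prod]
  refine Nat.card_le_card_of_injective (fun p => (⟨f p.1.out p.2, h1 _ p.1.out.2 _⟩ : S)) fun ⟨c, i⟩ ⟨c', j⟩ e => ?_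
  have e := congrArg Subtype.val e
  obtain rfl : c = c' := by
    rw [← c.out_eq, ← c'.out_eq]; exact QuotientGroup.eq.2 (h2 _ c.out.2 _ c'.out.2 _ _ e)
  exact congrArg _ (h3 _ e)
variable [Finite G]
theorem cnt2 {V : Type*} [AddCommGroup V] [Finite V] (f : V → G) (add : ∀ x y, f (x + y) = f x * f y) (hA : ∀ x, f x ∈ A) :
    Nat.card V * Nat.card ↥(A ⊓ C) ≤ Nat.card A * Nat.card {x // f x ∈ C} := by
  let φ : Multiplicative V →* G := .mk' (fun x => f x.toAdd) add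
  have h1 : (C.comap φ).index ≤ C.relIndex A := index_comap C φ ▸ relIndex_le_of_le_right (by rintro _ ⟨x, rfl⟩; exact hA _)
    index_ne_zero_of_finite
  have h2 : Nat.card {x // f x ∈ C} * _ = Nat.card V := (C.comap φ).card_mul_index
  rw [← h2, ← card_ri A C, mul_comm (_ * _) (Nat.card {x // f x ∈ C}), mul_assoc, mul_comm (Nat.card ↥(A ⊓ C))]
  gcongr
theorem half (e : El A) (n : a ∈ 𝐍(A)) (a2 : a * a = 1) : Nat.card A ≤ Nat.card ↥(A ⊓ 𝐂₁(a)) ^ 2 ∧
    ∀ z ∈ A ⊓ 𝐂₁(a), (∀ w ∈ A, a * w * a⁻¹ * w ≠ z) → 2 * Nat.card A ≤ Nat.card ↥(A ⊓ 𝐂₁(a)) ^ 2 := by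
  have c : ∀ w ∈ A, a * w * a⁻¹ ∈ A := fun w => (mem_normalizer_iff.1 n w).1
  let δ : A →* G := .mk' (fun w => a * w * a⁻¹ * w) fun x y => by
    rw [coe_mul, conj_mul_conj, mul_assoc, mul_assoc (a * x * a⁻¹), ← mul_assoc _ x.1, ← mul_assoc x.1, el_cm e x.2 (c _ y.2)]
  have k : δ.ker = (A ⊓ 𝐂₁(a)).subgroupOf A := by
    ext w; rw [mem_subgroupOf, mem_inf, mem_c1, and_iff_right w.2, eq_comm, ← conj_eq_iff]
    exact mul_eq_one_iff_eq_inv.trans (by rw [inv_eq_of_mul_eq_one_left (e _ w.2)])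
  have r : δ.range ≤ A ⊓ 𝐂₁(a) := by
    rintro _ ⟨w, rfl⟩
    refine ⟨mul_mem (c _ w.2) w.2, mem_c1.2 (conj_eq_iff.1 ?_).symm⟩
    change a * (a * w * a⁻¹ * w) * a⁻¹ = a * w * a⁻¹ * w
    rw [conj_mul_conj, el_cm e (c _ w.2) w.2, show a * (a * w * a⁻¹) * a⁻¹ = (a * a) * w * (a * a)⁻¹ by group, a2]; simp
  have h := δ.ker.card_mul_index
  rw [index_ker, k, Nat.card_congr (subgroupOfEquivOfLe inf_le_left).toEquiv] at h
  refine ⟨h ▸ pow_two (Nat.card _) ▸ Nat.mul_le_mul_left _ (card_le_of_le r), fun z i f => ?_⟩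
  obtain ⟨s, t⟩ := card_dvd_of_le r
  have : s ≠ 1 := fun u => by
    obtain ⟨w, j⟩ := eq_of_le_of_card_ge r (by rw [t, u, mul_one]) ▸ i; exact f _ w.2 j
  have : s ≠ 0 := fun u => Nat.card_pos.ne' (t.trans (by rw [u, mul_zero]))
  rw [← h, pow_two, mul_left_comm, mul_comm 2]
  exact Nat.mul_le_mul_left _ (t ▸ Nat.mul_le_mul_left _ (by omega))
end grp

variable {K : Type} [Field K] [Fintype K] [CharP K 2] {m q j : ℕ} {σ θ θ' : K ≃+* K} {c ζ ζ' ω : K}
  {g p k ξ α w w' a b : Perm (Fin m → K)} {u v x y n n' u' v' : Fin m → K} {T T' S : Submodule K (Fin m → K)}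
  {A B H P O : Subgroup (Perm (Fin m → K))}

variable (σ) in
/-- unitriangular elements acting trivially on the middle section -/
def Bj (m j : ℕ) : Subgroup (Perm (Fin m → K)) where
  carrier := {g | g ∈ UT σ m ∧ ∀ x ∈ Vf K m (m - j), g x + x ∈ Vf K m j}
  mul_mem' := fun {g k} a b => ⟨mul_mem a.1 b.1, fun x i => by
    simpa [add_assoc, ← add_assoc (k x), vv] using add_mem (a.2 _ (UT_fl b.1 _ _ i)) (b.2 x i)⟩
  one_mem' := ⟨one_mem _, by simp [vv]⟩
  inv_mem' := fun {g} a => ⟨inv_mem a.1, fun x i => by simpa [add_comm] using a.2 _ (UT_fl (inv_mem a.1) _ _ i)⟩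

theorem UT_D (i : g ∈ UT σ m) (h : x ∈ Vf K m (j + 1)) : g x + x ∈ Vf K m j := vsub (g x) x ▸ (mem_UT.1 i).2 j x h
theorem om_eq (o : ω + σ ω = 1) {a b : K} (ha : σ a = a) (hb : σ b = b) (e : σ (ω * a + ω * b) = ω * a + ω * b) : a = b := by
  rw [map_add, map_mul, map_mul, ha, hb] at e; grind
theorem span_inv (i : Sem σ θ α) {s : Set (Fin m → K)} (h : ∀ x ∈ s, α x = x) (x) (a : x ∈ Submodule.span K s) :
    α x ∈ Submodule.span K s := by
  induction a using Submodule.span_induction with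
  | mem x k => rw [h x k]; exact Submodule.subset_span k
  | zero => rw [i.zero]; exact zero_mem _
  | add _ _ _ _ a b => rw [i.add]; exact add_mem a b
  | smul c _ _ a => rw [i.smul]; exact Submodule.smul_mem _ _ a

namespace Dm
variable (d : Dm σ q m)
include d
theorem card_T (T : Submodule K (Fin m → K)) : Nat.card T = q ^ (2 * finrank K T) := by rw [card_sub, d.card, pow_mul]
theorem card_V (h : j ≤ m) : Nat.card (Vf K m j) = q ^ (2 * j) := by rw [d.card_T, Vf_dim h]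
theorem q1 : 1 < q := d.two_le
theorem ts (M : AddSubgroup (Fin m → K)) (iso : ∀ x ∈ M, hf σ x x = 0) : Nat.card M ≤ q ^ (2 * (m / 2)) := by
  suffices ∀ S, Ti σ S → ∀ M : AddSubgroup (Fin m → K), (∀ x ∈ M, hf σ x x = 0) → (∀ x ∈ S, x ∈ M) → (∀ x ∈ M, x ∈ pp σ S) →
    Nat.card M ≤ q ^ (2 * (m / 2)) from this ⊥ (by simp [Ti]) M iso (by simp) (by simp [mem_pp])
  intro S
  induction S using WellFoundedGT.induction with | _ S ih
  intro t M iso l l'
  by_cases z : ∀ x ∈ M, x ∈ S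
  · exact (Nat.card_le_card_of_injective _ (Set.inclusion_injective z)).trans ((d.card_T S).le.trans
      (Nat.pow_le_pow_right d.q1.le (by have := d.ti_le t; omega)))
  obtain ⟨v, a, b⟩ : ∃ v ∈ M, v ∉ S := by simpa using z
  have F : ∀ x ∈ M, ∀ y ∈ M, σ (hf σ x y) = hf σ x y := fun x i y j => by
    have := iso _ (add_mem i j); rw [d.sy]; simp only [hf_add_l, hf_add_r, iso x i, iso y j] at this; grind
  let M' : AddSubgroup (Fin m → K) := ⟨⟨⟨{x | ∃ c : K, x + c • v ∈ M ∧ hf σ x v = 0}, fun ⟨c, i, j⟩ ⟨c', i', j'⟩ => ⟨c + c', by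
    simpa [add_smul, add_add_add_comm] using add_mem i i', by simp [*]⟩⟩, ⟨0, by simp⟩⟩, fun {x} => by
      rw [neg_eq_of_add_eq_zero_left (vv x)]; exact id⟩
  have pv : ∀ x ∈ S, hf σ x v = 0 := fun x i => d.sw (l' v a x i)
  have ms : ∀ x ∈ S ⊔ Submodule.span K {v}, ∃ y ∈ S, ∃ c : K, x = y + c • v := fun x i => by
    obtain ⟨y, i', _, j, rfl⟩ := Submodule.mem_sup.1 i
    obtain ⟨c, rfl⟩ := Submodule.mem_span_singleton.1 j; exact ⟨y, i', c, rfl⟩
  refine le_trans ?_ (ih (S ⊔ Submodule.span K {v}) (lt_of_le_of_ne le_sup_left fun e => b (e ▸ Submodule.mem_sup_right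
    (Submodule.mem_span_singleton_self v))) (fun x i y j => ?_) M' (fun x ⟨c, i, j⟩ => ?_) (fun x i => ?_) fun x ⟨c, i, j⟩ y k => ?_)
  · by_cases z : ∀ x ∈ M, hf σ x v = 0
    · exact AddSubgroup.card_le_of_le fun x i => ⟨0, by simpa, z x i⟩
    obtain ⟨x0, i0, j0⟩ : ∃ x ∈ M, hf σ x v ≠ 0 := by simpa using z
    obtain ⟨ω, o⟩ := d.om
    choose! r hr using fun c (h : ∃ x ∈ M, hf σ x v = c) => h
    refine Nat.card_le_card_of_injective (fun x => (⟨x + r (hf σ x v) + (ω * hf σ x v) • v, ω * hf σ x v, ?_, ?_⟩ : M'))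
      fun x y e => Subtype.ext ?_
    · rw [add_assoc, vv, add_zero]; exact add_mem x.2 (hr _ ⟨_, x.2, rfl⟩).1
    · simp [(hr _ ⟨_, x.2, rfl⟩).2, iso v a, CharTwo.add_self_eq_zero]
    have e := congrArg Subtype.val e
    have : hf σ x v = hf σ y v := om_eq o (F _ x.2 _ a) (F _ y.2 _ a) (by
      have := F _ (show (ω * hf σ x v + ω * hf σ y v) • v ∈ M by
        convert add_mem (add_mem x.2 (hr _ ⟨_, x.2, rfl⟩).1) (add_mem y.2 (hr _ ⟨_, y.2, rfl⟩).1) using 1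
        ext i; have := congrFun e i; simp at this ⊢; grind) _ i0
      rw [hf_smul_l, map_mul, F _ a _ i0] at this
      exact mul_right_cancel₀ (mt d.sw j0) this)
    simpa [this] using e
  · obtain ⟨x, i', c, rfl⟩ := ms x i; obtain ⟨y, j', c', rfl⟩ := ms y j
    simp [t x i' y j', pv x i', d.sw (pv y j'), iso v a]
  · simpa [j, d.sw j, iso v a] using iso _ i
  · obtain ⟨x, i', c, rfl⟩ := ms x i
    exact ⟨c, by rw [add_assoc, vv, add_zero]; exact l x i', by simp [pv x i', iso v a]⟩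
  · obtain ⟨y, k', c', rfl⟩ := ms y k
    simpa [sq_ap, j, mem_pp.1 (l' v a) y k'] using mem_pp.1 (l' _ i) y k'
theorem card_fx (i : Sem σ σ α) (e : α * α = 1) (hT : ∀ x ∈ T, α x ∈ T) : Nat.card {x | x ∈ T ∧ α x = x} = q ^ finrank K T := by
  obtain ⟨ω, o⟩ := d.om
  refine Nat.pow_left_injective two_ne_zero ?_
  change _ ^ 2 = _ ^ 2
  rw [← pow_mul, mul_comm, ← d.card_T, pow_two, ← Nat.card_prod]
  have k : ∀ x y, α x = x → α y = y → α (x + ω • y) + (x + ω • y) = y := fun x y a b => by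
    rw [i.add, i.smul, a, b, add_add_add_comm, vv, ← add_smul, add_comm (σ ω), o, one_smul, zero_add]
  refine Nat.card_congr (.ofBijective (fun p => ⟨p.1 + ω • p.2, add_mem p.1.2.1 (T.smul_mem _ p.2.2.1)⟩) ⟨fun x y f => ?_, fun z =>
    ⟨⟨⟨z + ω • (α z + z), add_mem z.2 (T.smul_mem _ (add_mem (hT _ z.2) z.2)), ?_⟩, α z + z, add_mem (hT _ z.2) z.2, d.inv_D i e z⟩,
      Subtype.ext ?_⟩⟩)
  · have f := congrArg Subtype.val f
    have : x.2.1 = y.2.1 := by rw [← k _ _ x.1.2.2 x.2.2.2, ← k _ _ y.1.2.2 y.2.2.2]; exact congrArg (fun z => α z + z) f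
    exact Prod.ext (Subtype.ext (by simpa [this] using f)) (Subtype.ext this)
  · rw [i.add, i.smul, d.inv_D i e]; ext; simp; grind
  · simp only [add_assoc, vv, add_zero]
theorem fl_cj (l : P ≤ Gam σ m) (two : IsPGroup 2 P) : ∃ g ∈ SU σ m, ∀ p ∈ cj[g] P, p ∈ Gam σ m ∧ Fl p := by
  obtain ⟨S, a, b⟩ := exists_isSyl_ge two l
  have n : Gam σ m ≤ 𝐍(SU σ m) := fun x ⟨_, s⟩ => mem_normalizer_fintype fun _ => s.su
  obtain ⟨g, i, e⟩ := (a.inf_of_le_normalizer (SU_le.trans GU_le) n).conj d.U_syl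
  refine ⟨g, i, fun p h => ?_⟩
  have k := cj_le_of_mem (GU_le (SU_le i)) l h
  refine ⟨k, (d.U_norm k).1 ?_⟩
  rw [← e, ← cj_normalizer]
  exact cj_mono g (fun x j => inf_normalizer_le_normalizer_inf ⟨le_normalizer (b j), n (l j)⟩) h
theorem Vpp : pp σ (Vf K m (m / 2)) = Vf K m (m - m / 2) := Vf_pp (by omega)
theorem Vmax (hx : hf σ x x = 0) (e : x ∈ Vf K m (m - m / 2)) : x ∈ Vf K m (m / 2) := d.ti_max (Vf_ti le_rfl) d.Vl_dim hx (d.Vpp.ge e)
section el
variable (l : A ≤ UT σ m) (e : El A)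
include l e
theorem dd (ha : a ∈ A) (hb : b ∈ A) (x y : Fin m → K) : hf σ (a x + x) (b y + y) = hf σ (b x + x) (a y + y) := by
  rw [d.inv_sa (l ha).1 (e a ha), d.inv_sa (l hb).1 (e b hb), (l ha).1.add, (l hb).1.add, ← Perm.mul_apply, el_cm e ha hb,
    Perm.mul_apply]
  congr 1; abel
theorem dz (ha : a ∈ A) (x y : Fin m → K) : hf σ (a x + x) (a y + y) = 0 := by
  rw [d.inv_sa (l ha).1 (e a ha), d.inv_D (l ha).1 (e a ha), vv, hf_zero_r]
theorem df (ha : a ∈ A) (x : Fin m → K) : σ (hf σ (a x + x) x) = hf σ (a x + x) x := by rw [d.sy, d.inv_sa (l ha).1 (e a ha)]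
variable (hj : j < m / 2) (hy : y ∈ Vf K m (m - j)) (hy' : y ∉ Vf K m (m - (j + 1)))
include hj hy
theorem Dy (ha : a ∈ A) : a y + y ∈ Vf K m (m - (j + 1)) := UT_D (l ha) (by rwa [show m - (j + 1) + 1 = m - j by omega])
theorem orth (hx : x ∈ Vf K m (m - (j + 1))) (ha : a ∈ A ⊓ Bj σ m (j + 1)) (hb : b ∈ A) : hf σ (a y + y) (b x + x) = 0 := by
  rw [d.dd l e ha.1 hb, ← d.inv_sa (l ha.1).1 (e a ha.1)]
  exact hf_Vf (ha.2.2 _ (d.Dy l e hj hy hb)) hx (by omega)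
include hy'
omit l e in
theorem Vy (hx : x ∈ Vf K m (j + 1)) (f : hf σ x y = 0) : x ∈ Vf K m j := by
  obtain ⟨c, i⟩ := Vf_succ (show y ∈ Vf K m (m - (j + 1) + 1) by rwa [show m - (j + 1) + 1 = m - j by omega])
  have c0 : c ≠ 0 := fun z => hy' (by simpa [z] using i)
  refine (Vf_pp (σ := σ) (i := m - (j + 1) + 1) (by omega)).le fun z k => ?_
  obtain ⟨c', k⟩ := Vf_succ k
  have h1 := hf_Vf (σ := σ) hx i (by omega); have h2 := hf_Vf (σ := σ) hx k (by omega)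
  simp only [vsub, hf_add_r, hf_smul_r, f, zero_add, mul_eq_zero, map_eq_zero, c0, false_or] at h1 h2
  simpa [h1, sq_ap] using h2
theorem rel {ι : Type} (M : ι → Fin m → K) (S : Set (Fin m → K)) (inj : Function.Injective M)
    (hM : ∀ i i', σ (hf σ (M i + M i') y) = hf σ (M i + M i') y → M i + M i' ∈ Vf K m j)
    (h : ∀ a ∈ A ⊓ Bj σ m (j + 1), ∀ i, a y + y + M i ∈ S) :
    (Bj σ m j).relIndex (A ⊓ Bj σ m (j + 1)) * Nat.card ι ≤ Nat.card S :=
  cnt1 S (fun a i => a y + y + M i) h (fun a ha b hb i i' f => by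
    have f : M i + M i' = a y + y + (b y + y) := by ext k; have := congrFun f k; simp at this ⊢; grind
    have k := hM i i' (by rw [f, hf_add_l, map_add, d.df l e ha.1, d.df l e hb.1])
    have s := mul_mem (inv_mem ha) hb
    have k : (a⁻¹ * b) y + y ∈ Vf K m j := by
      have := UT_fl (inv_mem (l ha.1)) _ _ k
      rwa [f, add_add_add_comm, vv, add_zero, (inv_mem (l ha.1)).1.add, Perm.coe_inv, symm_apply_apply, add_comm] at this
    refine ⟨l s.1, fun x u => ?_⟩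
    obtain ⟨c, u⟩ := Vf_succ (show x ∈ Vf K m (m - (j + 1) + 1) by rwa [show m - (j + 1) + 1 = m - j by omega])
    obtain ⟨c', u'⟩ := Vf_succ (show y ∈ Vf K m (m - (j + 1) + 1) by rwa [show m - (j + 1) + 1 = m - j by omega])
    have c0 : c' ≠ 0 := fun z => hy' (by simpa [z] using u')
    have r : x + (c / c') • y ∈ Vf K m (m - (j + 1)) := by
      convert add_mem u (Submodule.smul_mem _ (c / c') u') using 1; ext; simp [vsub]; field_simp; grind
    have := add_mem (d.Vy hj hy hy' (s.2.2 _ r) (by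
      rw [d.inv_sa (l s.1).1 (e _ s.1)]; exact hf_Vf r k (by omega))) (Submodule.smul_mem _ (c / c') k)
    convert this using 1
    rw [(l s.1).1.add, Sem.smul1 (l s.1).1]; ext; simp; grind) fun a i i' f => inj (add_left_cancel f)
omit l e in
theorem exy : ∃ u ∈ Vf K m (j + 1), hf σ u y = 1 := by
  obtain ⟨u, a, b⟩ := exists_out (T := Vf K m j) (T' := Vf K m (j + 1)) (by rw [Vf_dim, Vf_dim] <;> omega)
  have := mt (d.Vy hj hy hy' a) b
  exact ⟨(hf σ u y)⁻¹ • u, Submodule.smul_mem _ _ a, by simp [this]⟩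
theorem step : ∃ M : AddSubgroup (Fin m → K), (∀ x, x ∈ M ↔ ∃ a ∈ A ⊓ Bj σ m (j + 1), a y + y + x ∈ Vf K m (j + 1)) ∧
    (Bj σ m j).relIndex (A ⊓ Bj σ m (j + 1)) * q ^ (2 * j + 1) ≤ Nat.card M ∧ Nat.card M ≤ q ^ (2 * (m / 2)) := by
  let M : AddSubgroup (Fin m → K) := ⟨⟨⟨{x | ∃ a ∈ A ⊓ Bj σ m (j + 1), a y + y + x ∈ Vf K m (j + 1)},
    fun {x z} ⟨a, i, j⟩ ⟨b, i', j'⟩ => ⟨a * b, mul_mem i i', by
      convert add_mem (add_mem j j') (i.2.2 _ (d.Dy l e hj hy i'.1)) using 1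
      rw [(l i.1).1.add]; ext; simp; grind⟩⟩, ⟨1, one_mem _, by simp [vv]⟩⟩, fun {x} => by
      rw [neg_eq_of_add_eq_zero_left (vv x)]; exact id⟩
  obtain ⟨u, hu, k⟩ := d.exy hj hy hy'
  obtain ⟨ω, o⟩ := d.om
  have z : ∀ x ∈ Vf K m j, hf σ x y = 0 := fun x i => hf_Vf i hy (by omega)
  refine ⟨M, fun _ => .rfl, ?_, d.ts M fun x ⟨a, i, j⟩ => ?_⟩
  · have := d.rel l e hj hy hy' (fun p : Vf K m j × {a : K // σ a = a} => p.1 + (ω * p.2) • u) M (fun p p' f => ?_) (fun p p' f => ?_)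
      fun a i p => ⟨a, i, by
        rw [← add_assoc, vv, zero_add]; exact add_mem (Vf_mono j.le_succ p.1.2) (Submodule.smul_mem _ _ hu)⟩
    · rwa [Nat.card_prod, d.card_V (by omega), d.card_fix, ← pow_succ] at this
    · have h : p.2.1 = p'.2.1 := by
        simpa [z _ p.1.2, z _ p'.1.2, k, show ω ≠ 0 by rintro rfl; simp at o] using congrArg (hf σ · y) f
      exact Prod.ext (Subtype.ext (by simpa [h] using f)) (Subtype.ext h)
    · rw [om_eq o p.2.2 p'.2.2 (by simpa [z _ p.1.2, z _ p'.1.2, k] using f), add_add_add_comm, vv, add_zero]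
      exact add_mem p.1.2 p'.1.2
  · have h := d.Dy l e hj hy i.1
    obtain ⟨z, rfl⟩ : ∃ z, x = a y + y + z := ⟨_, (add_sub_cancel _ x).symm⟩
    rw [← add_assoc, vv, zero_add] at j
    have := d.dz l e i.1 y y
    generalize a y + y = D at *
    simp [this, hf_Vf h j (by omega), hf_Vf j h (by omega), hf_Vf j j (by omega)]
omit hy hy' in
theorem step' {r : ℕ} (h : m / 2 = j + 1 + r) : (Bj σ m j).relIndex (A ⊓ Bj σ m (j + 1)) ≤ q ^ (2 * r + 1) := by
  obtain ⟨y, a, b⟩ := exists_out (T := Vf K m (m - (j + 1))) (T' := Vf K m (m - j)) (by rw [Vf_dim, Vf_dim] <;> omega)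
  obtain ⟨M, -, c, f⟩ := d.step l e hj a b
  refine Nat.le_of_mul_le_mul_right ((c.trans f).trans_eq ?_) (pow_pos (by have := d.q1; omega) _)
  rw [← pow_add, h]; congr 1; ring
omit hj hy hy' e l d in
theorem _root_.CF.Ud.Bj_card (A : Subgroup (Perm (Fin m → K))) (h : j < m / 2) :
    Nat.card ↥(A ⊓ Bj σ m (j + 1)) = Nat.card ↥(A ⊓ Bj σ m j) * (Bj σ m j).relIndex (A ⊓ Bj σ m (j + 1)) := by
  rw [← card_ri _ (Bj σ m j), inf_assoc, inf_eq_right.2 (show Bj σ m j ≤ Bj σ m (j + 1) from fun g i =>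
    ⟨i.1, fun x k => Vf_mono j.le_succ (i.2 x (Vf_mono (by omega) k))⟩)]
omit hj hy hy' in
theorem chain {r s : ℕ} (h : m / 2 = j + s + r) :
    Nat.card ↥(A ⊓ Bj σ m (j + s)) * q ^ r ^ 2 ≤ Nat.card ↥(A ⊓ Bj σ m j) * q ^ (s + r) ^ 2 := by
  induction s generalizing r with
  | zero => simp
  | succ s ih =>
    refine le_trans ?_ ((ih (r := r + 1) (by omega)).trans_eq (by rw [add_assoc, add_comm 1]))
    rw [← add_assoc, Bj_card A (by omega), mul_assoc, show (r + 1) ^ 2 = 2 * r + 1 + r ^ 2 by ring, pow_add]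
    gcongr; exact d.step' l e (by omega) (by omega)
omit hj hy hy' e in
theorem B_top : A ⊓ Bj σ m (m / 2) = A := inf_eq_left.2 fun g i => ⟨l i, fun x k =>
  UT_D (l i) (Vf_mono (by omega) k)⟩
omit hj hy hy' e l d in
theorem _root_.CF.Ud.B_bot (A : Subgroup (Perm (Fin m → K))) : Nat.card ↥(A ⊓ Bj σ m 0) = 1 := by
  rw [card_eq_one, eq_bot_iff]
  exact fun g i => Equiv.ext fun x => sub_eq_zero.1 ((vsub _ _).trans (Vf_zero.1 (i.2.2 x Vf_top)))
omit hj hy hy'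
theorem upB (j r : ℕ) (h : m / 2 = j + r) : Nat.card A ≤ Nat.card ↥(A ⊓ Bj σ m j) * q ^ r ^ 2 := by
  simpa [← h, d.B_top l] using d.chain l e (s := r) (r := 0) h
theorem jU : Nat.card A ≤ q ^ (m / 2) ^ 2 := by simpa only [B_bot, one_mul] using d.upB l e 0 (m / 2) (by simp)
theorem jG (i : Sem σ σ α) (a2 : α * α = 1) (f : Fl α) (c : ∀ a ∈ A, a * α = α * a) : Nat.card A * q ^ 2 ≤ q ^ (m / 2) ^ 2 := by
  have hm := d.hm
  obtain ⟨r, h⟩ : ∃ r, m / 2 = 2 + (r + 1) := ⟨m / 2 - 3, by omega⟩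
  have ex : ∀ j < m, ∃ y ∈ Vf K m (m - j), y ∉ Vf K m (m - (j + 1)) ∧ α y = y := fun j k =>
    d.fix_out i a2 (f _) (by rw [Vf_dim, Vf_dim] <;> omega)
  obtain ⟨y, a, b, s⟩ := ex 0 (by omega)
  obtain ⟨z, a', b', s'⟩ := ex 1 (by omega)
  have D : ∀ a ∈ A, ∀ y, α y = y → α (a y + y) = a y + y := fun a k y s => by rw [i.add, ← Perm.mul_apply, ← c a k, Perm.mul_apply, s]
  obtain ⟨R, hR⟩ : ∃ R, R = {x | (∃ a ∈ A, a z + z = x) ∨ x ∈ Vf K m 1 ∧ α x = x} := ⟨_, rfl⟩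
  have fx : ∀ x ∈ R, α x = x := by
    rintro x k; rw [hR] at k; obtain ⟨a, k, rfl⟩ | k := k; exacts [D a k z s', k.2]
  have h0 := d.rel l e (j := 0) (by omega) a b (fun _ : Unit => 0) {x | x ∈ pp σ (Submodule.span K R) ∧ α x = x}
    (Function.injective_of_subsingleton _) (by simp) fun g k _ => by
      rw [add_zero]
      refine ⟨mem_pp_span.2 fun x u => ?_, D g k.1 y s⟩
      rw [hR] at u
      obtain ⟨p, u, rfl⟩ | u := u
      exacts [d.orth l e (by omega) a a' k u, hf_Vf (d.Dy l e (by omega) a k.1) u.1 (by omega)]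
  have h1 := d.rel l e (j := 1) (by omega) a' b' (fun x : {x | x ∈ Vf K m 1 ∧ α x = x} => x.1) {x | x ∈ Submodule.span K R ∧ α x = x}
    Subtype.val_injective (fun x x' _ => add_mem x.2.1 x'.2.1) fun g k x => ⟨add_mem (Submodule.subset_span (hR ▸ .inl ⟨g, k.1, rfl⟩))
      (Submodule.subset_span (hR ▸ .inr x.2)), by rw [i.add, D g k.1 z s', x.2.2]⟩
  rw [d.card_fx i a2 (d.pp_inv i a2 fx), Nat.card_unique, mul_one] at h0
  rw [d.card_fx i a2 (span_inv i fx), d.card_fx i a2 (f 1), Vf_dim (by omega), pow_one] at h1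
  have h2 := d.upB l e 2 _ h
  rw [Bj_card A (by omega), Bj_card A (by omega), B_bot, one_mul] at h2
  have h3 := Nat.mul_le_mul h0 h1
  rw [← mul_assoc, ← pow_add, add_comm (finrank K _), d.pp_dim] at h3
  refine Nat.le_of_mul_le_mul_right (c := q) ?_ (by have := d.q1; omega)
  generalize _ * (Bj σ m 1).relIndex _ = N at h2 h3
  calc _ ≤ N * q ^ (r + 1) ^ 2 * q ^ 2 * q := by gcongr
    _ = N * q * q ^ ((r + 1) ^ 2 + 2) := by ring
    _ ≤ q ^ m * q ^ ((r + 1) ^ 2 + 2) := by gcongr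
    _ ≤ _ := by rw [← pow_add, ← pow_succ]; exact Nat.pow_le_pow_right d.q1.le (by rw [h]; nlinarith [show m ≤ 2 * (m / 2) + 1 by omega])
theorem jE (c : q ^ (m / 2) ^ 2 ≤ Nat.card A) : A ≤ WW σ m := by
  have q0 : 0 < q := by have := d.q1; omega
  have eq : ∀ j < m / 2, q ^ (2 * (m / 2)) ≤ (Bj σ m j).relIndex (A ⊓ Bj σ m (j + 1)) * q ^ (2 * j + 1) := fun j k => by
    obtain ⟨r, h⟩ : ∃ r, m / 2 = j + 1 + r := ⟨m / 2 - (j + 1), by omega⟩
    have h1 := d.chain l e (j := 0) (s := j) (r := r + 1) (by omega)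
    have h2 := d.upB l e _ _ h
    rw [B_bot, one_mul, zero_add, show j + (r + 1) = m / 2 by omega] at h1
    rw [Bj_card A k, mul_assoc] at h2
    have h3 := Nat.le_of_mul_le_mul_left (h1.trans (c.trans h2)) Nat.card_pos
    rw [show (r + 1) ^ 2 = 2 * r + 1 + r ^ 2 by ring, pow_add] at h3
    rw [show 2 * (m / 2) = 2 * r + 1 + (2 * j + 1) by omega, pow_add]
    exact Nat.mul_le_mul_right _ (Nat.le_of_mul_le_mul_right h3 (pow_pos q0 _))
  have y1 : ∀ j < m / 2, (bv (m - (j + 1)) : Fin m → K) ∈ Vf K m (m - j) := fun j k => bv_mem (by omega)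
  have y2 : ∀ j < m / 2, (bv (m - (j + 1)) : Fin m → K) ∉ Vf K m (m - (j + 1)) := fun j k u => by
    simpa [bv] using u ⟨m - (j + 1), by omega⟩ le_rfl
  have P : ∀ r j, m / 2 = j + r → ∀ x ∈ Vf K m (m - j), (j < m / 2 → ∀ a ∈ A ⊓ Bj σ m (j + 1),
      hf σ (a (bv (m - (j + 1))) + bv (m - (j + 1))) x = 0) → x ∈ Vf K m (m - m / 2) := fun r => by
    induction r with
    | zero => exact fun j h x i _ => by rwa [h]
    | succ r ih =>
      intro j h x i f
      have k : j < m / 2 := by omega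
      have h1 := d.rel l e k (y1 j k) (y2 j k) (fun x : Vf K m j => x.1) (Vf K m (m / 2) ⊓ pp σ (Submodule.span K {x}) :)
        Subtype.val_injective (fun x x' _ => add_mem x.2 x'.2) fun a u z => ⟨add_mem (d.Vmax (d.dz l e u.1 _ _) (ih (j + 1) (by omega) _
          (d.Dy l e k (y1 j k) u.1) fun k' b u' => d.sw (d.orth l e k (y1 j k) (Vf_mono (by omega) (y1 _ k')) u u'.1))) (Vf_mono k.le z.2),
          mem_perp_singleton.2 (by rw [sq_ap, hf_add_l, f k a u, hf_Vf z.2 i (by omega), add_zero])⟩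
      have h2 := eq j k
      rw [d.card_V (by omega)] at h1
      have h3 : q ^ (2 * (m / 2)) ≤ q ^ (2 * finrank K ↥(Vf K m (m / 2) ⊓ pp σ (Submodule.span K {x})) + 1) := by
        rw [pow_succ, ← d.card_T]; rw [pow_succ, ← mul_assoc] at h2; exact h2.trans (Nat.mul_le_mul_right _ h1)
      have h4 := (Nat.pow_le_pow_iff_right d.q1).1 h3
      have h5 := Submodule.eq_of_le_of_finrank_le (inf_le_left (a := Vf K m (m / 2)) (b := pp σ (Submodule.span K {x})))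
        (by rw [d.Vl_dim]; omega)
      exact d.Vpp.le fun z u => d.sw (mem_perp_singleton.1 (h5.ge u).2)
  intro b hb
  refine ⟨(l hb).1, fun x => ?_⟩
  rw [← sum_bv x, (l hb).1.sum, ← Finset.sum_sub_distrib]
  refine Submodule.sum_mem _ fun i _ => ?_
  rw [Sem.smul1 (l hb).1, ← smul_sub, vsub]
  refine Submodule.smul_mem _ _ ?_
  by_cases k : i < m - m / 2
  · exact UT_D (l hb) (bv_mem (by omega))
  obtain ⟨j, k, h⟩ : ∃ j < m / 2, i.val = m - (j + 1) := ⟨m - 1 - i, by omega, by omega⟩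
  obtain ⟨M, h1, h2, -⟩ := d.step l e k (y1 j k) (y2 j k)
  have h3 : M = (Vf K m (m / 2)).toAddSubgroup := AddSubgroup.eq_of_le_of_card_ge (fun x u => by
    obtain ⟨a, u, u'⟩ := (h1 x).1 u
    have := add_mem (d.Vmax (d.dz l e u.1 _ _) (P (m / 2 - (j + 1)) (j + 1) (by omega) _ (d.Dy l e k (y1 j k) u.1) fun k' b u' =>
      d.sw (d.orth l e k (y1 j k) (Vf_mono (by omega) (y1 _ k')) u u'.1))) (Vf_mono k u')
    rwa [← add_assoc, vv, zero_add] at this) ((d.card_V (by omega)).le.trans ((eq j k).trans h2))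
  have F : ∀ z ∈ Vf K m (m / 2), σ (hf σ z (b (bv i) + bv i)) = hf σ z (b (bv i) + bv i) := fun z u => by
    obtain ⟨a, u, u'⟩ := (h1 z).1 (h3.ge u)
    have := hf_Vf (σ := σ) u' (d.Dy l e k (y1 j k) hb) (by omega)
    rw [hf_add_l, ← h, CharTwo.add_eq_zero] at this
    rw [← this, d.sy, d.dd l e hb u.1]
  obtain ⟨ω, o⟩ := d.om
  refine d.Vmax (d.dz l e hb _ _) (d.Vpp.le fun z u => d.sw ?_)
  have := F _ (Submodule.smul_mem _ ω u)
  rw [hf_smul_l, map_mul, F z u] at this; grind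
end el
end Dm

end CF.Ud
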