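import Cfsg.Agent.Ud.D2
import Cfsg.Agent.Ab2.Hy

/-! Data for the split endgame. -/

set_option autoImplicit false
set_option linter.unusedSectionVars false
set_option linter.unusedVariables false

namespace CF.Ud

open Subgroup Equiv CF.Geom Module CF.Loc CF.LX CF.Dbl
open scoped commutatorElement

variable {K : Type} [Field K] [Fintype K] [CharP K 2] {m q : ℕ} {σ θ : K ≃+* K} {a b c ζ ζ' : K}
  {g p k ξ w : Perm (Fin m → K)} {u v x y e n n' u' v' : Fin m → K} {T T' S : Submodule K (Fin m → K)}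
  {H P O : Subgroup (Perm (Fin m → K))} {G : Type*} [Group G]

theorem card_sub (T : Submodule K (Fin m → K)) : Nat.card T = Nat.card K ^ finrank K T := Module.natCard_eq_pow_finrank
theorem odd_two {A : Type*} [Group A] {O : Subgroup A} {x : A} (o : Odd (Nat.card O)) (i : x ∈ O) (e : E2 x) : x = 1 :=
  e.odd o (congrArg Subtype.val (pow_card_eq_one' (x := (⟨x, i⟩ : O))))
theorem five {M : Type*} [CommGroup M] {A B : Subgroup M} (e : A ⊓ B = ⊥) (a : Fin 5 → M) (l : ∀ i, a i ∈ A ∨ a i ∈ B)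
    (p : ∏ i, a i = 1) (n : ∀ i, a i ≠ 1) (n' : ∀ i j, i ≠ j → a i * a j ≠ 1) : (∀ i, a i ∈ A) ∨ ∀ i, a i ∈ B := by
  classical
  have k : ∀ J : Finset (Fin 5), J.card ≤ 2 → ∏ i ∈ J, a i = 1 → J = ∅ := fun J c h => by
    obtain c | c | c : J.card = 0 ∨ J.card = 1 ∨ J.card = 2 := by omega
    · exact Finset.card_eq_zero.1 c
    · obtain ⟨i, rfl⟩ := Finset.card_eq_one.1 c; exact absurd (by simpa using h) (n i)
    · obtain ⟨i, j, c', rfl⟩ := Finset.card_eq_two.1 c; exact absurd (by rwa [Finset.prod_pair c'] at h) (n' i j c')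
  have h1 := Finset.prod_filter_mul_prod_filter_not Finset.univ (fun i => a i ∈ A) a
  have h2 := Finset.card_filter_add_card_filter_not (s := Finset.univ) (fun i => a i ∈ A)
  have h3 := A.prod_mem (t := Finset.univ.filter fun i => a i ∈ A) (f := a) fun i h => by simpa using h
  have h4 := B.prod_mem (t := Finset.univ.filter fun i => ¬ a i ∈ A) (f := a) fun i h => (l i).resolve_left (by simpa using h)
  rw [p, mul_eq_one_iff_eq_inv] at h1
  have h5 := mem_bot.1 (e.le (mem_inf.2 ⟨h3, h1 ▸ inv_mem h4⟩))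
  simp only [Finset.card_univ, Fintype.card_fin] at h2
  by_cases c : (Finset.univ.filter fun i => a i ∈ A).card ≤ 2
  · exact .inr fun i => (l i).resolve_left (by simpa using Finset.filter_eq_empty_iff.1 (k _ c h5) (Finset.mem_univ i))
  · exact .inl fun i => by
      simpa using Finset.filter_eq_empty_iff.1 (k _ (by omega) (inv_eq_one.1 (h1.symm.trans h5))) (Finset.mem_univ i)

variable (K m) in
/-- the parameter space of `XP` -/
def NX : Submodule K (Fin m → K) where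
  carrier := {n | ∀ i : Fin m, i.val < m - m / 2 ∨ i.val = m - 1 → n i = 0}
  add_mem' := fun a b i h => by simp [a i h, b i h]
  zero_mem' := fun _ _ => rfl
  smul_mem' := fun c _ a i h => by simp [a i h]

theorem NX_ti : Ti σ (NX K m) := fun x a y b => Finset.sum_eq_zero fun i _ => by
  by_cases e : i.val < m - m / 2
  · rw [a i (.inl e), zero_mul]
  · rw [b i.rev (.inl (by rw [Fin.val_rev]; omega)), map_zero, mul_zero]

namespace Dm
variable (d : Dm σ q m)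
include d
theorem Q_cj (l : Sem σ θ ξ) (hv : hf σ v v = 0) (v0 : v ≠ 0) (e : ξ v = c • v) (i : g ∈ Q σ v) : ξ * g * ξ⁻¹ ∈ Q σ v := by
  obtain ⟨n, ζ, o, rfl⟩ := (mem_Q d.iv hv).1 i
  have o' := o.cj l
  have c0 : σ c ≠ 0 := fun z => l.ne v0 (by simp [e, (map_eq_zero σ).1 z])
  rw [e] at o'
  rw [E_cj l, e, E_smul o' hv (by simpa [c0] using o'.nv)]; exact E_Q _ _ _
theorem Q_nor (l : Sem σ θ ξ) (hv : hf σ v v = 0) (v0 : v ≠ 0) (e : ξ v = c • v) : ξ ∈ 𝐍(Q σ v) :=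
  mem_normalizer_fintype fun _ => d.Q_cj l hv v0 e
theorem Y_nor (hv : hf σ v v = 0) (v0 : v ≠ 0) : Y σ v ≤ 𝐍(Q σ v) := fun g i =>
  d.Q_nor (su_sem i.1) hv v0 (c := 1) (i.2.trans (one_smul ..).symm)
theorem Q_two (hv : hf σ v v = 0) : IsPGroup 2 (Q σ v) := isPGroup_iff_forall.2 fun g i => by
  obtain ⟨n, ζ, o, rfl⟩ := (mem_Q d.iv hv).1 i
  exact ⟨2, by rw [show 2 ^ 2 = 2 * 2 from rfl, pow_mul, pow_two, pow_two, E_sq o, tv_sq]⟩
theorem Q_fix (hv : hf σ v v = 0) (hy : hf σ y y = 0) (e : hf σ y v = 1) (i : k ∈ Q σ v) (f : k y = y) : k = 1 := by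
  refine d.ext_hyp hv hy e (Q_sem i) sem_one (d.Q_Y i).2 f fun x a b => ?_
  have := (Q_sem i).form1 x y
  obtain ⟨n, ζ, o, rfl⟩ := (mem_Q d.iv hv).1 i
  rw [f, b, E_ap o] at this
  simp [a, b, ← d.sy y v, e] at this
  simp [E_ap o, a, this]
theorem Z_cent (hv : hf σ v v = 0) : Y σ v ≤ 𝐂(Z σ v) := fun g i => d.W_line hv ▸ d.toFd.W_cent (su_sem i.1) fun x k => by
  obtain ⟨c, rfl⟩ := Submodule.mem_span_singleton.1 k
  rw [(su_sem i.1).smul1, show g v = v from i.2]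
theorem W_ab (l : Ti σ T) : WX σ T ≤ 𝐂(WX σ T) := fun w i => d.toFd.W_cent i.1 fun x j => W_fix i (l x j)
theorem W_two (l : Ti σ T) : IsPGroup 2 (WX σ T) := isPGroup_iff_forall.2 fun g i => e2_inv (W_sq l i)
theorem cz (e : σ a = a) : ∃ g ∈ Q σ (bv 0 : Fin m → K), ∃ p ∈ Q σ (bv 0 : Fin m → K), g * g = 1 ∧ E σ (bv 0) 0 a = ⁅g, p⁆ := by
  obtain ⟨n, n', h, -, -, k, -, -, f⟩ := d.tv_comm d.b00 e (bv 0)
  exact ⟨_, E_Q _ _ _, _, E_Q _ _ _, by rw [E_sq (ok_iso d.iv d.b00 h k), h, E_zero], f⟩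
theorem zd1 : E σ (bv 1 : Fin m → K) 0 1 ∈ ⁅UT σ m, UT σ m⁆ := by
  have hm := d.hm
  obtain ⟨n, n', -, -, h1, h2, h3, h4, f⟩ := d.tv_comm (v := (bv 1 : Fin m → K)) (by rw [hf_bb (by omega), if_neg (by omega)])
    (map_one σ) (bv 0)
  have k : ∀ n : Fin m → K, hf σ n (bv 0) = 0 → hf σ n (bv 1) = 0 → n ∈ Vf K m (m - 2) := fun n a b =>
    (Vf_pp (σ := σ) (i := 2) (by omega)).le (by rw [Vf_span (by omega), mem_pp_span]; rintro _ ⟨i, rfl⟩; fin_cases i; exacts [a, b])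
  exact f ▸ commutator_mem_commutator (E_UT (bv_mem one_lt_two) (k n h1 h2) (by omega) (by omega) _)
    (E_UT (bv_mem one_lt_two) (k n' h3 h4) (by omega) (by omega) _)
theorem sc_pow (s : Sem σ 1 g) (e : ∀ x, g x = c • w x) (l : Sem σ 1 w) (n : ℕ) (x : Fin m → K) : (g ^ n) x = c ^ n • (w ^ n) x := by
  induction n with
  | zero => simp
  | succ n ih => rw [pow_succ', pow_succ', pow_succ', Perm.mul_apply, ih, e, l.smul1, smul_smul]; rfl
theorem sc_odd2 (s : Sem σ 1 g) (e : ∀ x, g x = c • w x) (l : Sem σ 1 w) (w2 : w * w = 1) (f : w v = v) (v0 : v ≠ 0) {n : ℕ}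
    (o : Odd n) (h : g ^ n = 1) : w = 1 := by
  obtain ⟨k, rfl⟩ := o
  have := d.sc_pow s e l (2 * k + 1)
  rw [h, pow_succ w, pow_mul w, pow_two w, w2, one_pow, one_mul] at this
  exact (d.sc_W rfl f v0 this).symm
theorem five_W (hu : u ∈ T) (hv : v ∈ T) (l : Ti σ T) (r : LinearIndependent K ![u, v]) : ∃ a : Fin 5 → Fin m → K, a 0 = v ∧ a 4 = u ∧
    (∀ i, a i ∈ T) ∧ (∀ i, a i ≠ 0) ∧ (∀ i j, i ≠ j → ∀ c : K, a j ≠ c • a i) ∧
    E σ (a 0) 0 1 * E σ (a 1) 0 1 * E σ (a 2) 0 1 * E σ (a 3) 0 1 * E σ (a 4) 0 1 = 1 := by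
  obtain ⟨ω, o⟩ := d.om
  let s : Fin 5 → K := ![0, 1, ω, σ ω, 1]
  let t : Fin 5 → K := ![1, 1, 1, 1, 0]
  have := d.iv ω
  have : ω ≠ 0 := fun e => by simp [e] at o
  have : ω ≠ 1 := fun e => by simp [e, CharTwo.add_self_eq_zero] at o
  refine ⟨fun i => s i • u + t i • v, by simp [s, t], by simp [s, t], fun i => add_mem (T.smul_mem _ hu) (T.smul_mem _ hv),
    fun i e => ?_, fun i j n c e => ?_, ?_⟩
  · have := LinearIndependent.pair_iff.1 r _ _ e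
    fin_cases i <;> simp [s, t] at this
  · rw [smul_add, smul_smul, smul_smul] at e
    have := li_eq r e
    fin_cases i <;> fin_cases j <;> simp [s, t] at this n <;> grind
  · simp [s, t, tv_five d.iv (l u hu u hu) (l v hv v hv) (l u hu v hv) (map_one σ) o, tv_sq]
theorem sg (l : O ≤ SU σ m) (o : Odd (Nat.card O)) (n : UT σ m ≤ 𝐍(O)) : ∀ g ∈ O, Sc g := by
  have t := Vf_ti (σ := σ) (m := m) le_rfl
  have cq : ∀ g ∈ O, ∀ v (c : K), hf σ v v = 0 → v ≠ 0 → g v = c • v → ∀ k ∈ Q σ v, k ∈ UT σ m → g * k = k * g :=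
    fun g i v c a b e k j j' => commutatorElement_eq_one_iff_mul_comm.1 (odd_two o (by
      simpa only [commutatorElement_def, mul_assoc] using mul_mem i ((mem_normalizer_iff.1 (n j') _).1 (inv_mem i)))
      (e2_of (d.Q_two a) (mul_mem (d.Q_cj (su_sem (l i)) a b e j) (inv_mem j))))
  have po : ∀ g ∈ O, g ^ Nat.card O = 1 := fun g i => congrArg Subtype.val (pow_card_eq_one' (x := (⟨g, i⟩ : O)))
  have cw : O ≤ 𝐂(WW σ m) := Ab2.le_of_hyp (BG.Abelem.mk' Nat.prime_two (d.W_ab t) fun a i => (pow_two a).trans (W_sq t i))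
    (fun e => d.tv_ne d.b00 d.b0 (map_one σ) one_ne_zero (mem_bot.1 (e.le (E_W d.b0V (zero_mem _) 1)))) (d.W_le.trans n)
    (Bender.pi_of_odd o) fun D hD g ⟨i, j⟩ => by
    obtain ⟨v, a, v0, b⟩ : ∃ v ∈ Vf K m (m / 2), v ≠ 0 ∧ E σ v 0 1 ∈ D := by
      by_contra! z
      obtain ⟨u, a, v, b, r⟩ := exists_li (T := Vf K m (m / 2)) (by have := d.l3; have := d.Vl_dim; omega)
      obtain ⟨a, -, -, h1, h2, -, h3⟩ := d.five_W a b t r
      have k := fun i j => hD.mul_mem (E_W (σ := σ) (h1 i) (zero_mem _) 1) (E_W (h1 j) (zero_mem _) 1) (z _ (h1 i) (h2 i)) (z _ (h1 j) (h2 j))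
      rw [mul_eq_one_iff_eq_inv, mul_assoc] at h3
      exact z _ (h1 4) (h2 4) (inv_mem_iff.1 (h3 ▸ mul_mem (k 0 1) (k 2 3)))
    have s := su_sem (l i)
    obtain ⟨c, h1, h2⟩ := d.tv_fix s (t v a v a) v0 (mem_centralizer_iff'.1 j _ b).symm
    have h3 : σ c * σ (σ c) = 1 := by rw [d.iv, mul_comm, h2]
    obtain ⟨g', hg⟩ : ∃ g', g' = sm _ h3 * g := ⟨_, rfl⟩
    have e : ∀ x, g x = c • g' x := fun x => by simp [hg, sm_ap, smul_smul, h2]
    have s' : Sem σ 1 g' := hg ▸ (sm_sem h3).mul1 s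
    have f : g' v = v := by simp [hg, sm_ap, h1, smul_smul, mul_comm, h2]
    have k : ∀ y ∈ Vf K m (m / 2), ∃ a : K, g' y = y + a • v := fun y b => by
      have ok := ok_iso d.iv (t v a v a) (t y b y b) (t y b v a)
      obtain ⟨o', r⟩ := d.E_eig s h1 h2 ok
      exact (d.E_inj ok o' v0 ((conj_eq_iff.2 (cq g i v c ok.vv v0 h1 _ (E_Q _ _ _) (d.W_le (E_W a b _)))).symm.trans r)).imp
        fun _ k => hg ▸ k.1
    have k' : ∀ y ∈ Vf K m (m / 2), g' y = y := fun y b => by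
      obtain ⟨x, r⟩ := k y b
      have : ∀ n : ℕ, (g' ^ n) y = y + ((n : K) * x) • v ∧ (g' ^ n) v = v := fun n => by
        induction n with
        | zero => simp
        | succ n ih => rw [pow_succ', Perm.mul_apply, Perm.mul_apply, ih.1, ih.2, s'.add, s'.smul1, r, f]; simp [add_mul, add_smul]; abel
      have p := d.sc_pow s e s' (Nat.card O)
      have p1 := p v
      rw [po g i, (this _).2] at p1
      have p2 := p y
      rw [po g i, (this _).1, ← smul_left_injective K v0 ((one_smul K v).trans p1), CharTwo.natCast_eq_ite, if_neg (by simpa using o),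
        one_smul, one_mul] at p2
      exact r.trans p2.symm
    refine mem_centralizer_iff'.2 fun w j => ?_
    rw [show g = sm _ h2 * g' from Equiv.ext e, ← mul_assoc, ← sc_comm ⟨c, sm_ap h2⟩ j.1, mul_assoc,
      mem_centralizer_iff'.1 (d.toFd.W_cent s' k') w j, mul_assoc]
  intro g i
  have s := su_sem (l i)
  obtain ⟨c, h1, -⟩ := d.tv_fix s d.b00 d.b0 (mem_centralizer_iff'.1 (cw i) _ (E_W d.b0V (zero_mem _) 1)).symm
  obtain ⟨c, w, a, -, b⟩ := d.cQ0 d.b00 d.b0 ⟨_, s⟩ (mem_centralizer_iff'.2 fun k j => (cq g i _ c d.b00 d.b0 h1 k j (d.Q_le j)).symm)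
  exact ⟨c, by simpa [d.sc_odd2 s b (Q_sem (Z_le_Q a)) (d.Z_sq d.b00 a) (d.Q_Y (Z_le_Q a)).2 d.b0 o (po g i)] using b⟩
theorem cn5 {f : WW σ m →* G} (i : Function.Injective f) {S₁ S₂ : Subgroup G} (c : S₁ ≤ 𝐂(S₂)) (e : S₁ ⊓ S₂ = ⊥)
    (l : ∀ v ∈ Vf K m (m / 2), up f (E σ v 0 1) ∈ S₁ ∨ up f (E σ v 0 1) ∈ S₂) : f.range ≤ S₁ ∨ f.range ≤ S₂ := by
  have t := Vf_ti (σ := σ) (m := m) le_rfl
  letI : CommGroup (WW σ m) := ⟨fun a b => Subtype.ext (mem_centralizer_iff'.1 (d.W_ab t b.2) _ a.2)⟩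
  have key : ∀ {S₁ S₂ : Subgroup G}, S₁ ⊓ S₂ = ⊥ → (∀ v ∈ Vf K m (m / 2), up f (E σ v 0 1) ∈ S₁ ∨ up f (E σ v 0 1) ∈ S₂) →
      up f (E σ (bv 0) 0 1) ∈ S₁ → f.range ≤ S₁ := fun {S₁ S₂} e l h => by
    have k : ∀ u ∈ Vf K m (m / 2), ∀ v ∈ Vf K m (m / 2), LinearIndependent K ![u, v] → up f (E σ u 0 1) ∈ S₁ →
        up f (E σ v 0 1) ∈ S₁ := fun u a v b r h => by
      obtain ⟨a, h0, h4, h1, h2, h3, h5⟩ := d.five_W a b t r
      have w := fun i => E_W (σ := σ) (h1 i) (zero_mem _) 1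
      have ne := fun i => d.tv_ne (t _ (h1 i) _ (h1 i)) (h2 i) (map_one σ) one_ne_zero
      rcases five (A := S₁.comap f) (B := S₂.comap f) (by rw [← comap_inf, e, MonoidHom.comap_bot, (f.ker_eq_bot_iff).2 i])
        (fun i => ⟨_, w i⟩) (fun i => by simpa [up_eq (w i)] using l _ (h1 i)) (Subtype.ext (by simpa [Fin.prod_univ_five] using h5))
        (fun i e => ne i (congrArg Subtype.val e)) (fun i j n e => by
          have := (mul_eq_one_iff_eq_inv.1 (congrArg Subtype.val e)).trans (inv_eq_of_mul_eq_one_left (tv_sq _ _))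
          obtain ⟨c, k, -⟩ := d.tv_inj (t _ (h1 i) _ (h1 i)) (t _ (h1 j) _ (h1 j)) (map_one σ) (map_one σ) one_ne_zero (h2 i) this
          exact h3 i j n c k) with z | z
      · rw [← h0, up_eq (w 0)]; exact z 0
      · rw [← h4, up_eq (w 4)] at h
        exact absurd (congrArg Subtype.val (i ((mem_bot.1 (e.le ⟨h, z 4⟩)).trans f.map_one.symm))) (ne 4)
    have : WW σ m ≤ (S₁.comap f).map (WW σ m).subtype := d.W_gen t fun v a => ⟨⟨_, E_W a (zero_mem _) 1⟩, by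
      change f _ ∈ S₁
      rw [← up_eq]
      by_cases v0 : v = 0
      · simp [v0, E_zero_v]
      obtain ⟨w, b, r⟩ := exists_out (T' := Vf K m (m / 2)) ((pair_dim (bv 0) v).trans_lt (by have := d.l3; have := d.Vl_dim; omega))
      exact k w b v a (LinearIndependent.pair_symm_iff.1 (li_two v0 fun k => r (Submodule.span_mono (by simp) k)))
        (k _ d.b0V w b (li_two d.b0 fun k => r (Submodule.span_mono (by simp) k)) h), rfl⟩
    rintro _ ⟨w, rfl⟩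
    obtain ⟨_, a, b⟩ := this w.2
    exact Subtype.ext b ▸ a
  exact (l _ d.b0V).imp (key e l) (key (inf_comm S₁ S₂ ▸ e) fun v a => (l v a).symm)
theorem NX_perp (h : n ∈ NX K m) : hf σ n (bv 0) = 0 := by
  have := d.hm
  rw [← h ⟨m - 1, by omega⟩ (.inr rfl), ← hf_bv (σ := σ) n]; congr 2; simp; omega
theorem NX_ok (h : n ∈ NX K m) : Ok σ (bv 0) n 0 := ok_iso d.iv d.b00 (NX_ti n h n h) (d.NX_perp h)
theorem mem_XP : g ∈ XP σ m ↔ ∃ n ∈ NX K m, g = E σ (bv 0) n 0 := by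
  refine ⟨fun k => ?_, fun k => subset_closure k⟩
  induction k using closure_induction with
  | mem _ e => exact e
  | one => exact ⟨0, zero_mem _, (E_zero _).symm⟩
  | mul a b _ _ p q =>
    obtain ⟨_, p, rfl⟩ := p; obtain ⟨_, q, rfl⟩ := q
    exact ⟨_, add_mem p q, by simp [E_mul (d.NX_ok p) (d.NX_ok q), NX_ti _ q _ p]⟩
  | inv a _ p => obtain ⟨_, p, rfl⟩ := p; exact ⟨_, p, by rw [E_inv (d.NX_ok p), map_zero]⟩
theorem X_Q : XP σ m ≤ Q σ (bv 0) := (closure_le _).2 fun _ ⟨_, _, e⟩ => e ▸ E_Q _ _ _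
theorem X_le : XP σ m ≤ UT σ m := d.X_Q.trans d.Q_le
theorem X_el : El (XP σ m) := fun g i => by
  obtain ⟨n, h, rfl⟩ := d.mem_XP.1 i
  rw [E_sq (d.NX_ok h), NX_ti n h n h, E_zero]
theorem b2N : (bv (m - 2) : Fin m → K) ∈ NX K m := fun i h => if_neg (by have := d.hm; omega)
theorem X_p : E σ (bv 0) (bv (m - 2)) 0 ∈ XP σ m := d.mem_XP.2 ⟨_, d.b2N, rfl⟩
theorem NX_dual (h : n ∈ NX K m) (n0 : n ≠ 0) : ∃ p ∈ Vf K m (m / 2), hf σ n p = 1 := by
  obtain ⟨i, k⟩ := Function.ne_iff.1 n0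
  have : ¬ i.val < m - m / 2 := fun e => k (h i (.inl e))
  exact ⟨σ (n i)⁻¹ • bv i.rev, Submodule.smul_mem _ _ (bv_mem (by rw [Fin.val_rev]; omega)), by
    rw [hf_smul_r, d.iv, hf_bv, inv_mul_cancel₀ k]⟩
theorem wittP2 {p p' : Fin m → K} (hu : u ∈ Vf K m (m / 2)) (hu' : u' ∈ Vf K m (m / 2)) (u0 : u ≠ 0) (u0' : u' ≠ 0)
    (hp : p ∈ Vf K m (m / 2)) (hp' : p' ∈ Vf K m (m / 2)) (hn : hf σ n n = 0) (hn' : hf σ n' n' = 0) (a : hf σ n u = 0)
    (a' : hf σ n' u' = 0) (b : hf σ n p = 1) (b' : hf σ n' p' = 1) : ∃ g ∈ PP σ m, g u = u' ∧ g n = n' := by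
  have li : ∀ {u p n : Fin m → K}, u ≠ 0 → hf σ n u = 0 → hf σ n p = 1 → LinearIndependent K ![u, p] := fun u0 a b => li_two u0 fun k => by
    obtain ⟨c, rfl⟩ := Submodule.mem_span_singleton.1 k; simp [a] at b
  obtain ⟨g, i, k⟩ := d.wittP (by have := d.l3; omega) (li u0 a b) (li u0' a' b') (by simp [Fin.forall_fin_two, *])
    (by simp [Fin.forall_fin_two, *])
  have s := su_sem i.1
  have k0 : g u = u' := k 0
  have k1 : g p = p' := k 1
  obtain ⟨o, r⟩ := d.Q_move (Vf_ti le_rfl _ hp' _ hp') (y := g n) (by rw [s.form1, hn]) hn' (by rw [← k1, s.form1, b]) b'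
  exact ⟨_, mul_mem (d.E_PP hp' _ _) i, by
    rw [Perm.mul_apply, k0, E_fix (Vf_ti le_rfl _ hu' _ hp') (d.sw (by rw [hf_add_l, a', ← k0, s.form1, a, add_zero]))], r⟩
theorem X_cj (i : g ∈ XP σ m) (g1 : g ≠ 1) : ∃ r ∈ PP σ m, r * E σ (bv 0) (bv (m - 2)) 0 * r⁻¹ = g := by
  obtain ⟨n, h, rfl⟩ := d.mem_XP.1 i
  obtain ⟨p, a, b⟩ := d.NX_dual d.b2N (bv_ne (by have := d.hm; omega))
  obtain ⟨p', a', b'⟩ := d.NX_dual h fun z => g1 (by rw [z, E_zero])
  obtain ⟨r, j, k, l⟩ := d.wittP2 d.b0V d.b0V d.b0 d.b0 a a' (NX_ti _ d.b2N _ d.b2N) (NX_ti _ h _ h) (d.NX_perp d.b2N) (d.NX_perp h) b b'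
  exact ⟨r, j, by rw [E_cj1 (su_sem j.1), k, l]⟩
theorem Z_W : Z σ (bv 0) ≤ WW σ m := (closure_le _).2 fun _ ⟨_, e⟩ => e ▸ E_W d.b0V (zero_mem _) _
theorem X_cen : WW σ m ⊓ 𝐂(XP σ m) = Z σ (bv 0) := by
  refine le_antisymm (fun w ⟨i, j⟩ => ?_) (le_inf d.Z_W (le_centralizer_iff.1 ((d.X_Q.trans d.Q_Y).trans (d.Z_cent d.b00))))
  have f : w (bv 0) = bv 0 := (d.U_le (d.W_le i)).2
  have k : ∀ n ∈ NX K m, ∃ a : K, w n = n + a • bv 0 ∧ a + σ a = 0 := fun n h => by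
    have := conj_eq_iff.2 (mem_centralizer_iff'.1 j _ (d.mem_XP.2 ⟨n, h, rfl⟩)).symm
    have o := (d.NX_ok h).cj i.1
    rw [E_cj1 i.1, f] at this; rw [f] at o
    simpa [eq_comm (a := (0 : K))] using d.E_inj (d.NX_ok h) o d.b0 this.symm
  have k' : ∀ n ∈ NX K m, w n = n := fun n h => by
    obtain ⟨ω, o⟩ := d.om
    obtain ⟨a, r, r'⟩ := k n h
    obtain ⟨b, s, s'⟩ := k _ (Submodule.smul_mem _ ω h)
    rw [i.1.smul1, r, smul_add, add_right_inj, smul_smul] at s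
    rw [← smul_left_injective K d.b0 s, map_mul] at s'
    rw [r, show a = 0 by grind, zero_smul, add_zero]
  rw [← d.W_line d.b00]
  refine d.mem_W i.1 fun x h => ?_
  have h1 := d.perp0 (h _ (Submodule.mem_span_singleton_self _))
  rw [show x = (fun i => if i.val < m - m / 2 then x i else 0) + fun i => if i.val < m - m / 2 then 0 else x i by
    ext i; by_cases e : i.val < m - m / 2 <;> simp [e], i.1.add, k' (fun i => if i.val < m - m / 2 then 0 else x i) fun i e => by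
      rcases e with e | e; exacts [if_pos e, by simp [h1 i e.ge]],
    W_fix i fun z l => hf_Vf (i := m - m / 2) (fun i e => if_neg (by omega)) l (by omega)]
theorem X_z : Z σ (bv 0) ≤ ⁅WW σ m, zpowers (E σ (bv 0 : Fin m → K) (bv (m - 2)) 0)⁆ := fun g i => by
  obtain ⟨a, e, rfl⟩ := (mem_Z d.iv d.b00).1 i
  obtain ⟨c, rfl⟩ := d.trc e
  have hm := d.hm
  have b : c • (bv 1 : Fin m → K) ∈ Vf K m (m / 2) := Submodule.smul_mem _ _ (bv_mem (by omega))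
  have := E_comm (ok_iso d.iv d.b00 (Vf_ti le_rfl _ b _ b) (Vf_ti le_rfl _ b _ d.b0V)) (d.NX_ok d.b2N)
  rw [← d.sy _ (bv (m - 2)), hf_smul_l, hf_bb (by omega), if_pos (by omega), mul_one] at this
  exact this ▸ commutator_mem_commutator (E_W d.b0V b _) (mem_zpowers _)
theorem X_card : Nat.card ↥⁅WW σ m, zpowers (E σ (bv 0 : Fin m → K) (bv (m - 2)) 0)⁆ < (q ^ (m / 2)) ^ 2 := by
  have l : ⁅WW σ m, zpowers (E σ (bv 0 : Fin m → K) (bv (m - 2)) 0)⁆ ≤ WW σ m ⊓ Q σ (bv 0) :=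
    le_inf (commutator_le_left_of_le_normalizer (zpowers_le.2 (d.E_PP d.b0V _ _).2)) ((commutator_mono le_rfl
      (zpowers_le.2 (E_Q _ _ _))).trans (commutator_le_right_of_le_normalizer ((d.W_le.trans d.U_le).trans (d.Y_nor d.b00 d.b0))))
  refine (card_le_of_le l).trans_lt ?_
  rw [← pow_mul, mul_comm, pow_mul, ← d.card, ← d.Vl_dim, ← card_sub]
  obtain ⟨ω, o⟩ := d.om
  have := Fintype.ofFinite ↥(WW σ m ⊓ Q σ (bv 0))
  have := Fintype.ofFinite (Vf K m (m / 2))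
  rw [Nat.card_eq_fintype_card, Nat.card_eq_fintype_card]
  refine Fintype.card_lt_of_injective_of_notMem (fun w => ⟨_, W_add w.2.1 (bv (m - 1))⟩) (fun a b e => Subtype.ext
    (inv_mul_eq_one.1 (d.Q_fix d.b00 d.bll d.bl0 (mul_mem (inv_mem a.2.2) b.2.2) (Perm.inv_eq_iff_eq.2
      (add_right_cancel (congrArg Subtype.val e)).symm)))) (b := ⟨ω • bv 0, Submodule.smul_mem _ _ d.b0V⟩) fun ⟨w, e⟩ => ?_
  have := W_sa (Vf_ti le_rfl) w.2.1 (bv (m - 1)) (bv (m - 1))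
  rw [show w.1 (bv (m - 1)) + bv (m - 1) = ω • bv 0 from congrArg Subtype.val e] at this
  simp [d.b0l, d.bl0] at this
  grind
theorem X_r0 (i : w ∈ WW σ m) (e : ∀ g ∈ PP σ m, g * w * g⁻¹ ∈ 𝐂₁(E σ (bv 0) (bv (m - 2)) 0)) : w = 1 := by
  have k : ∀ g ∈ PP σ m, g * w * g⁻¹ ∈ Z σ (bv 0) := fun g j => d.X_cen.le ⟨(mem_normalizer_iff.1 j.2 w).1 i,
    mem_centralizer_iff'.2 fun x h => by
      by_cases x1 : x = 1
      · simp [x1]
      obtain ⟨r, a, rfl⟩ := d.X_cj h x1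
      have := congrArg (fun x => r * x * r⁻¹) (mem_c1.1 (e _ (mul_mem (inv_mem a) j)))
      simpa [mul_assoc] using this.symm⟩
  obtain ⟨a, h, rfl⟩ := (mem_Z d.iv d.b00).1 (by simpa using k 1 (one_mem _))
  have b1 : (bv 1 : Fin m → K) ∈ Vf K m (m / 2) := bv_mem (by have := d.l3; omega)
  obtain ⟨g, j, l⟩ := d.PP_tr d.b0V d.b0 b1 (bv_ne (by have := d.hm; omega))
  obtain ⟨b, h', r⟩ := (mem_Z d.iv d.b00).1 (k g j)
  by_contra n
  rw [tv_cj1 (su_sem j.1), l] at r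
  obtain ⟨c, s, -⟩ := d.tv_inj (Vf_ti le_rfl _ b1 _ b1) d.b00 h h' (fun z => n (by rw [z, E_zero])) (bv_ne (by have := d.hm; omega)) r
  simpa [bv] using congrFun s ⟨0, by have := d.hm; omega⟩
end Dm

end CF.Ud
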