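import Cfsg.Agent.Ud.E1
import Cfsg.Agent.Ud.Q1

/-! Calculus of pairs (model element, group element); factorisation of the unitriangular group. -/

set_option autoImplicit false
set_option linter.unusedSectionVars false
set_option linter.unusedVariables false

namespace CF.Ud.Hx

open Subgroup Equiv CF.Loc CF.LX CF.Dbl Module Ex
open scoped commutatorElement

section ring
variable {A : Type} [CommRing A] [Finite A] [CharP A 2] {m j : ℕ} {σ η : A ≃+* A} {g u : Perm (Fin m → A)} {v n y : Fin m → A}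
  {ζ ζ' : A} {H : Subgroup (Perm (Fin m → A))}

/-- unitriangular isometries fixing the first `j` hyperbolic pairs -/
def UF (σ : A ≃+* A) (m j : ℕ) : Subgroup (Perm (Fin m → A)) where
  carrier := {g | g ∈ UT σ m ∧ ∀ i < j, g (bv i) = bv i ∧ g (bv (m - 1 - i)) = bv (m - 1 - i)}
  mul_mem' := fun a b => ⟨mul_mem a.1 b.1, fun i h => by simp [a.2 i h, b.2 i h]⟩
  one_mem' := ⟨one_mem _, fun _ _ => ⟨rfl, rfl⟩⟩
  inv_mem' := fun a => ⟨inv_mem a.1, fun i h => ⟨Perm.inv_eq_iff_eq.2 (a.2 i h).1.symm, Perm.inv_eq_iff_eq.2 (a.2 i h).2.symm⟩⟩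

theorem UF_succ : UF σ m (j + 1) ≤ UF σ m j := fun _ a => ⟨a.1, fun i h => a.2 i (by omega)⟩
theorem hb (x : Fin m → A) (i : Fin m) : hf σ x (bv (m - 1 - i)) = x i := by
  rw [← hf_bv (σ := σ) x i, Fin.val_rev, Nat.sub_sub, add_comm]
theorem UF_fix (a : u ∈ UF σ m j) : u (bv j) = bv j := funext fun i => by
  by_cases e : j ≤ i
  · exact sub_eq_zero.1 (a.1.2.2.2.1 j _ (bv_mem j.lt_succ_self) i e)
  · rw [← hb (σ := σ) (u (bv j)) i, ← (a.2 i (by omega)).2, a.1.1.form1, hb]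
theorem UF_bot (a : u ∈ UF σ m (m / 2)) : u = 1 := a.1.1.ext_bv sem_one fun i => by
  rcases lt_trichotomy i.val (m / 2) with e | e | e
  exacts [(a.2 i e).1, by rw [e]; exact UF_fix a, by simpa [show m - 1 - (m - 1 - i) = i by omega] using (a.2 (m - 1 - i) (by omega)).2]
theorem E_one (o : Ok σ v n ζ) (e : hf σ y v = 1) (f : E σ v n ζ y = y) : E σ v n ζ = 1 := by
  rw [E_ap o, e, one_smul, mul_one, add_assoc, add_eq_left, add_eq_zero_iff_eq_neg, neg_eq_of_add_eq_zero_right (vv _)] at f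
  generalize hc : hf σ y n + ζ = c at f
  rw [f, hf_smul_r, e, mul_one] at hc
  rw [f, show ζ = 0 + c + σ c by grind, ← zero_add (c • v), E_shift (ok_tv o.iv o.vv (map_zero σ)), E_zero]
theorem UF_fac (s : Iv σ) (h : j < m / 2) (a : u ∈ UF σ m j) : ∃ n ζ, Ok σ (bv j) n ζ ∧ E σ (bv j) n ζ ∈ UF σ m j ∧
    (E σ (bv j) n ζ)⁻¹ * u ∈ UF σ m (j + 1) := by
  have h0 : ∀ x : Fin m → A, hf σ x (bv j) = x ⟨m - 1 - j, by omega⟩ := fun x => by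
    rw [← hb (σ := σ) x, show m - 1 - (m - 1 - j) = j by omega]
  have h1 : ∀ i, i ≠ j → i < m → hf σ (bv (m - 1 - i) : Fin m → A) (bv j) = 0 := fun i e l =>
    (h0 _).trans (if_neg (by simp only; omega))
  have h2 : ∀ i ≤ j, hf σ (bv i : Fin m → A) (bv j) = 0 := fun i l =>
    hf_Vf (bv_mem i.lt_succ_self) (bv_mem j.lt_succ_self) (by omega)
  have h3 : hf σ (bv (m - 1 - j) : Fin m → A) (bv j) = 1 := (h0 _).trans (if_pos rfl)
  have h4 : hf σ (bv (m - 1 - j) : Fin m → A) (bv (m - 1 - j)) = 0 := (hb _ ⟨j, by omega⟩).trans (if_neg (by simp; omega))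
  have h5 := a.1.2.2.2.1 _ _ (bv_mem (m - 1 - j).lt_succ_self)
  have h6 := a.1.1.form1
  generalize hy : (bv (m - 1 - j) : Fin m → A) = y at h3 h4 h5
  have k : ∀ z, u z = z → hf σ z (u y - y) = 0 := fun z e => by
    rw [vsub, hf_add_r, ← h6 z y, e, CharTwo.add_self_eq_zero]
  have o : Ok σ (bv j) (u y - y) (hf σ y (u y - y)) := ⟨s, h2 j le_rfl, hf_swap s (k _ (UF_fix a)), by
    simp only [vsub, hf_add_l, hf_add_r, map_add, hf_sym s, h6, h4, map_zero]; ring⟩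
  have b : E σ (bv j) (u y - y) (hf σ y (u y - y)) ∈ UF σ m j := ⟨E_UT (bv_mem j.lt_succ_self) h5 (by omega) (by omega) _, fun i l =>
    ⟨by rw [E_ap o, h2 i l.le, k _ (a.2 i l).1]; simp, by rw [E_ap o, h1 i l.ne (by omega), k _ (a.2 i l).2]; simp⟩⟩
  have c := mul_mem (inv_mem b) a
  refine ⟨_, _, o, b, c.1, fun i l => (Nat.lt_succ_iff_lt_or_eq.1 l).elim (c.2 i) fun e => ⟨by rw [e]; exact UF_fix c, ?_⟩⟩
  rw [e, hy, Perm.mul_apply, Perm.inv_eq_iff_eq, E_ap o, h3, mul_one, CharTwo.add_self_eq_zero]; simp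
theorem UF_nor (l : Sem σ η g) (f : Fl g) (e : ∀ j, ∃ c : A, g (bv j) = c • bv j) : g ∈ 𝐍(UF σ m j) :=
  inv_mem_iff.1 (mem_normalizer_fintype fun u a => by
    have : ∀ i, u (bv i) = bv i → (g⁻¹ * u * g⁻¹⁻¹) (bv i) = bv i := fun i h => by
      obtain ⟨c, e⟩ := e i
      simp [Perm.inv_eq_iff_eq, e, a.1.1.smul1, h, -Perm.coe_inv]
    exact ⟨UT_cj' l.inv f.inv a.1, fun i h => ⟨this _ (a.2 i h).1, this _ (a.2 i h).2⟩⟩)
theorem E_all (z : ∀ a, σ a = a → E σ v 0 a ∈ H) (o : Ok σ v n ζ) (o' : Ok σ v n ζ') (i : E σ v n ζ' ∈ H) : E σ v n ζ ∈ H := by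
  have e : σ (ζ + ζ') = ζ + ζ' := by have := o.tr; have := o'.tr; rw [map_add]; grind
  have := mul_mem i (z _ e)
  rwa [E_mul o' (ok_tv o.iv o.vv e), add_zero, hf_zero_l, add_zero, add_left_comm, CharTwo.add_self_eq_zero, add_zero] at this
end ring

variable {K : Type} [Field K] [Fintype K] [CharP K 2] {m q : ℕ} {σ θ : K ≃+* K} {a b c k μ : K} {g p ξ : Perm (Fin m → K)}
  {u v w x v' : Fin m → K} {X : Type*} [Group X] [Finite X] {ρ : SU σ m →* X} {t h : X} {y : (Fin m → K) → X} {hk : σ k = k}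
  {z : Perm (Fin m → KK k) × X}

theorem mk_sm (c : K) (x : Fin m → K) : mkv k (c • x) 0 = (⟨c, 0⟩ : KK k) • mkv k x 0 := by simp [mkv_smul]
theorem mk_hf (x y : Fin m → K) : hf (sh σ hk) (mkv k x 0) (mkv k y 0) = ⟨hf σ x y, 0⟩ := by simp [hf_mkv]
theorem mk_0 (e : hf σ x w = 0) : hf (sh σ hk) (mkv k x 0) (mkv k w 0) = 0 := by rw [mk_hf, e]; rfl
theorem mk_bv (j : ℕ) : mkv k (bv j : Fin m → K) 0 = bv j := by
  ext i <;> by_cases e : i.val = j <;> simp [mkv, bv, e, QuadraticAlgebra.re_one, QuadraticAlgebra.im_one]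
theorem ext_mk (l : ξ 0 = 0) (x : Fin m → K) : ext k μ ξ (mkv k x 0) = mkv k (ξ x) 0 := by simp [ext_ap, l]
theorem pr_one : pr k ρ 1 = 1 := Prod.ext ext_one up_one
theorem pr_mul (a : g ∈ SU σ m) (b : p ∈ SU σ m) : pr k ρ (g * p) = pr k ρ g * pr k ρ p :=
  Prod.ext (by simp [pr, ext_mul (su_sem a)]) (up_mul a b)
theorem pr_inv (a : g ∈ SU σ m) : pr k ρ g⁻¹ = (pr k ρ g)⁻¹ := eq_inv_of_mul_eq_one_left (by
  rw [← pr_mul (inv_mem a) a, inv_mul_cancel, pr_one])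
theorem pr_J (i : g ∈ Q σ v) : pr k ρ g ∈ JJ hk ρ y v := subset_closure (.inl ⟨g, i, rfl⟩)
theorem py_J (c : K) : py hk y (c • v) ∈ JJ hk ρ y v := subset_closure (.inr (.inl ⟨c, rfl⟩))
theorem pb_J (a : hf σ w w = 0) (b : hf σ w v = 0) : py hk y (v + w) * py hk y v * py hk y w ∈ JJ hk ρ y v :=
  subset_closure (.inr (.inr ⟨w, a, b, rfl⟩))
theorem pb_fst (s : Iv σ) (hv : hf σ v v = 0) (a : hf σ w w = 0) (b : hf σ w v = 0) :
    (py hk y (v + w) * py hk y v * py hk y w).1 = E (sh σ hk) (mkv k v 0) (om k • mkv k w 0) 0 := by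
  rw [← tv_pol (iv_sh s hk) (mk_0 hv) (mk_0 a) (mk_0 (hf_swap s b)) (sh_om hk), mkv_add, add_zero]; rfl

/-- `z` acts on the pairs as `ξ` -/
structure Pa (hk : σ k = k) (ρ : SU σ m →* X) (y : (Fin m → K) → X) (z : Perm (Fin m → KK k) × X) (θ : K ≃+* K) (ξ : Perm (Fin m → K)) (μ : K) : Prop where
  sem : Sem σ θ ξ
  fx : σ μ = μ
  pr : ∀ g ∈ SU σ m, z * pr k ρ g * z⁻¹ = pr k ρ (ξ * g * ξ⁻¹)
  py : ∀ v, hf σ v v = 0 → z * py hk y v * z⁻¹ = py hk y (ξ v) * Ud.pr k ρ (E σ (ξ v) 0 μ)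

theorem pa_of (s : Iv σ) (l : Sem σ θ ξ) (i : Ind ρ h ξ) (a : Ac ρ y h ξ μ) (e : σ μ = μ) (f : μ * μ + μ + k + θ k = 0) :
    Pa hk ρ y (ext k μ ξ, h) θ ξ μ := ⟨l, e, fun g j => Prod.ext (mul_inv_eq_iff_eq_mul.2 (by
      simp [pr, ext_mul l, ext_mul (l.cj (su_sem j))])) (i g j), fun v hv => Prod.ext (by
    have o : hf σ (ξ v) (ξ v) = 0 := by rw [l.form, hv, map_zero]
    simp only [Prod.fst_mul, Prod.fst_inv, py, pr, tv_cj (l.ext hk e f), ext_mk l.zero, (ext_E hk (ok_tv s o e)).2, mkv_zero]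
    rw [tv_mul (iv_sh s hk) (mk_0 o) (sh_om hk) (by rw [sh_ap, e, map_zero])]
    congr 1; ext <;> simp [om, hat_ap]) (a v hv)⟩
theorem pa_pr (s : Iv σ) (c : Yd ρ t y) (i : g ∈ SU σ m) : Pa hk ρ y (pr k ρ g) 1 g 0 :=
  pa_of s (su_sem i) (ind_up i) (fun v hv => by simp [c.eqv g i v hv, tv]) (map_zero σ) (by simp [CharTwo.add_self_eq_zero])
theorem pr_cm (s : Iv σ) (c : Yd ρ t y) (i : g ∈ SU σ m) (hv : hf σ v v = 0) (e : g v = v) : Commute (pr k ρ g) (py hk y v) :=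
  mul_inv_eq_iff_eq_mul.1 (by simp [(pa_pr s c i).py v hv, e, pr_one])
theorem pol (s : Iv σ) (c : Yd ρ t y) (hv : hf σ v v = 0) (a : hf σ w w = 0) (b : hf σ w v = 0) (e : σ μ = μ) :
    py hk y (v + w) * pr k ρ (E σ (v + w) 0 μ) * (py hk y v * pr k ρ (E σ v 0 μ)) * (py hk y w * pr k ρ (E σ w 0 μ)) =
      py hk y (v + w) * py hk y v * py hk y w * pr k ρ (E σ v (μ • w) 0) := by
  have b' := hf_swap s b
  have h1 := (pr_cm (hk := hk) s c (tv_SU (v + w) μ) hv (E_fix (by simp [*]) (by simp) _)).eq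
  have h2 := (pr_cm (hk := hk) s c (tv_SU (v + w) μ) a (E_fix (by simp [*]) (by simp) _)).eq
  have h3 := (pr_cm (hk := hk) s c (tv_SU v μ) a (E_fix b (by simp) _)).eq
  rw [← tv_pol s hv a b' e, pr_mul (mul_mem (tv_SU _ _) (tv_SU _ _)) (tv_SU _ _), pr_mul (tv_SU _ _) (tv_SU _ _)]
  calc _ = py hk y (v + w) * (pr k ρ (E σ (v + w) 0 μ) * py hk y v) * (pr k ρ (E σ v 0 μ) * py hk y w) * pr k ρ (E σ w 0 μ) := by group
    _ = py hk y (v + w) * py hk y v * (pr k ρ (E σ (v + w) 0 μ) * py hk y w) * pr k ρ (E σ v 0 μ) * pr k ρ (E σ w 0 μ) := by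
      rw [h1, h3]; group
    _ = _ := by rw [h2]; group

variable (d : Dm σ q m)
include d

theorem Pa.cj (c : Yd ρ t y) (l : Pa hk ρ y z θ ξ μ) (hv : hf σ v v = 0) :
    JJ hk ρ y v ≤ (JJ hk ρ y (ξ v)).comap (MulAut.conj z).toMonoidHom := (closure_le _).2 <| by
  have f : ∀ {x w}, hf σ x w = 0 → hf σ (ξ x) (ξ w) = 0 := fun e => by rw [l.sem.form, e, map_zero]
  rintro _ (⟨g, i, rfl⟩ | ⟨a, rfl⟩ | ⟨w, a, b, rfl⟩) <;> change z * _ * z⁻¹ ∈ JJ hk ρ y (ξ v)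
  · rw [l.pr g (d.Q_SU i)]
    obtain ⟨n, ζ, -, rfl⟩ := (mem_Q d.iv hv).1 i
    exact pr_J (E_cj l.sem _ _ _ ▸ E_Q _ _ _)
  · rw [l.py _ (by simp [hv]), l.sem.smul, tv_smul d.iv (f hv) l.fx]
    exact mul_mem (py_J _) (pr_J (E_Q _ _ _))
  · rw [conj_mul_conj, conj_mul_conj, l.py _ (by simp [hv, a, b, d.sw b]), l.py v hv, l.py w a, l.sem.add,
      pol d.iv c (f hv) (f a) (f b) l.fx]
    exact mul_mem (pb_J (f a) (f b)) (pr_J (E_Q _ _ _))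
theorem JJ_sm (c : Yd ρ t y) (hv : hf σ v v = 0) (a0 : a ≠ 0) : JJ hk ρ y (a • v) ≤ JJ hk ρ y v := (closure_le _).2 <| by
  have f : ∀ {x}, hf σ x (a • v) = 0 → hf σ x v = 0 := fun e => by simpa [a0] using e
  rintro _ (⟨g, i, rfl⟩ | ⟨b, rfl⟩ | ⟨w, b, e, rfl⟩)
  · obtain ⟨n, ζ, o, rfl⟩ := (mem_Q d.iv (by simp [hv])).1 i
    exact pr_J (E_smul o hv (f o.nv) ▸ E_Q _ _ _)
  · exact smul_smul b a v ▸ py_J _
  · have e' := f e
    suffices py hk y (a • v + w) * py hk y (a • v) * py hk y w = py hk y (v + σ a • w) * py hk y v * py hk y (σ a • w) from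
      this ▸ pb_J (by simp [b]) (by simp [e'])
    refine Prod.ext ?_ (c.adj v w a hv b (d.sw e'))
    rw [pb_fst d.iv (by simp [hv]) b e, pb_fst d.iv hv (by simp [b]) (by simp [e']), mk_sm, E_smul (ok_iso (iv_sh d.iv hk)
      (by simp [mk_0 hv]) (by simp [mk_0 b]) (by simp [mk_0 e'])) (mk_0 hv) (by simp [mk_0 e']), mul_zero, mk_sm, sh_ap, map_zero,
      smul_comm]
theorem Pa.nor (c : Yd ρ t y) (l : Pa hk ρ y z θ ξ μ) (hv : hf σ v v = 0) (v0 : v ≠ 0) (e : ξ v = a • v) : z ∈ 𝐍(JJ hk ρ y v) :=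
  mem_normalizer_fintype fun p i => JJ_sm d c hv (a := a) (by rintro rfl; exact l.sem.ne v0 (by simpa using e)) (e ▸ l.cj d c hv i)
theorem pr_nor (c : Yd ρ t y) (hv : hf σ v v = 0) (v0 : v ≠ 0) (i : g ∈ SU σ m) (e : g v = v) : pr k ρ g ∈ 𝐍(JJ hk ρ y v) :=
  (pa_pr d.iv c i).nor d c hv v0 (e.trans (one_smul K v).symm)
theorem JJ_fst (hv : hf σ v v = 0) : JJ hk ρ y v ≤ (Q (sh σ hk) (mkv k v 0)).comap (MonoidHom.fst _ _) := (closure_le _).2 <| by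
  rintro _ (⟨g, i, rfl⟩ | ⟨b, rfl⟩ | ⟨w, b, e, rfl⟩)
  · obtain ⟨n, ζ, o, rfl⟩ := (mem_Q d.iv hv).1 i
    change ext k 0 _ ∈ Q _ _
    rw [(ext_E hk o).2]; exact E_Q _ _ _
  · change E (sh σ hk) _ _ _ ∈ Q _ _
    rw [mk_sm, tv_smul (iv_sh d.iv hk) (mk_0 hv) (sh_om hk)]; exact E_Q _ _ _
  · rw [SetLike.mem_coe, mem_comap, MonoidHom.coe_fst, pb_fst d.iv hv b e]; exact E_Q _ _ _
theorem gen {H : Subgroup (Perm (Fin m → KK k) × X)} (hv : hf σ v v = 0)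
    (h1 : ∀ n ζ, Ok σ v n ζ → hf σ n u = 0 → pr k ρ (E σ v n ζ) ∈ H) (h2 : ∀ c : K, py hk y (c • v) ∈ H)
    (h3 : ∀ w, hf σ w w = 0 → hf σ w u = 0 → hf σ w v = 0 → py hk y (v + w) * py hk y v * py hk y w ∈ H)
    {n : Fin m → KK k} {ζ : KK k} (o : Ok (sh σ hk) (mkv k v 0) n ζ) (e : hf (sh σ hk) n (mkv k u 0) = 0) :
    ∃ p ∈ H, p.1 = E (sh σ hk) (mkv k v 0) n ζ := by
  have s := iv_sh d.iv hk
  have a1 : ∀ n ζ, Ok σ v n ζ → hf σ n u = 0 → E (sh σ hk) (mkv k v 0) (mkv k n 0) ⟨ζ, 0⟩ ∈ H.map (MonoidHom.fst _ _) :=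
    fun n ζ o e => ⟨_, h1 n ζ o e, (ext_E hk o).2⟩
  let P : (Fin m → KK k) → Prop := fun n => ∃ ζ, Ok (sh σ hk) (mkv k v 0) n ζ ∧ E (sh σ hk) (mkv k v 0) n ζ ∈ H.map (MonoidHom.fst _ _)
  have ad : ∀ x y, P x → P y → P (x + y) := fun x y ⟨_, a, b⟩ ⟨_, c, e⟩ => ⟨_, a.mul c, E_mul a c ▸ mul_mem b e⟩
  obtain ⟨n, n', rfl⟩ := exists_mkv n
  have e' := o.nv
  simp only [hf_mkv, hf_zero_r, mul_zero, add_zero, zero_add, QuadraticAlgebra.ext_iff, QuadraticAlgebra.re_zero,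
    QuadraticAlgebra.im_zero] at e e'
  obtain ⟨ζ₁, o₁⟩ := d.ok hv e'.1
  obtain ⟨ζ', o', i⟩ := ad _ _ ⟨_, (ext_E hk o₁).1, a1 _ _ o₁ e.1⟩ (d.span_iso' (p := fun x => P (mkv k 0 x))
    (fun x y a b => by simpa [mkv_add] using ad _ _ a b) (fun w a b c => by
      rw [show mkv k 0 w = om k • mkv k w 0 by simp [om, mkv_smul]]
      exact ⟨0, ok_iso s (mk_0 hv) (by simp [mk_0 a]) (by simp [mk_0 c]), _, h3 w a b c, pb_fst d.iv hv a c⟩) e.2 e'.2)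
  rw [mkv_add, add_zero, zero_add] at o' i
  refine E_all (fun ⟨a, b⟩ f => ?_) o o' i
  rw [sh_ap, QuadraticAlgebra.ext_iff] at f
  have f1 : σ a = a := f.1
  obtain ⟨c, r⟩ := d.nrm (a := b) f.2
  have := mul_mem (a1 0 a (ok_tv d.iv hv f1) (by simp)) (mem_map_of_mem (MonoidHom.fst _ _) (h2 c))
  rw [MonoidHom.coe_fst, py, mk_sm, tv_smul s (mk_0 hv) (sh_om hk), mkv_zero, tv_mul s (mk_0 hv) (by rw [sh_ap, f1, map_zero])
    (by simp [sh_om, s _, mul_comm])] at this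
  convert this using 2
  ext <;> simp [sh_ap, om, r]
theorem jj (hv : hf σ v v = 0) {n : Fin m → KK k} {ζ : KK k} (o : Ok (sh σ hk) (mkv k v 0) n ζ) :
    ∃ p ∈ JJ hk ρ y v, p.1 = E (sh σ hk) (mkv k v 0) n ζ :=
  gen d (u := 0) hv (fun _ _ _ _ => pr_J (E_Q _ _ _)) (fun _ => py_J _) (fun _ a _ b => pb_J a b) o (by simp [mkv_zero])
omit d in
theorem fun_eq (c : Jd ρ t y k) (hv : hf σ v v = 0) (v0 : v ≠ 0) {p r : Perm (Fin m → KK k) × X} (a : p ∈ JJ c.hk ρ y v)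
    (b : r ∈ JJ c.hk ρ y v) (e : p.1 = r.1) : p = r :=
  Prod.ext e (inv_mul_eq_one.1 (c.k1 v hv v0 _ (mul_mem (inv_mem a) b) (by simp [e])))
theorem act (c : Jd ρ t y k) (hv : hf σ v v = 0) (v0 : v ≠ 0) (hv' : hf σ v' v' = 0) (v0' : v' ≠ 0) (e : hf σ v' v = 0)
    {p : Perm (Fin m → KK k) × X} (i : p ∈ JJ c.hk ρ y v') (f : p.1 (mkv k v 0) = mkv k v 0) : p ∈ 𝐍(JJ c.hk ρ y v) := by
  obtain ⟨n, ζ, o, r⟩ := (mem_Q (iv_sh d.iv c.hk) (mk_0 hv')).1 (JJ_fst d hv' i)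
  replace r : p.1 = _ := r
  obtain ⟨x, -, -, j⟩ := d.partner hv' v0'
  rw [r, E_ap o, mk_0 (d.sw e), zero_smul, add_zero, mul_zero, add_zero, add_eq_left] at f
  have := congrArg (hf (sh σ c.hk) · (mkv k x 0)) f
  simp only [hf_smul_l, mk_hf, j, hf_zero_l] at this
  obtain ⟨p', a, b⟩ := gen d (H := JJ c.hk ρ y v' ⊓ 𝐍(JJ c.hk ρ y v)) (u := v) hv'
    (fun n ζ o e' => ⟨pr_J (E_Q _ _ _), pr_nor d c.toYd hv v0 (d.E_SU _ _ _) (E_fix (d.sw e) (d.sw e') _)⟩)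
    (fun a => ⟨py_J _, c.k2 v _ hv v0 (by simp [hv']) (by simp [e])⟩) (fun w a b r => ⟨pb_J a r, mul_mem (mul_mem
      (c.k2 v _ hv v0 (by simp [hv', a, r, d.sw r]) (by simp [e, b])) (c.k2 v _ hv v0 hv' e)) (c.k2 v _ hv v0 a b)⟩) o
    (hf_swap (iv_sh d.iv c.hk) ((mul_one _).symm.trans this))
  exact fun_eq c hv' v0' a.1 i (b.trans r.symm) ▸ a.2

end CF.Ud.Hx
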