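import Cfsg.Agent.Ud.E0
import Cfsg.Agent.Lm.I

/-! The doubled model: fixed points and involutions of the field automorphism, the linear model. -/

set_option autoImplicit false
set_option linter.unusedSectionVars false
set_option linter.unusedVariables false

namespace CF.Ud

open Subgroup Equiv CF.Loc CF.LX CF.Dbl Module

namespace Ex
section ring
variable {A : Type} [CommRing A] [Finite A] [CharP A 2] {m i j : ℕ} {σ η : A ≃+* A} {g r τ : Perm (Fin m → A)} {x : Fin m → A}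
  {D M : End A (Fin m → A)} {ω S T : A}

/-- elements of `UP` as linear maps -/
def ln (h : g ∈ UP A m) : End A (Fin m → A) := ⟨⟨g, h.1⟩, h.2.1⟩
theorem ln_ap (h : g ∈ UP A m) (x : Fin m → A) : ln h x = g x := rfl
theorem top (x : Fin m → A) (h : m ≤ j) : x ∈ Vf A m j := fun i l => absurd i.2 (by omega)
theorem up_of (h : ∀ j, ∀ x ∈ Vf A m (j + 1), D x - x ∈ Vf A m j) : ∃ g ∈ UP A m, ∀ x, g x = D x := by
  have : Function.Injective D := (injective_iff_map_eq_zero _).2 fun x e => funext fun i =>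
    Nat.decreasingInduction' (P := fun j => x ∈ Vf A m j) (fun j _ _ a => by simpa [e] using h j x a) m.zero_le (top x le_rfl) i
      i.1.zero_le
  exact ⟨Equiv.ofBijective D (Finite.injective_iff_bijective.1 this), mem_UP' D.map_add D.map_smul h, fun _ => rfl⟩

/-- self-adjoint, commuting with `τ`, strictly triangular -/
structure Gd (σ : A ≃+* A) (τ : Perm (Fin m → A)) (D : End A (Fin m → A)) : Prop where
  sa : ∀ x y, hf σ (D x) y = hf σ x (D y)
  cm : ∀ x, τ (D x) = D (τ x)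
  tr : ∀ j, ∀ x ∈ Vf A m (j + 1), D x ∈ Vf A m j

theorem Gd.pow (h : Gd σ τ M) (n : ℕ) : Gd σ τ (M ^ 2 ^ n) := by
  induction n with
  | zero => simpa using h
  | succ n k =>
    rw [pow_succ, pow_mul, pow_two]
    exact ⟨fun x y => (k.sa _ _).trans (k.sa _ _), fun x => (k.cm _).trans (congrArg _ (k.cm _)),
      fun j x a => k.tr j _ (Vf_mono j.le_succ (k.tr j x a))⟩
theorem Gd.nil (h : Gd σ τ M) : M ^ 2 ^ m = 0 := by
  have : ∀ n x, x ∈ Vf A m n → (M ^ n) x = 0 := fun n => by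
    induction n with
    | zero => exact fun x a => funext fun i => a i i.1.zero_le
    | succ n k => exact fun x a => by rw [pow_succ]; exact k _ (h.tr n x a)
  exact LinearMap.ext fun x => this _ x (top x m.lt_two_pow_self.le)
theorem Gd.as (a : ∀ x y, τ (x + y) = τ x + τ y) (h : Gd σ τ M) : ∃ z, Gd σ τ z ∧ z * z + z = M := by
  have : ∀ n, ∃ z, Gd σ τ z ∧ Commute z M ∧ z * z + z = M + M ^ 2 ^ n := fun n => by
    induction n with
    | zero => exact ⟨0, ⟨by simp, fun x => by simpa using a 0 0, fun _ _ _ => zero_mem _⟩, by simp, by simp [ee]⟩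
    | succ n k =>
      obtain ⟨z, b, c, e⟩ := k
      have p := h.pow n
      refine ⟨z + M ^ 2 ^ n, ⟨fun x y => by simp [b.sa, p.sa], fun x => by simp [a, b.cm, p.cm],
        fun j x i => add_mem (b.tr j x i) (p.tr j x i)⟩, c.add_left ((Commute.refl M).pow_left _), ?_⟩
      rw [pow_succ, pow_mul, pow_two, add_mul, mul_add, mul_add, (c.pow_right _).eq]
      linear_combination (norm := abel_nf) e + ee (M ^ 2 ^ n * z) + ee (M ^ 2 ^ n)
  obtain ⟨z, b, -, e⟩ := this m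
  exact ⟨z, b, by rwa [h.nil, add_zero] at e⟩

theorem e0' (h : Iw η τ) (o1 : σ ω = ω) (o2 : η ω = ω + 1) (s1 : η S = S) (s2 : S + σ S = S * σ S) (t1 : η T = T) (t2 : σ T = T)
    (t3 : S * σ S * T = 1) (i : r ∈ UT σ m) (e : τ * r * (τ * r) = 1) : ∃ c ∈ UT σ m, c * τ * c⁻¹ = τ * r := by
  have i' := inv_mem i
  have e1 : ∀ x, τ (r x) = r⁻¹ (τ x) := fun x => r.injective (τ.injective (by simpa [h.dd] using DFunLike.congr_fun e x))
  have e2 : ∀ x, τ (r⁻¹ x) = r (τ x) := fun x => by simpa [h.dd] using congrArg τ (e1 (τ x)).symm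
  have f1 : ∀ x y, hf σ (r⁻¹ x) y = hf σ x (r y) := fun x y => by simpa using (i.1.form1 (r⁻¹ x) y).symm
  have f2 : ∀ x y, hf σ (r x) y = hf σ x (r⁻¹ y) := fun x y => by simpa using i.1.form1 x (r⁻¹ y)
  have two : (2 : A) = 0 := CharTwo.two_eq_zero
  have o3 : η (ω + 1) = ω := by rw [map_add, o2, map_one, add_assoc, CharTwo.add_self_eq_zero, add_zero]
  obtain ⟨z, b, ez⟩ := Gd.as (σ := σ) (M := (T * (ω * (ω + 1))) • (ln i.2 + ln i'.2)) h.add ⟨fun x y => by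
      simp [-Perm.coe_inv, ln_ap, f1, f2, o1, t2, add_comm], fun x => by
      simp [-Perm.coe_inv, -map_add, ln_ap, h.add, h.smul, e1, e2, o2, o3, t1, mul_comm ω, add_comm (_ • r _)],
    fun j x a => Submodule.smul_mem _ _ (by
      have := sub_mem (i.2.2.2.1 j x a) (i.2.2.2.2 j x a)
      rwa [sub_sub_sub_cancel_right, vsub] at this)⟩
  obtain ⟨p, hp, ep⟩ := up_of (D := 1 + S • z) fun j x a => by simpa using Submodule.smul_mem _ S (b.tr j x a)
  obtain ⟨g, hg, eg⟩ := up_of (D := ω • 1 + (ω + 1) • ln i'.2) fun j x a => by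
    convert Submodule.smul_mem _ (ω + 1) (i.2.2.2.2 j x a) using 1
    simp only [LinearMap.add_apply, LinearMap.smul_apply, End.one_apply, ln_ap]
    linear_combination (norm := module) ω • vv x
  simp only [LinearMap.add_apply, LinearMap.smul_apply, End.one_apply, ln_ap] at ep eg
  have k : ∀ x y, hf σ (g x) (g y) = hf σ (p x) (p y) := fun x y => by
    have := congrArg (fun D : End A (Fin m → A) => hf σ x (D y)) ez
    simp only [LinearMap.add_apply, LinearMap.smul_apply, End.mul_apply, ln_ap, hf_add_r, hf_smul_r, map_mul, map_add, map_one,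
      t2, o1] at this
    simp only [ep, eg, hf_add_l, hf_add_r, hf_smul_l, hf_smul_r, b.sa, i'.1.form1, f1 x y, map_add, map_one, o1]
    linear_combination (-hf σ x (z y)) * s2 - S * σ S * this - ω * (ω + 1) * (hf σ x (r y) + hf σ x (r⁻¹ y)) * t3 +
      (ω * ω + ω) * hf σ x y * two
  have hc := mul_mem hg (inv_mem hp)
  refine ⟨_, ⟨⟨hc.1, hc.2.1, fun x y => by simp [k], fun _ => rfl⟩, hc⟩, mul_inv_eq_iff_eq_mul.2 (Equiv.ext fun x => ?_)⟩
  obtain ⟨x, rfl⟩ := p.surjective x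
  have : τ (p x) = p (τ x) := by simp [ep, h.add, h.smul, s1, b.cm]
  simp [-map_add, this, eg, i.1.add, i.1.smul1, h.add, h.smul, e1, o2, o3, add_comm (ω • _)]
end ring

variable {K : Type} [Field K] [Fintype K] [CharP K 2] {m j : ℕ} {σ θ θ' : K ≃+* K} {a a' k μ : K} {g p : Perm (Fin m → K)}
  {x y : Fin m → K} {z w : Fin m → KK k} {η : KK k ≃+* KK k} {ξ ξ' : Perm (Fin m → KK k)}

instance : Finite (KK k) := Finite.of_equiv _ (QuadraticAlgebra.equivProd k (1 : K)).symm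
theorem mkv_Vf : mkv k x y ∈ Vf (KK k) m j ↔ x ∈ Vf K m j ∧ y ∈ Vf K m j :=
  ⟨fun h => ⟨fun i l => congrArg (·.re) (h i l), fun i l => congrArg (·.im) (h i l)⟩,
    fun h i l => QuadraticAlgebra.ext (h.1 i l) (h.2 i l)⟩
theorem mkv_dec (c : K) (x y : Fin m → K) : mkv k x y = mkv k (x + c • y) 0 + (⟨c, 1⟩ : KK k) • mkv k y 0 := by
  rw [mkv_smul, mkv_add]; simp [add_assoc, vv]
theorem tau : Iw (hat 1 1 (by simp [CharTwo.add_self_eq_zero])) (ext k 1 (1 : Perm (Fin m → K))) := by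
  refine ⟨fun x y => ?_, fun ⟨a, b⟩ x => ?_, fun j x h => ?_, by rw [ext_mul (sem_one (σ := 1))]; simp [CharTwo.add_self_eq_zero, ext_one]⟩ <;>
    obtain ⟨_, _, rfl⟩ := exists_mkv x
  · obtain ⟨_, _, rfl⟩ := exists_mkv y
    simp [mkv_add, ext_ap, add_add_add_comm]
  · simp only [mkv_smul, ext_ap, hat_ap, mkv_inj]
    constructor <;> ext <;> simp <;> grind
  · rw [mkv_Vf] at h
    exact mkv_Vf.2 ⟨add_mem h.1 (Submodule.smul_mem _ _ h.2), h.2⟩

/-- the projections of the split ring -/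
def ev (e : a * a + a = k) : KK k →+* K where
  toFun c := c.re + a * c.im
  map_one' := by simp [QuadraticAlgebra.re_one, QuadraticAlgebra.im_one]
  map_mul' c d := by simp; grind
  map_zero' := by simp
  map_add' c d := by simp; ring
/-- the projections of the split module -/
def pv (a : K) (z : Fin m → KK k) : Fin m → K := fun i => (z i).re + a * (z i).im
theorem pv_mkv : pv a (mkv k x y) = x + a • y := rfl
theorem pv_add : pv a (z + w) = pv a z + pv a w := by ext; simp [pv]; ring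
theorem pv_smul (e : a * a + a = k) (c : KK k) : pv a (c • z) = ev e c • pv a z := funext fun i => (ev e).map_mul c (z i)
theorem pv_sur (x : Fin m → K) : pv a (mkv k x 0) = x := by simp [pv_mkv]
theorem e1 (e : a * a + a = k) : (a + 1) * (a + 1) + (a + 1) = k := by grind
theorem ev_ext (e : a * a + a = k) {c d : KK k} (h : ev e c = ev e d) (h' : ev (e1 e) c = ev (e1 e) d) : c = d := by
  simp only [ev, RingHom.coe_mk, MonoidHom.coe_mk, OneHom.coe_mk] at h h'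
  ext <;> grind
theorem pv_ext (e : a * a + a = k) (h : pv a z = pv a w) (h' : pv (a + 1) z = pv (a + 1) w) : z = w :=
  funext fun i => ev_ext e (congrFun h i) (congrFun h' i)
theorem pv_Vf (h : z ∈ Vf (KK k) m j) : pv a z ∈ Vf K m j := fun i l => by simp [pv, h i l]
theorem ev_hf (hk : σ k = k) (e : a * a + a = k) (f : σ a' = a) : ev e (hf (sh σ hk) z w) = hf σ (pv a z) (pv a' w) := by
  obtain ⟨_, _, rfl⟩ := exists_mkv z
  obtain ⟨_, _, rfl⟩ := exists_mkv w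
  simp [hf_mkv, pv_mkv, ev, f]; grind

/-- `ξ` induces `g` -/
def Rel (a : K) (ξ : Perm (Fin m → KK k)) (g : Perm (Fin m → K)) : Prop := ∀ z, pv a (ξ z) = g (pv a z)
theorem Rel.uq (h : Rel a ξ g) (h' : Rel a ξ p) : g = p := Equiv.ext fun x => by rw [← pv_sur (k := k) (a := a) x, ← h, h']
theorem Rel.mul (h : Rel a ξ g) (h' : Rel a ξ' p) : Rel a (ξ * ξ') (g * p) := fun z => (h _).trans (congrArg g (h' z))
theorem Rel.inv (h : Rel a ξ g) : Rel a ξ⁻¹ g⁻¹ := fun z => g.injective (by rw [← h]; simp)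
theorem rel_one : Rel a (1 : Perm (Fin m → KK k)) 1 := fun _ => rfl
theorem Rel.ap (h : Rel a ξ g) (x : Fin m → K) : g x = pv a (ξ (mkv k x 0)) := by rw [h, pv_sur]
theorem ex_rel {hk : σ k = k} (e : a * a + a = k) (l : Sem (sh σ hk) η ξ) (h : ∀ c, ev e (η c) = θ (ev e c)) :
    ∃ g, Rel a ξ g ∧ (∀ x y, g (x + y) = g x + g y) ∧ ∀ c x, g (c • x) = θ c • g x := by
  have r : ∀ z, pv a (ξ z) = pv a (ξ (mkv k (pv a z) 0)) := fun z => by
    obtain ⟨x, y, rfl⟩ := exists_mkv z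
    rw [pv_mkv, mkv_dec a x y, l.add, l.smul, pv_add, pv_smul e, h]
    simp [ev, CharTwo.add_self_eq_zero]
  refine ⟨Equiv.ofBijective (fun x => pv a (ξ (mkv k x 0))) (Finite.surjective_iff_bijective.1 fun y =>
    ⟨pv a (ξ⁻¹ (mkv k y 0)), by simp [← r, pv_sur]⟩), r, fun x y => ?_, fun c x => ?_⟩ <;> simp only [Equiv.ofBijective_apply]
  · rw [← pv_add, ← l.add, mkv_add, add_zero]
  · rw [show θ c = ev e (η ⟨c, 0⟩) by rw [h]; simp [ev], ← pv_smul, ← l.smul, mkv_smul]; simp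
theorem Rel.fl (h : Rel a ξ g) (f : Fl ξ) : Fl g := fun j x i => h.ap x ▸ pv_Vf (f j _ (mkv_Vf.2 ⟨i, zero_mem _⟩))
theorem Rel.ker {hk : σ k = k} (e : a * a + a = k) (f : σ a = a + 1) (l : Sem (sh σ hk) 1 ξ) (h : Rel a ξ 1) : ξ = 1 :=
  Equiv.ext fun z => pv_ext e (h z) (hf_ext (σ := σ) fun y => by
    rw [← pv_sur (k := k) (a := a) y, Perm.one_apply, ← ev_hf hk (e1 e) f (z := z), ← l.form1, ev_hf hk (e1 e) f, h, Perm.one_apply])
theorem ex_adj (s : Iv σ) (i : g ∈ UP K m) : ∃ p ∈ UP K m, ∀ x y, hf σ (g x) (p y) = hf σ x y := by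
  obtain ⟨p, hp, e⟩ := up_of (D := ⟨⟨fun y j => hf σ y (g⁻¹ (bv j.rev)), fun x y => by ext; simp⟩, fun c x => by ext; simp⟩)
    fun j y a l b => by
      have := hf_Vf (σ := σ) a (i.2.2.2 _ _ (bv_mem l.rev.1.lt_succ_self)) (by rw [Fin.val_rev]; omega)
      rwa [vsub, hf_add_r, hf_bv, ← CharTwo.sub_eq_add] at this
  refine ⟨p, hp, fun x y => ?_⟩
  obtain ⟨x, rfl⟩ := g⁻¹.surjective x
  conv_rhs => rw [← sum_bv x, ← ln_ap (inv_mem i), map_sum, hf_sum_l]
  rw [hf]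
  simp [e, ln_ap, hf_sym s, -Fin.val_rev]
theorem ex_lift {hk : σ k = k} (s : Iv σ) (e : a * a + a = k) (f : σ a = a + 1) (i : g ∈ UP K m) :
    ∃ ξ ∈ UT (sh σ hk) m, Rel a ξ g := by
  obtain ⟨p, hp, h⟩ := ex_adj s i
  let F : (Fin m → KK k) → Fin m → KK k := fun z => mkv k (g (pv a z) + a • (g (pv a z) + p (pv (a + 1) z)))
    (g (pv a z) + p (pv (a + 1) z))
  have h1 : ∀ z, pv a (F z) = g (pv a z) := fun z => by simp only [F, pv_mkv, add_assoc, vv, add_zero]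
  have h2 : ∀ z, pv (a + 1) (F z) = p (pv (a + 1) z) := fun z => by
    simp only [F, pv_mkv]; ext; simp; grind
  obtain ⟨ξ, b, c⟩ := up_of (D := ⟨⟨F, fun x y => pv_ext e (by simp [pv_add, h1, i.1]) (by simp [pv_add, h2, hp.1])⟩,
    fun c x => pv_ext e (by simp [pv_smul e, h1, i.2.1]) (by simp [pv_smul (e1 e), h2, hp.2.1])⟩) fun j z l n r => ev_ext e
      (by rw [Pi.sub_apply, map_sub, map_zero]; exact (h1 z ▸ i.2.2.1 j _ (pv_Vf l)) n r)
      (by rw [Pi.sub_apply, map_sub, map_zero]; exact (h2 z ▸ hp.2.2.1 j _ (pv_Vf l)) n r)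
  have f' : σ (a + 1) = a := by rw [← f, s]
  replace c : ∀ z, ξ z = F z := c
  refine ⟨ξ, ⟨⟨b.1, b.2.1, fun x y => ev_ext e ?_ ?_, fun _ => rfl⟩, b⟩, fun z => by rw [c, h1]⟩
  · rw [RingAut.one_apply, ev_hf hk e f', ev_hf hk e f', c, c, h1, h2, h]
  · rw [RingAut.one_apply, ev_hf hk _ f, ev_hf hk _ f, c, c, h1, h2, ← hf_sym s, h, hf_sym s]
theorem ex_pi {hk : σ k = k} (s : Iv σ) (e : a * a + a = k) (f : σ a = a + 1) :
    ∃ π : UT (sh σ hk) m ≃* UP K m, ∀ u, Rel a u.1 (π u).1 := by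
  have : ∀ u : UT (sh σ hk) m, ∃ g : UP K m, Rel a u.1 g.1 := fun u => by
    obtain ⟨g, h, b, c⟩ := ex_rel (θ := 1) e u.2.1 fun _ => rfl
    exact ⟨⟨g, mem_UP' b c fun j x i => by
      simpa [vsub, pv_add, pv_sur, ← h.ap] using pv_Vf (a := a) (u.2.2.2.2.1 j (mkv k x 0) (mkv_Vf.2 ⟨i, zero_mem _⟩))⟩, h⟩
  choose π h using this
  refine ⟨MulEquiv.ofBijective (MonoidHom.mk' π fun u v => Subtype.ext ((h _).uq ((h u).mul (h v))))
    ⟨(injective_iff_map_eq_one _).2 fun u i => Subtype.ext (Rel.ker e f u.2.1 (congrArg Subtype.val i ▸ h u :)), fun g => ?_⟩, h⟩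
  obtain ⟨ξ, b, c⟩ := ex_lift (hk := hk) s e f g.2
  exact ⟨⟨ξ, b⟩, Subtype.ext ((h _).uq c)⟩
end Ex
open Ex

variable {K : Type} [Field K] [Fintype K] [CharP K 2] {m q : ℕ} {σ θ : K ≃+* K} {a k μ : K} {g ξ : Perm (Fin m → K)}

namespace Dm
variable (d : Dm σ q m)
include d

theorem ext_UT (hk : σ k = k) (i : g ∈ UT σ m) : ext k 0 g ∈ UT (sh σ hk) m := mem_UT.2 ⟨i.1.ext1 hk, fun j x h => by
  obtain ⟨x, y, rfl⟩ := exists_mkv x
  rw [mkv_Vf] at h
  rw [ext_ap, vsub, mkv_add, zero_smul, add_zero, ← vsub, ← vsub]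
  exact mkv_Vf.2 ⟨i.2.2.2.1 j x h.1, i.2.2.2.1 j y h.2⟩⟩
theorem ext_Fl (l : Sem σ θ ξ) (f : Fl ξ) : Fl (ext k μ ξ) := fun j x h => by
  obtain ⟨x, y, rfl⟩ := exists_mkv x
  rw [mkv_Vf] at h
  exact mkv_Vf.2 ⟨add_mem (f j x h.1) (Submodule.smul_mem _ _ (f j y h.2)), f j y h.2⟩
theorem UT_cj (hk : σ k = k) {η : KK k ≃+* KK k} {δ r : Perm (Fin m → KK k)} (l : Sem (sh σ hk) η δ) (f : Fl δ) (i : r ∈ UT (sh σ hk) m) :
    δ * r * δ⁻¹ ∈ UT (sh σ hk) m := UT_cj' l f i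
theorem cap (hk : σ k = k) {r : Perm (Fin m → KK k)} (i : r ∈ UT (sh σ hk) m) (e : r ∈ 𝐂₁(ext k 1 1)) :
    ∃ g ∈ UT σ m, r = ext k 0 g := by
  have h : ∀ r ∈ 𝐂₁(ext k 1 (1 : Perm (Fin m → K))), ∀ x, r (mkv k x 0) = mkv k (pv 0 (r (mkv k x 0))) 0 := fun r e x => by
    have := DFunLike.congr_fun (mem_c1.1 e) (mkv k x 0)
    obtain ⟨y, z, f⟩ := exists_mkv (r (mkv k x 0))
    simp [ext_ap, f, mkv_inj] at this
    simp [f, this, pv_sur]
  let g : Perm (Fin m → K) := ⟨fun x => pv 0 (r (mkv k x 0)), fun x => pv 0 (r⁻¹ (mkv k x 0)),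
    fun x => by simp [← h r e, pv_sur], fun x => by simp only [← h _ (inv_mem e)]; simp [pv_sur]⟩
  have h1 : ∀ x, r (mkv k x 0) = mkv k (g x) 0 := h r e
  have c0 : ∀ (c : K) (x : Fin m → K), mkv k (c • x) 0 = (⟨c, 0⟩ : KK k) • mkv k x 0 := fun c x => by simp [mkv_smul]
  refine ⟨g, mem_UT.2 ⟨⟨fun x y => (mkv_inj.1 (?_ : mkv k _ 0 = mkv k _ (0 + 0))).1, fun c x => (mkv_inj.1 (?_ : mkv k _ 0 = mkv k _ 0)).1,
    fun x y => ?_, fun _ => rfl⟩, fun j x a => ?_⟩, Equiv.ext fun z => ?_⟩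
  · rw [← mkv_add, ← h1, ← h1, ← h1, ← i.1.add, mkv_add, add_zero]
  · rw [← h1, c0, c0, i.1.smul1, h1]; rfl
  · simpa [h1, hf_mkv] using congrArg (·.re) (i.1.form1 (mkv k x 0) (mkv k y 0))
  · have := i.2.2.2.1 j _ (mkv_Vf.2 ⟨a, zero_mem _⟩)
    rw [h1, vsub, mkv_add, ← vsub] at this
    exact (mkv_Vf.1 this).1
  · obtain ⟨x, y, rfl⟩ := exists_mkv z
    rw [ext_ap, mkv_dec 0 x, i.1.add, i.1.smul1, h1, h1, mkv_dec 0 _ (g y)]; simp
theorem e0 (hk : σ k = k) {r : Perm (Fin m → KK k)} (i : r ∈ UT (sh σ hk) m) (e : ext k 1 1 * r * (ext k 1 1 * r) = 1) :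
    ∃ c ∈ UT (sh σ hk) m, c * ext k 1 1 * c⁻¹ = ext k 1 1 * r := by
  obtain ⟨a, h⟩ := d.om
  obtain ⟨c, -, c1⟩ := d.one
  have a0 : a ≠ 0 := by rintro rfl; simp at h
  have a1 : σ a ≠ 0 := by simpa using a0
  refine e0' (ω := om k) (S := ⟨(σ a)⁻¹, 0⟩) (T := ⟨a * σ a, 0⟩) tau (sh_om hk) ?_ ?_ ?_ ?_ ?_ ?_ i e <;>
    ext <;> simp [om, hat_ap, sh_ap, d.iv a, mul_comm, QuadraticAlgebra.re_one, QuadraticAlgebra.im_one] <;> field_simp
  exact h
theorem pi_iso (hk : σ k = k) (e : a * a + a = k) (f : σ a = a + 1) : Nonempty (UT (sh σ hk) m ≃* UP K m) :=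
  (ex_pi d.iv e f).nonempty
theorem syl_iso : ∃ S : Sylow 2 (Matrix.ProjectiveSpecialLinearGroup (Fin m) K), Nonempty (UP K m ≃* S) := by
  have u : ∀ g : UP K m, Lm.Up (LinearMap.toMatrix' (ln g.2)) := fun g i j l => by
    have := g.2.2.2.1 j _ (bv_mem j.1.lt_succ_self) i l
    rw [LinearMap.toMatrix'_apply, ← bv_eq, Matrix.one_apply, ← sub_eq_zero]
    simpa [bv, Fin.val_inj, ln_ap] using this
  let f : UP K m →* Matrix.SpecialLinearGroup (Fin m) K := MonoidHom.mk' (fun g => ⟨_, by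
    rw [Matrix.det_of_isUpperTriangular (Lm.up_iff.1 (u g)).1]; simp [(Lm.up_iff.1 (u g)).2]⟩) fun g p => Subtype.ext
      (LinearMap.toMatrix'_comp (ln g.2) (ln p.2))
  have hf : Function.Injective ((QuotientGroup.mk' (center _)).comp f) := (injective_iff_map_eq_one _).2 fun g h => by
    obtain ⟨r, -, h⟩ := Matrix.SpecialLinearGroup.mem_center_iff.1 ((QuotientGroup.eq_one_iff (f g)).1 h)
    obtain rfl : r = 1 := by
      simpa using (congrFun (congrFun h ⟨0, by have := d.hm; omega⟩) _).trans ((Lm.up_iff.1 (u g)).2 _)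
    exact Subtype.ext (Equiv.ext (LinearMap.congr_fun (LinearMap.toMatrix'.injective (h.symm.trans
      ((map_one _).trans LinearMap.toMatrix'_id.symm)))))
  obtain ⟨S, l⟩ := (UP_two'.of_equiv (MonoidHom.ofInjective hf)).exists_le_sylow
  refine ⟨S, ⟨(MonoidHom.ofInjective hf).trans (MulEquiv.subgroupCongr (eq_of_le_of_card_ge l ?_))⟩⟩
  rw [← Nat.card_congr (MonoidHom.ofInjective hf).toEquiv, Lm.card_syl (by have := d.hm; omega), ← Lm.card_up]
  refine Nat.card_le_card_of_surjective (fun g => ⟨_, u g⟩) fun M => ?_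
  obtain ⟨g, h, e⟩ := up_of (D := Matrix.toLin' M.1) fun j x a i l => by
    rw [Pi.sub_apply, sub_eq_zero, ← congrFun (Matrix.one_mulVec x) i]
    change ∑ b, M.1 i b * x b = ∑ b, (1 : Matrix _ _ K) i b * x b
    exact Finset.sum_congr rfl fun b _ => by_cases (fun e : b ≤ i => congrArg (· * x b) (M.2 i b e)) fun e => by
      simp [a b (by omega)]
  exact ⟨⟨g, h⟩, Subtype.ext ((congrArg _ (LinearMap.ext e)).trans (LinearMap.toMatrix'_toLin' _))⟩

end Dm
end CF.Ud
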