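import Cfsg.Agent.Ud.H1

/-! The doubled Sylow subgroup. -/

set_option autoImplicit false
set_option linter.unusedSectionVars false
set_option linter.unusedVariables false

namespace CF.Ud.Hx

open Subgroup Equiv CF.Loc CF.LX CF.Dbl Module Ex
open scoped commutatorElement

variable {K : Type} [Field K] [Fintype K] [CharP K 2] {m q j : ℕ} {σ θ : K ≃+* K} {a b c k μ : K} {g p ξ : Perm (Fin m → K)}
  {u v w x v' : Fin m → K} {X : Type*} [Group X] [Finite X] {ρ : SU σ m →* X} {t h : X} {y : (Fin m → K) → X} {hk : σ k = k}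
  {z : Perm (Fin m → KK k) × X} {G : Subgroup (Perm (Fin m → KK k) × X)}

/-- one factor of the doubled Sylow subgroup -/
def JI (hk : σ k = k) (ρ : SU σ m →* X) (y : (Fin m → K) → X) (j : ℕ) : Subgroup (Perm (Fin m → KK k) × X) :=
  JJ hk ρ y (bv j) ⊓ (UF (sh σ hk) m j).comap (MonoidHom.fst _ _)

/-- the graph over the stabiliser of the first `j` hyperbolic pairs -/
structure Gr (hk : σ k = k) (ρ : SU σ m →* X) (y : (Fin m → K) → X) (j : ℕ) (G : Subgroup (Perm (Fin m → KK k) × X)) : Prop where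
  le : G ≤ (UF (sh σ hk) m j).comap (MonoidHom.fst _ _)
  fn : ∀ p ∈ G, p.1 = 1 → p = 1
  on : ∀ u ∈ UF (sh σ hk) m j, ∃ p ∈ G, p.1 = u
  io : ∀ u ∈ UF σ m j, pr k ρ u ∈ G
  nor : ∀ i < j, G ≤ 𝐍(JJ hk ρ y (bv i))
  ac : ∀ z, (∀ i < m / 2, z ∈ 𝐍(JI hk ρ y i)) → z ∈ 𝐍(G)
  ncl : G ≤ (normalClosure (ρ.range : Set X)).comap (MonoidHom.snd _ _)

variable (d : Dm σ q m)
include d

theorem y_ncl (c : Yc ρ t y k) (hv : hf σ v v = 0) : y v ∈ normalClosure (ρ.range : Set X) := by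
  let π := QuotientGroup.mk' (normalClosure (ρ.range : Set X))
  have r : ∀ g, π (up ρ g) = 1 := fun g => (QuotientGroup.eq_one_iff _).2 (subset_normalClosure (up_range g))
  have cm : ∀ {x w}, hf σ x x = 0 → hf σ w w = 0 → Commute (π (y x)) (π (y w)) := fun {x w} a b => by
    by_cases x0 : x = 0
    · rw [x0, c.zero, map_one]; exact .one_left _
    by_cases w0 : w = 0
    · rw [w0, c.zero, map_one]; exact .one_right _
    obtain ⟨g, i, rfl⟩ := d.witt1 a x0 b w0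
    rw [← c.eqv g i x a, map_mul, map_mul, map_inv, r, one_mul, inv_one, mul_one]
  obtain ⟨ω, o⟩ := d.om
  obtain ⟨w, w', a, a', -, b, -, b', e⟩ := d.exists_hyp hv hv hv ω
  have := congrArg π (c.cf v w w' 1 hv a a' b b' (by rw [← d.sy w w', e, o, mul_one]))
  have f : hf σ (v + w) (v + w) = 0 := by simp [hv, a, b, d.sw b]
  have f' : hf σ (v + w') (v + w') = 0 := by simp [hv, a', b', d.sw b']
  rw [map_commutatorElement, commutatorElement_eq_one_iff_commute.2 (by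
    simp only [bb, map_mul]
    refine Commute.mul_left (Commute.mul_left ?_ ?_) ?_ <;> refine Commute.mul_right (Commute.mul_right ?_ ?_) ?_ <;>
      apply cm <;> assumption), map_mul, r, mul_one, one_smul] at this
  exact (QuotientGroup.eq_one_iff _).1 this.symm
theorem JJ_ncl (c : Yc ρ t y k) (hv : hf σ v v = 0) :
    JJ hk ρ y v ≤ (normalClosure (ρ.range : Set X)).comap (MonoidHom.snd _ _) := (closure_le _).2 <| by
  rintro _ (⟨g, i, rfl⟩ | ⟨b, rfl⟩ | ⟨w, b, e, rfl⟩)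
  exacts [subset_normalClosure (up_range g), y_ncl d c (v := b • v) (by simp [hv]),
    mul_mem (mul_mem (y_ncl d c (v := v + w) (by simp [hv, b, e, d.sw e])) (y_ncl d c hv)) (y_ncl d c b)]
theorem ext_UF (a : g ∈ UF σ m j) : ext k 0 g ∈ UF (sh σ hk) m j := ⟨d.ext_UT hk a.1, fun i l => by
  rw [← mk_bv, ← mk_bv, ext_mk a.1.1.zero, ext_mk a.1.1.zero, (a.2 i l).1, (a.2 i l).2]; exact ⟨rfl, rfl⟩⟩
theorem gr_bot : Gr hk ρ y (m / 2) ⊥ := ⟨bot_le, fun _ a _ => a, fun u a => ⟨1, one_mem _, (UF_bot a).symm⟩,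
  fun u a => by rw [UF_bot a, pr_one]; exact one_mem _, fun _ _ => bot_le, fun z _ => by simp [mem_normalizer_iff], bot_le⟩
theorem gr_step (c : Jd ρ t y k) (l : j < m / 2) (a : Gr c.hk ρ y (j + 1) G) : Gr c.hk ρ y j (JI c.hk ρ y j ⊔ G) := by
  have h2 : ∀ {i i'}, i ≤ j → i' ≤ j → hf σ (bv i : Fin m → K) (bv i') = 0 := fun {i i'} _ _ => by
    rw [hf_bb (by omega), if_neg (by omega)]
  have h0 : ∀ {i}, i ≤ j → (bv i : Fin m → K) ≠ 0 := fun _ => bv_ne (by omega)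
  have le : G ≤ (UF (sh σ c.hk) m j).comap (MonoidHom.fst _ _) := a.le.trans (comap_mono UF_succ)
  have n : G ≤ 𝐍(JI c.hk ρ y j) := (le_inf (a.nor j j.lt_succ_self) (le.trans le_normalizer)).trans inf_normalizer_le_normalizer_inf
  refine ⟨sup_le inf_le_right le, fun p i0 e => ?_, fun u i => ?_, fun u i => ?_, fun i e => sup_le (fun p r => ?_) (a.nor i (by omega)),
    fun z e => normalizer_inf_normalizer_le_normalizer_sup _ _ ⟨e j l, a.ac z e⟩, sup_le (inf_le_left.trans (JJ_ncl d c.toYc (h2 le_rfl le_rfl))) a.ncl⟩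
  · obtain ⟨p, i, r, i', rfl⟩ := (mem_sup_of_le_normalizer n).1 i0
    obtain ⟨n, ζ, o, f⟩ := (mem_Q (iv_sh d.iv c.hk) (mk_0 (h2 le_rfl le_rfl))).1 (JJ_fst d (h2 le_rfl le_rfl) i.1)
    replace f : p.1 = _ := f
    have e' : p.1 = r.1⁻¹ := eq_inv_of_mul_eq_one_left e
    have p1 : p.1 = 1 := f ▸ E_one o (y := mkv k (bv (m - 1 - j)) 0) (by rw [mk_hf, hf_bb (by omega), if_pos (by omega)]; rfl)
      (by rw [← f, e', mk_bv]; exact ((inv_mem (a.le i')).2 j j.lt_succ_self).2)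
    rw [fun_eq c (h2 le_rfl le_rfl) (h0 le_rfl) i.1 (one_mem _) p1, a.fn r i' (inv_eq_one.1 (e'.symm.trans p1)), mul_one]
  · obtain ⟨n, ζ, o, e, f⟩ := UF_fac (iv_sh d.iv c.hk) l i
    obtain ⟨p, r, s⟩ := jj d (ρ := ρ) (y := y) (h2 le_rfl le_rfl) (mk_bv (k := k) j ▸ o)
    obtain ⟨p', r', s'⟩ := a.on _ f
    rw [mk_bv] at s
    exact ⟨p * p', mul_mem (mem_sup_left ⟨r, by change p.1 ∈ UF _ _ _; rwa [s]⟩) (mem_sup_right r'), by simp [s, s']⟩
  · obtain ⟨n, ζ, o, e, f⟩ := UF_fac d.iv l i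
    rw [← mul_inv_cancel_left (E σ (bv j) n ζ) u, pr_mul (d.E_SU _ _ _) (d.U_SU f.1)]
    exact mul_mem (mem_sup_left ⟨pr_J (E_Q _ _ _), ext_UF d e⟩) (mem_sup_right (a.io _ f))
  · exact act d c (h2 e.le e.le) (h0 e.le) (h2 le_rfl le_rfl) (h0 le_rfl) (h2 le_rfl e.le) r.1 (by rw [mk_bv]; exact (r.2.2 i e).1)
theorem gr (c : Jd ρ t y k) : ∃ G, Gr c.hk ρ y 0 G :=
  Nat.decreasingInduction' (P := fun j => ∃ G, Gr c.hk ρ y j G) (fun _ l _ ⟨_, a⟩ => ⟨_, gr_step d c l a⟩) (Nat.zero_le (m / 2))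
    ⟨_, gr_bot d⟩
theorem Gr.nz (c : Jd ρ t y k) (a : Gr c.hk ρ y 0 G) (l : Sem σ θ ξ) (f : Fl ξ) (i : Ind ρ h ξ) (b : Ac ρ y h ξ μ) (e : σ μ = μ)
    (e' : μ * μ + μ + k + θ k = 0) : (ext k μ ξ, h) ∈ 𝐍(G) := by
  obtain ⟨r, i', s⟩ := d.U_dec ⟨θ, l⟩ f
  refine (mul_mem_cancel_left (le_normalizer (a.io r ⟨i', fun _ h => absurd h (Nat.not_lt_zero _)⟩))).1 (a.ac _ fun j o => ?_)
  have hv : hf σ (bv j : Fin m → K) (bv j) = 0 := by rw [hf_bb (by omega), if_neg (by omega)]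
  refine inf_normalizer_le_normalizer_inf ⟨mem_normalizer_fintype fun p n => ?_, le_normalizer_comap _ (UF_nor
    ((i'.1.ext1 c.hk).mul (l.ext c.hk e e')) ((UT_fl (d.ext_UT c.hk i')).mul (d.ext_Fl l f)) fun j => ?_)⟩
  · obtain ⟨b', s⟩ := s j
    have := (pa_pr d.iv c.toYd (d.U_SU i')).cj d c.toYd (by rw [l.form, hv, map_zero]) ((pa_of d.iv l i b e e').cj d c.toYd hv n)
    rw [← Perm.mul_apply, s] at this
    simpa [mul_assoc] using JJ_sm d c.toYd hv (by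
      rintro rfl; exact (i'.1.mul l).ne (bv_ne (i := j) (by omega)) (by simpa using s)) this
  · obtain ⟨b', s⟩ := s j
    refine ⟨⟨b', 0⟩, show ext k 0 r (ext k μ ξ _) = _ from ?_⟩
    rw [← mk_bv, ext_mk l.zero, ext_mk i'.1.zero, ← mk_sm, ← s]; rfl

end CF.Ud.Hx

namespace CF.Ud.Dm

open Subgroup Equiv CF.Loc CF.LX CF.Dbl Module Ex Hx

variable {K : Type} [Field K] [Fintype K] [CharP K 2] {m q : ℕ} {σ : K ≃+* K} {k : K}
  {X : Type*} [Group X] [Finite X] {ρ' : SU σ m →* X} {s : X} {y : (Fin m → K) → X} (d : Dm σ q m)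
include d

theorem kp (c : Jd ρ' s y k) : ∃ κ, Kp c.hk ρ' y κ := by
  obtain ⟨G, a⟩ := gr d c
  have z : ∀ {A : Type} [CommRing A] {σ : A ≃+* A} {u : Perm (Fin m → A)}, u ∈ UT σ m → u ∈ UF σ m 0 :=
    fun i => ⟨i, fun _ h => absurd h (Nat.not_lt_zero _)⟩
  let φ : G →* UT (sh σ c.hk) m := ((MonoidHom.fst _ _).comp G.subtype).codRestrict _ fun p => (a.le p.2).1
  let ψ := MulEquiv.ofBijective φ ⟨(injective_iff_map_eq_one φ).2 fun p e => Subtype.ext (a.fn p p.2 (congrArg Subtype.val e)),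
    fun u => let ⟨p, i, e⟩ := a.on u (z u.2); ⟨⟨p, i⟩, Subtype.ext e⟩⟩
  let κ := ((MonoidHom.snd _ _).comp G.subtype).comp ψ.symm.toMonoidHom
  have k1 : ∀ p ∈ G, up κ p.1 = p.2 := fun p i => (up_coe (φ ⟨p, i⟩)).trans (congrArg (·.1.2) (ψ.symm_apply_apply ⟨p, i⟩))
  have ac : ∀ h θ ξ μ, Sem σ θ ξ → Fl ξ → Ind ρ' h ξ → Ac ρ' y h ξ μ → σ μ = μ → μ * μ + μ + k + θ k = 0 →
      ∀ u ∈ UT (sh σ c.hk) m, h * up κ u * h⁻¹ = up κ (ext k μ ξ * u * (ext k μ ξ)⁻¹) := fun h θ ξ μ l f i b e e' u j => by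
    obtain ⟨p, r, rfl⟩ := a.on u (z j)
    rw [k1 p r]; exact (k1 _ ((mem_normalizer_iff.1 (a.nz d c l f i b e e') p).1 r)).symm
  have io : ∀ u ∈ UT σ m, up κ (ext k 0 u) = up ρ' u := fun u i => k1 _ (a.io u (z i))
  refine ⟨κ, (MonoidHom.ker_eq_bot_iff κ).1 ((map_eq_bot_iff_of_injective _ (subtype_injective _)).1 (by_contra fun n => ?_)), io,
    fun _ ⟨u, e⟩ => e ▸ a.ncl (ψ.symm u).2, ac⟩
  have t1 : Ind ρ' s 1 := ind_one c.cm
  have t2 : Ac ρ' y s 1 1 := fun v hv => by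
    have e := c.tw v hv
    have e' := c.eqv _ (tv_SU v 1) v hv
    rw [E_fix hv (by simp), mul_inv_eq_iff_eq_mul] at e'
    rw [mul_inv_eq_iff_eq_mul] at e
    have e2 : tv ρ' v 1 * tv ρ' v 1 = 1 := by rw [← up_mul (tv_SU _ _) (tv_SU _ _), tv_sq, up_one]
    rw [Perm.one_apply, mul_inv_eq_iff_eq_mul, mul_assoc, mem_centralizer_iff'.1 c.cm _ (up_range _), ← mul_assoc, e, mul_assoc,
      mul_assoc, ← e', ← mul_assoc (tv ρ' v 1), e2, one_mul]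
  have e0 : (1 : K) * 1 + 1 + k + (1 : K ≃+* K) k = 0 := by simp [CharTwo.add_self_eq_zero]
  have f1 : Fl (1 : Perm (Fin m → K)) := fun _ _ h => h
  refine inf_centralizer_ne_bot (UT_two.to_le (map_subtype_le _)) (isPGroup_zpowers (k := 1) (by simpa [pow_two] using (tau (k := k) (m := m)).sq))
    (zpowers_le.2 (mem_normalizer_fintype ?_)) n ((eq_bot_iff_forall _).2 ?_)
  · rintro _ ⟨u, i, rfl⟩
    refine ⟨⟨_, UT_cj' (sem_one.ext c.hk (map_one σ) e0) (d.ext_Fl sem_one f1) u.2⟩, ?_, rfl⟩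
    rw [SetLike.mem_coe, MonoidHom.mem_ker, ← up_eq, ← ac s 1 1 1 sem_one f1 t1 t2 (map_one σ) e0 _ u.2, up_coe, (MonoidHom.mem_ker.1 i :)]; simp
  · rintro _ ⟨⟨u, i, rfl⟩, j⟩
    obtain ⟨g, r, e⟩ := d.cap c.hk u.2 (mem_c1.2 (mem_centralizer_iff'.1 j _ (mem_zpowers _)).symm)
    rw [coe_subtype, e, d.ker_sc c.ker (d.U_SU r) (by rw [← io g r, ← e, up_coe]; exact i) (e2_of UT_two r), ext_one]

end CF.Ud.Dm
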