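import Cfsg.Agent.Ud.Z1

/-! Standard unitary subgroups: the split case is impossible. -/

set_option autoImplicit false
set_option linter.unusedSectionVars false

namespace CF.Ud

open Cfsg Subgroup Equiv CF.Loc CF.LX CF.Dbl Module Sx
open scoped commutatorElement

variable {K : Type} [Field K] [Fintype K] [CharP K 2] {m q : ℕ} {σ θ : K ≃+* K} {a b a₀ : K}
  {g ξ α p w : Perm (Fin m → K)} {u v : Fin m → K} {A B P H O : Subgroup (Perm (Fin m → K))}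
  {G : Type*} [Group G] [Finite G] {ρ ρ₁ ρ₂ : SU σ m →* G} {t h x y : G} {F N S J : Subgroup G}

theorem Sx.im_zp {M X : Type*} [Group M] [Group X] {H : Subgroup M} {φ : H →* X} {g : M} (i : g ∈ H) :
    im φ (zpowers g) = zpowers (Ud.up φ g) := by
  rw [up_eq i, ← MonoidHom.map_zpowers, im]
  congr 1
  apply map_injective H.subtype_injective
  rw [map_subgroupOf_eq_of_le (zpowers_le.2 i), MonoidHom.map_zpowers]; rfl

namespace Zf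
variable {ψ : ↥(S ⊓ 𝐍(ρ₁.range)) →* Perm (Fin m → K)} (c : Zf q ρ ρ₁ t S ψ)
include c

theorem rk (l : J ≤ S ⊓ 𝐍(ρ₁.range)) (e : El J) : (J ⊓ 𝐂(ρ₁.range)).relIndex J ≤ Nat.card (im ρ₁ (WW σ m)) ∧
    ((J ⊓ 𝐂(ρ₁.range)).relIndex J = Nat.card (im ρ₁ (WW σ m)) → J ≤ im ρ₁ (WW σ m) ⊔ (S ⊓ 𝐂(ρ₁.range))) := by
  rw [c.d.s_cardB c.k, ← card_im' l c.p2]
  refine ⟨c.d.j1 (Dm.s_imG c.p1) (el_im e), fun k x i => c.dec (l i) c.d.W_le ?_⟩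
  rw [← c.d.ju (P := im ψ ⊤) (Dm.s_imG c.p1) ((c.syl.isPGroup.to_inf_left.to_subgroup _).map ψ) (im_mono le_top) (el_im e) k.ge
    (fun w j => c.pu (c.d.W_le j) ▸ up_im trivial (c.u0 (c.d.W_le j))) c.d.s_Wel c.d.card_W.ge]
  exact up_im i (l i)

theorem cB (l : P ≤ UT σ m) (i : x ∈ S ⊓ 𝐍(ρ₁.range)) : im ρ₁ P ⊓ 𝐂₁(x) = im ρ₁ (P ⊓ 𝐂₁(Ud.up ψ x)) := by
  obtain ⟨θ, s⟩ := c.sem i
  ext y
  constructor
  · rintro ⟨a, b⟩
    obtain ⟨g, j, j', rfl⟩ := mem_im.1 a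
    exact up_im ⟨j, mem_c1.2 (c.d.s_icm c.k s (c.ind i) j' (e2_of c.d.U_two (l j)) (mem_c1.1 b).symm).symm⟩ j'
  · intro a
    obtain ⟨g, j, j', rfl⟩ := mem_im.1 a
    exact ⟨up_im j.1 j', mem_c1.2 ((c.ind i).cm j' (mem_c1.1 j.2).symm).symm⟩

theorem nB : S ⊓ 𝐍(ρ₁.range) ≤ 𝐍(im ρ₁ (WW σ m)) := fun _ i => Dm.s_inor c.d.s_WSU (c.ind i) (c.nW i)

theorem d1 (i : x ∈ S ⊓ 𝐍(ρ₁.range)) (e : x * x = 1) (n : x ∉ 𝐂(im ρ₁ (WW σ m))) :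
    q ^ (m / 2) ≤ Nat.card ↥⁅im ρ₁ (WW σ m), zpowers x⁆ := by
  have d := c.d
  obtain ⟨θ, s⟩ := c.sem i
  have k := PLocal.card_eq_card_centralizer_mul_card_commutator (isMulCommutative_of_le_centralizer (Pg.el_ab (el_im d.s_Wel))) (c.nB i)
  rw [centralizer_zpowers, c.cB d.W_le i, d.s_card c.k (Dm.s_el2 d.s_Wel) d.s_WSU,
    d.s_card c.k (Dm.s_el2 d.s_Wel).to_inf_left (inf_le_left.trans d.s_WSU)] at k
  have : q ^ (m / 2) * Nat.card ↥(WW σ m ⊓ 𝐂₁(Ud.up ψ x)) ≤ Nat.card (WW σ m) := by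
    rcases d.aut (d.sc_sem (s.mul s) (c.sq i e ▸ sc_one)).1 with rfl | rfl
    · refine (d.j3 s (c.two i) (c.nW i) fun o => n fun y j => ?_).le
      obtain ⟨g, b, j', rfl⟩ := mem_im.1 j
      exact ((c.ind i).cm j' (o g b).symm).symm
    · exact d.j3g s (c.sq i e) (c.nW i)
  rw [k, mul_comm] at this
  exact Nat.le_of_mul_le_mul_left this Nat.card_pos

theorem gen (h0 : σ a₀ = a₀) (n0 : a₀ ≠ 0) (l : ∀ g ∈ ρ₁.range ⊓ 𝐍(im ρ₁ (WW σ m)), g * tv ρ₁ (bv 0) a₀ * g⁻¹ ∈ J) :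
    im ρ₁ (WW σ m) ≤ J := by
  have := c.d.W_gen (Vf_ti (σ := σ) le_rfl) (H := (J.comap ρ₁).map (SU σ m).subtype) fun v i => by
    refine ⟨⟨_, tv_SU v 1⟩, mem_comap.2 ?_, rfl⟩
    rw [← up_eq (tv_SU v 1)]
    by_cases v0 : v = 0
    · simp [v0, E_zero_v, one_mem]
    obtain ⟨g, j, e⟩ := c.d.s_trP h0 n0 i v0 (map_one σ) one_ne_zero
    rw [← e, up_cj j.1 (tv_SU _ _)]; exact l _ (c.d.s_PP ρ₁ j)
  intro y i
  obtain ⟨g, j, j', rfl⟩ := mem_im.1 i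
  obtain ⟨g, k, rfl⟩ := this j
  exact (up_coe (φ := ρ₁) g).symm ▸ k

theorem zcj (h0 : σ a₀ = a₀) (n0 : a₀ ≠ 0) (i : w ∈ Z σ (bv 0)) (y1 : Ud.up ρ₁ w ≠ 1) :
    ∃ g ∈ ρ₁.range ⊓ 𝐍(im ρ₁ (WW σ m)), g * tv ρ₁ (bv 0) a₀ * g⁻¹ = Ud.up ρ₁ w := by
  obtain ⟨a, e, rfl⟩ := (mem_Z c.d.iv c.d.b00).1 i
  obtain ⟨g, j, k⟩ := c.d.s_trP h0 n0 c.d.s_b0 c.d.b0 e fun o => y1 (by simp [o])
  exact ⟨_, c.d.s_PP ρ₁ j, by rw [← k, up_cj j.1 (tv_SU _ _)]⟩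

theorem cX (i : y ∈ im ρ₁ (WW σ m) ⊓ 𝐂(im ρ₁ (XP σ m))) : ∃ w ∈ Z σ (bv 0), Ud.up ρ₁ w = y := by
  obtain ⟨w, j, -, rfl⟩ := mem_im.1 i.1
  have := c.cm (c.u0 (c.d.W_le j)) c.d.X_le i.2
  rw [c.pu (c.d.W_le j)] at this
  exact ⟨w, c.d.X_cen ▸ ⟨j, this⟩, rfl⟩

theorem ip (h0 : σ a₀ = a₀) (n0 : a₀ ≠ 0) (s : Sw ρ₁.range (cj[t] ρ₁.range) S t (tv ρ₁ (bv 0) a₀)) :
    IP ρ₁.range (cj[t] ρ₁.range) := by
  have d := c.d
  have pS := d.E_SU (bv 0) (bv (m - 2)) 0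
  have XS := d.X_le.trans d.s_USU
  have e1 := im_comm (φ := ρ₁) d.s_WSU (zpowers_le.2 pS)
  rw [im_zp pS] at e1
  have lU := (commutator_le_sup _ _).trans (sup_le d.W_le (zpowers_le.2 (d.X_le d.X_p)))
  have e2 := d.X_card
  rw [← d.s_card c.k (d.U_two.to_le lU) (lU.trans d.s_USU), e1] at e2
  have q2 := d.two_le
  have l3 : 3 ≤ m / 2 := by have := d.hm; omega
  refine IU.ip (B := im ρ₁ (WW σ m)) (R := im ρ₁ (XP σ m)) (p := Ud.up ρ₁ (E σ (bv 0) (bv (m - 2)) 0))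
    ⟨s, c.iml d.W_le, el_im d.s_Wel, c.nB, fun _ => c.rk, fun a i e => ?_, fun g i => (d.uq c.f c.r c.e g (c.le i.1)).2 i.2,
      c.cap ▸ d.s_syl ρ₁, fun x i b j => ?_, c.iml d.X_le, el_im d.X_el, up_im d.X_p pS, fun x i x1 => ?_, fun y i => ?_,
      fun y i y1 => ?_, e1 ▸ up_im (d.X_z (tv_Z _ _)) (tv_SU _ _), e2.trans_le ?_, ?_,
      fun x i e n => e2.trans_le (Nat.pow_le_pow_left (c.d1 i e n) 2), fun b i k => ?_, fun _ => c.gen h0 n0⟩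
  · obtain ⟨g, j, k, rfl⟩ := Dm.s_lift i (e2_inv e)
    obtain ⟨r, a, b⟩ := d.m3 (su_sem j) (d.ker_sc c.k (mul_mem j j) (by rw [up_mul j j, e]) (k.mul k rfl))
    exact ⟨_, up_range r, up_cj (φ := ρ₁) a j ▸ up_im b (d.s_WSU b)⟩
  · obtain ⟨w, a, a', rfl⟩ := mem_im.1 j
    obtain ⟨g, k, e⟩ := d.rc a (conj_mem_of_mem_normalizer (c.nW i) a) (d.rk_cj (c.sem i) (su_sem a')).symm
    exact ⟨_, d.s_PP ρ₁ k, by rw [← up_cj k.1 a', e, c.ind i w a']⟩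
  · obtain ⟨w, a, a', rfl⟩ := mem_im.1 i
    obtain ⟨g, k, e⟩ := d.X_cj a fun o => x1 (by simp [o])
    exact ⟨_, d.s_PP ρ₁ k, by rw [← up_cj k.1 pS, e]⟩
  · obtain ⟨w, j, rfl⟩ := c.cX i
    rw [← im_comm d.s_WSU XS]
    exact up_im (commutator_mono le_rfl (zpowers_le.2 d.X_p) (d.X_z j)) (d.s_USU (d.s_ZU j))
  · obtain ⟨w, j, rfl⟩ := c.cX i
    exact c.zcj h0 n0 j y1
  · rw [d.s_cardB c.k, ← pow_mul]; exact Nat.pow_le_pow_right (by omega) (by nlinarith)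
  · rw [d.s_cardB c.k]
    exact lt_of_lt_of_le (by nlinarith) (Nat.pow_le_pow_right (by omega) (by nlinarith : 2 ≤ (m / 2) ^ 2))
  · obtain ⟨w, a, a', rfl⟩ := mem_im.1 i
    rw [d.X_r0 a fun g j => ?_, up_one]
    have b := (su_sem j.1).su a'
    have := k _ (d.s_PP ρ₁ j)
    rw [← up_cj j.1 a'] at this
    exact mem_c1.2 (d.s_icm c.k (su_sem b) (ind_up b) pS (e2_E _ _ _) (mem_c1.1 this))

theorem good (i : x ∈ S ⊓ 𝐍(ρ₁.range)) (e : x * x = 1) (n : x ∉ 𝐂(ρ₁.range)) : Good ρ₁.range x := by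
  obtain ⟨R, two, l, r, j, r2, r1, g, k, o⟩ := c.d.good (c.sem i) (c.sq i e) fun o => n ((c.ker i).1 o)
  have l1 := l.trans inf_le_left
  have rS := (commutator_le_sup _ _).trans (sup_le l1 l1) j
  obtain ⟨θ, s⟩ := c.sem i
  refine ⟨im ρ₁ R, two_im two, le_inf im_le fun y a => ?_, Ud.up ρ₁ r, im_comm (φ := ρ₁) l1 l1 ▸ up_im j rS, by rw [← up_mul rS rS, r2, up_one],
    fun o => r1 (c.d.ker_sc c.k rS o (e2_inv r2)), Ud.up ρ₁ g, up_range _, ?_⟩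
  · obtain ⟨y, b, b', rfl⟩ := mem_im.1 a
    exact mem_c1.2 ((c.ind i).cm b' (mem_c1.1 (l b).2).symm).symm
  · have : r = (Ud.up ψ x)⁻¹ * g * (Ud.up ψ x)⁻¹⁻¹ * g⁻¹ := by rw [inv_inv, mul_assoc, mul_assoc, ← mul_assoc g, o]; simp
    rw [this, up_mul (s.inv.su k) (inv_mem k), ← (c.ind i).inv s g k, up_inv k]; group

theorem sg (l : J ≤ 𝐍(ρ₁.range ⊔ cj[t] ρ₁.range)) (o : Odd (Nat.card J)) (n : S ≤ 𝐍(J)) : J ≤ 𝐂(S ⊓ ρ₁.range) := by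
  have d := c.d
  have od : ∀ y ∈ J, (orderOf y).Coprime 2 := fun y => orderOf_coprime_of_mem (Nat.coprime_two_right.2 o)
  have n1 : J ≤ 𝐍(ρ₁.range) := fun y i => by
    obtain ⟨k, e⟩ := exists_pow_eq_self_of_coprime (od y i).symm
    refine e ▸ pow_mem (cj_eq_self_iff.1 ?_) k
    rw [pow_two, cj_mul]
    rcases d.perm c.f c.e (l i) with a | a
    · rw [a.1, a.1]
    · rw [a.1, a.2]
  have mem : ∀ g ∈ SU σ m, g ∈ (J.comap ρ₁).map (SU σ m).subtype ↔ Ud.up ρ₁ g ∈ J := fun g i =>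
    ⟨fun ⟨x, a, e⟩ => by rw [← e]; exact (up_coe (φ := ρ₁) x).symm ▸ a, fun a => ⟨⟨g, i⟩, by rwa [up_eq i] at a, rfl⟩⟩
  have sc := d.sg (map_subtype_le (J.comap ρ₁)) (Nat.coprime_two_right.1 (coprime_card_of_forall fun g i e => by
      have j := map_subtype_le _ i
      have g2 : g ^ 2 ^ 1 = 1 := by rw [pow_one, ← e, pow_orderOf_eq_one]
      have := d.ker_sc c.k j (E2.odd (E2.up ⟨1, g2⟩ j) (Nat.coprime_two_right.1 (od _ ((mem g j).1 i))) (pow_orderOf_eq_one _)) ⟨1, g2⟩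
      simp [this] at e))
    fun u i => mem_normalizer_of_conj_mem fun g a => by
      have j := map_subtype_le _ a
      have i' := d.s_USU i
      rw [mem _ ((su_sem i').su j), up_cj i' j]
      exact conj_mem_of_mem_normalizer (n (c.u1 i).1) ((mem g j).1 a)
  intro y i u j
  have a : y * u⁻¹ * y⁻¹ ∈ ρ₁.range := conj_mem_of_mem_normalizer (n1 i) (inv_mem j.2)
  have b : u * (y * u⁻¹ * y⁻¹) ∈ 𝐂(ρ₁.range) := by
    obtain ⟨g, k, e⟩ := mem_range_up.1 (mul_mem j.2 a)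
    rw [← e]
    refine (d.cen_iff c.k k).2 (sc g ((mem g k).2 ?_))
    rw [e]
    simpa [mul_assoc] using mul_mem (conj_mem_of_mem_normalizer (n j.1) i) (inv_mem i)
  have u2 := e2_of c.syl.isPGroup j.1
  have := d.s_cen2 c.k (mul_mem j.2 a) b (u2.mul (u2.inv.cj y) (mul_left_cancel (a := u) (by rw [b u j.2, mul_assoc u])))
  rw [← mul_inv_eq_one]; simpa [mul_assoc] using this

end Zf

theorem Dm.split (d : Dm σ q m) (f : Fr ρ t) (o : Top ρ F) (r : R2 ρ t) (e : Sp1 ρ ρ₁ t) : False := by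
  obtain ⟨S, ψ, c⟩ := d.exists_zf f r e
  obtain ⟨a₀, h0, n0, s⟩ := c.exz
  have ip := c.ip h0 n0 s
  have QS := d.Q_le.trans d.s_USU
  obtain ⟨g, i, p, j, g2, k⟩ := d.cz h0
  have zc : tv ρ₁ (bv 0) a₀ = ⁅Ud.up ρ₁ g, Ud.up ρ₁ p⁆ := by rw [tv, k, up_comm (QS i) (QS j)]
  have b1 : hf σ (bv 1 : Fin m → K) (bv 1) = 0 := hf_Vf (bv_mem one_lt_two) (bv_mem one_lt_two) (by have := d.hm; omega)
  have n1 : (bv 1 : Fin m → K) ≠ 0 := fun o => by simpa [bv] using congrFun o ⟨1, by have := d.hm; omega⟩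
  have cj1 : ∀ v, hf σ v v = 0 → v ≠ 0 → ∃ g ∈ ρ₁.range, g * tv ρ₁ (bv 0) a₀ * g⁻¹ = tv ρ₁ v 1 := fun v a b => by
    obtain ⟨g, i, e⟩ := d.s_tr h0 n0 a b (map_one σ) one_ne_zero
    exact ⟨_, up_range g, by rw [tv, tv, ← e, up_cj i (tv_SU _ _)]⟩
  have l12 : S ⊓ ρ₁.range ≤ S ⊓ 𝐂(cj[t] ρ₁.range) := inf_le_inf_left _ s.com
  have := o.nor
  refine SE.false (X := F) (B := im ρ₁ (WW σ m)) ⟨s, o.nor, o.sim, o.nab, d.s_nc e o.le (le_normalizer_of_normal' _ _),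
    zc ▸ commutator_mem_commutator (c.u1 (d.Q_le i)) (c.u1 (d.Q_le j)), ⟨tv ρ₁ (bv 1) 1, ?_, Dm.s_tvsq _ _ _,
      d.s_tv1 c.k b1 n1 (map_one σ) one_ne_zero, fun k => ?_⟩, c.der s, ip,
    PG.pur (Γ := fun _ => False) ⟨s, c.der s, ip, c.zs s, fun x i e n _ => c.good i e n, fun _ _ => False.elim,
      fun _ _ _ _ => False.elim, fun ⟨_, k⟩ => k.elim, fun x i j => ?_, fun _ _ _ => False.elim, fun ⟨_, k⟩ => k.elim⟩,
    c.iml d.W_le, el_im d.s_Wel, fun J l el => ?_, fun g k => ?_, fun y i y2 y1 k => ?_, fun y i zy k => ?_,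
    s.sig_of c.le (fun g i => (d.uq f r e g (by rw [conj_eq_iff.2 (mem_c1.1 i)]; exact Dm.s_tM f _)).1) (fun _ => c.sg)
      (c.u1 (d.Q_le i)) (c.u1 (d.Q_le j)) (by rw [← up_mul (QS i) (QS i), g2, up_one]) zc⟩
  · rw [c.cap, ← im_comm d.s_USU d.s_USU]; exact up_im d.zd1 (tv_SU _ _)
  · obtain ⟨a, k, -⟩ := d.tv_inj b1 d.b00 (map_one σ) h0 one_ne_zero n1
      (d.s_ker2 c.k (tv_SU _ _) (tv_SU _ _) (e2_E _ _ _) (e2_E _ _ _) k)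
    simpa [bv] using congrFun k ⟨0, by have := d.hm; omega⟩
  · have n : x ∈ S ⊓ 𝐍(ρ₁.range) := ⟨i, sup_le le_normalizer (centralizer_le_normalizer _) j⟩
    obtain ⟨θ, a⟩ := c.sem n
    exact c.lin1 n (d.s_lin c.k a (c.ind n) j ▸ a)
  · have := (c.rk (l.trans (c.c0 s)) el).1
    rwa [show J ⊓ 𝐂(ρ₁.range) = ⊥ from eq_bot_iff.2 fun x i => Ie.triv s (l i.1).1 i.2 (l i.1).2, relIndex_bot_left] at this
  · let φ : WW σ m →* G := (ch g ρ₁).comp (inclusion d.s_WSU)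
    have φu : ∀ w ∈ WW σ m, Ud.up φ w = g * Ud.up ρ₁ w * g⁻¹ := fun w i => by rw [up_eq i, up_eq (d.s_WSU i)]; rfl
    have φr : φ.range = cj[g] (im ρ₁ (WW σ m)) := by
      ext y
      rw [mem_range_up, mem_cj, mem_im]
      exact ⟨fun ⟨w, i, e⟩ => ⟨w, i, d.s_WSU i, by rw [← e, φu w i]; group⟩, fun ⟨w, i, _, e⟩ => ⟨w, i, by rw [φu w i, e]; group⟩⟩
    rw [← φr]
    refine d.cn5 ((injective_iff_map_eq_one _).2 fun w k => Subtype.ext (d.ker_sc (c.k.cj g) (d.s_WSU w.2)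
      ((up_eq _).trans k) (e2_inv (d.s_Wel _ w.2)))) ?_ (eq_bot_iff.2 fun x i => Ie.triv s i.1.1 i.1.2 i.2.2)
      fun v i => ?_
    · rw [← commutator_eq_bot_iff_le_centralizer', ← le_bot_iff, ← s.fai, inf_assoc, inf_inf_distrib_left]
      have n1 : S ⊓ 𝐂(ρ₁.range) ≤ S ⊓ 𝐍(ρ₁.range) := inf_le_inf_left _ (centralizer_le_normalizer _)
      exact le_inf (commutator_le_right_of_le_normalizer (le_normalizer_inf (inf_le_left.trans le_normalizer)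
        (le_normalizer_centralizer ((c.c0 s).trans inf_le_right)))) (commutator_le_left_of_le_normalizer
          (le_normalizer_inf (inf_le_left.trans le_normalizer) (le_normalizer_centralizer fun x i => Ie.n0 s (n1 i))))
    · by_cases v0 : v = 0
      · simp [v0, E_zero_v, one_mem]
      obtain ⟨a, j, e⟩ := d.s_trP h0 n0 i v0 (map_one σ) one_ne_zero
      have zW : E σ (bv 0) 0 a₀ ∈ WW σ m := (d.X_cen.ge (tv_Z _ _)).1
      have vW : E σ v 0 1 ∈ WW σ m := e ▸ conj_mem_of_mem_normalizer j.2 zW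
      rw [φu _ vW]
      exact k _ (c.u1 (d.W_le vW)) (by rw [← e, up_cj j.1 (tv_SU _ _)]; exact Pg.ic _ _)
  · have n := c.c0 s i
    have a := d.cU (c.sem n) (c.cm n le_rfl (c.cap ▸ k)) (c.two n)
    have b := c.dec2 s i (d.s_ZU a)
    obtain ⟨g, j, e⟩ := c.zcj h0 n0 a (b.symm ▸ y1)
    exact ⟨g, j.1, e.trans b⟩
  · have n := c.c0 s i
    have a := d.cW2 (c.sem n) (c.cm n d.W_le (le_centralizer_iff.1 (centralizer_zpowers y ▸ c.gen h0 n0 fun g j =>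
      mem_c1.2 (k _ (l12 (c.iml d.W_le (conj_mem_of_mem_normalizer j.2 (up_im (d.X_cen.ge (tv_Z _ _)).1 (tv_SU _ _)))))
        (Pg.ic _ _)).symm) (mem_zpowers y))) (c.sq n (Pg.sqc zy s.z2))
    have b := c.dec2 s i (d.W_le a)
    rcases d.j2m a (fun o => Pg.nec zy s.z1 (by rw [← b, o, up_one])) with ⟨v, hv, v0, e⟩ | ⟨g, j, l, e⟩
    · rw [← b, e]; exact cj1 v hv v0
    · have aS := d.s_WSU a
      refine (e (mem_c1.2 (d.s_icm c.k (su_sem aS) (ind_up aS) (d.s_USU l) (e2_of d.U_two l) ?_).symm)).elim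
      rw [b]
      exact k _ (l12 (c.u1 l)) (zy.trans (by rw [up_cj j aS, b]; exact Pg.ic _ _))

end CF.Ud
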