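import Cfsg.Agent.Ud.J1

/-! Elementary abelian subgroups of the semilinear unitary group: the Thompson subgroup. -/

set_option autoImplicit false
set_option linter.unusedSectionVars false
set_option linter.unusedVariables false

namespace CF.Ud

open Subgroup Equiv CF.Geom Module CF.Loc CF.LX CF.Dbl
open scoped commutatorElement

variable {K : Type} [Field K] [Fintype K] [CharP K 2] {m q j : ℕ} {σ θ θ' : K ≃+* K} {c ζ ζ' ω : K}
  {g p k ξ α w w' a b : Perm (Fin m → K)} {u v x y n n' u' v' : Fin m → K} {T T' S : Submodule K (Fin m → K)}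
  {A B H P O : Subgroup (Perm (Fin m → K))}

theorem cj_c1 {G : Type*} [Group G] (g x : G) : cj[g] 𝐂₁(x) = 𝐂₁(g * x * g⁻¹) := by
  ext y; rw [mem_cj, mem_c1, mem_c1, ← (MulAut.conj g).injective.eq_iff]; simp [mul_assoc]

namespace Dm
variable (d : Dm σ q m)
include d
theorem W_low (h : j ≤ m / 2) : q ^ j ^ 2 ≤ Nat.card (WX σ (Vf K m j)) := by
  induction j with
  | zero => exact Nat.card_pos
  | succ j ih =>
    have hy : ∀ x ∈ Vf K m j, hf σ (bv (m - (j + 1))) x = 0 := fun x i => hf_Vf (bv_mem (Nat.lt_succ_self _)) i (by omega)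
    have h1 : hf σ (bv (m - (j + 1)) : Fin m → K) (bv j) = 1 := by rw [hf_bb (by omega), if_pos (by omega)]
    have t := Vf_ti (σ := σ) (m := m) h
    have b : (bv j : Fin m → K) ∈ Vf K m (j + 1) := bv_mem j.lt_succ_self
    have o : ∀ (n : Vf K m j) (a : {a : K // σ a = a}), Ok σ (bv j) n.1 a.1 := fun n a =>
      ⟨d.iv, t _ b _ b, t _ (Vf_mono j.le_succ n.2) _ b, by
        rw [a.2, t _ (Vf_mono j.le_succ n.2) _ (Vf_mono j.le_succ n.2), CharTwo.add_self_eq_zero]⟩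
    have k : ∀ (w : WX σ (Vf K m j)) (n : Vf K m j) (a : {a : K // σ a = a}), (w * E σ (bv j) n.1 a.1) (bv (m - (j + 1))) =
        bv (m - (j + 1)) + n.1 + a.1 • bv j := fun w n a => by
      rw [Perm.mul_apply, E_ap (o n a), h1, hy _ n.2, one_smul, zero_add, mul_one]
      exact W_fix w.2 fun z i => by
        simp [hy z i, t _ (Vf_mono j.le_succ n.2) _ (Vf_mono j.le_succ i), t _ b _ (Vf_mono j.le_succ i)]
    refine le_trans ?_ (Nat.card_le_card_of_injective (fun p : WX σ (Vf K m j) × Vf K m j × {a : K // σ a = a} =>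
      (⟨p.1 * E σ (bv j) p.2.1.1 p.2.2.1, mul_mem (W_mono (Vf_mono j.le_succ) p.1.2) (E_W b (Vf_mono j.le_succ p.2.1.2) _)⟩ :
        WX σ (Vf K m (j + 1)))) fun ⟨w, n, a⟩ ⟨w', n', a'⟩ f => ?_)
    · rw [Nat.card_prod, Nat.card_prod, d.card_V (by omega), d.card_fix, ← pow_succ,
        show (j + 1) ^ 2 = j ^ 2 + (2 * j + 1) by ring, pow_add]
      exact Nat.mul_le_mul_right _ (ih (by omega))
    have f := congrArg Subtype.val f
    have f1 := (k w n a).symm.trans ((congrArg (· (bv (m - (j + 1)))) f).trans (k w' n' a'))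
    obtain rfl : a = a' := Subtype.ext (by simpa [hy _ n.2, hy _ n'.2, h1, a.2, a'.2] using congrArg (hf σ (bv (m - (j + 1)))) f1)
    obtain rfl : n = n' := Subtype.ext (by simpa using f1)
    exact congrArg (·, n, a) (Subtype.ext (mul_right_cancel f))
theorem card_W : Nat.card (WW σ m) = q ^ ((m / 2) ^ 2) := le_antisymm (d.jU d.W_le (d.W_el (Vf_ti le_rfl))) (d.W_low le_rfl)
theorem jF (l : ∀ a ∈ A, a ∈ Gam σ m ∧ Fl a) (e : El A) : Nat.card A ≤ q ^ (m / 2) ^ 2 ∧ (q ^ (m / 2) ^ 2 ≤ Nat.card A → A = WW σ m) := by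
  have u : A ⊓ GU σ m ≤ UT σ m := fun a i => d.U_of i.2 (l a i.1).2 (e2_inv (e a i.1))
  by_cases z : A ≤ GU σ m
  · rw [inf_eq_left.2 z] at u
    exact ⟨d.jU u e, fun c => eq_of_le_of_card_ge (d.jE u e c) (d.card_W ▸ c)⟩
  obtain ⟨α, a, b⟩ := SetLike.not_le_iff_exists.1 z
  have s : ∀ a ∈ A, a ∉ GU σ m → Sem σ σ a := fun a i j => by
    obtain ⟨θ, s⟩ := (l a i).1
    obtain rfl | rfl := d.inv_th s (e a i); exacts [absurd s j, s]
  have h1 := d.jG u (el_mono e inf_le_left) (s α a b) (e α a) (l α a).2 fun x i => el_cm e i.1 a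
  have h2 : (GU σ m).relIndex A ≤ 2 := Nat.le_of_dvd two_pos (relIndex_dvd_two_iff.2 ⟨α, a, fun x i => or_iff_not_imp_right.2 fun j =>
    show Sem σ 1 _ from (show σ * σ = 1 from RingEquiv.ext d.iv) ▸ (s x i j).mul (s α a b)⟩)
  have h3 := card_ri A (GU σ m)
  have h4 : Nat.card A < q ^ (m / 2) ^ 2 := by
    have := d.two_le; have := Nat.card_pos (α := ↥(A ⊓ GU σ m))
    refine lt_of_lt_of_le ?_ h1
    rw [← h3]; exact Nat.mul_lt_mul_of_pos_left (by nlinarith) this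
  exact ⟨h4.le, fun c => absurd c h4.not_ge⟩
theorem j1 (l : A ≤ Gam σ m) (e : El A) : Nat.card A ≤ q ^ ((m / 2) ^ 2) := by
  obtain ⟨g, -, b⟩ := d.fl_cj l (el_two e)
  exact card_cj g A ▸ (d.jF b (el_cj e g)).1
theorem j2 (l : A ≤ Gam σ m) (e : El A) (c : q ^ ((m / 2) ^ 2) ≤ Nat.card A) : ∃ T, Ti σ T ∧ finrank K T = m / 2 ∧ A = WX σ T := by
  obtain ⟨g, a, b⟩ := d.fl_cj l (el_two e)
  have f := (d.jF b (el_cj e g)).2 (card_cj g A ▸ c)
  have s := su_sem a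
  refine ⟨(Vf K m (m / 2)).comap (lin s), fun x i y j => s.form1 x y ▸ Vf_ti le_rfl _ i _ j,
    (dim_eq g fun _ => .rfl).trans d.Vl_dim, cj_inj.1 (f.trans (le_antisymm (fun w i => mem_cj.2 ?_) ?_))⟩
  · simpa using W_cj s.inv1 (fun x j => by simpa [lin_ap] using j) i
  · rintro _ ⟨w, i, rfl⟩; exact W_cj s (fun _ => id) i
theorem ju (l : P ≤ Gam σ m) (two : IsPGroup 2 P) (a : A ≤ P) (e : El A) (c : q ^ ((m / 2) ^ 2) ≤ Nat.card A)
    (b : B ≤ P) (e' : El B) (c' : q ^ ((m / 2) ^ 2) ≤ Nat.card B) : A = B := by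
  obtain ⟨g, -, f⟩ := d.fl_cj l two
  exact cj_inj.1 (((d.jF (fun x i => f x (cj_mono g a i)) (el_cj e g)).2 (card_cj g A ▸ c)).trans
    ((d.jF (fun x i => f x (cj_mono g b i)) (el_cj e' g)).2 (card_cj g B ▸ c')).symm)
theorem EE (l : Ti σ T) (hu : u ∈ T) (hu' : u' ∈ T) (hv : v ∈ T) (hv' : v' ∈ T) (r : LinearIndependent K ![u, u'])
    (e : E σ u v 0 = E σ u' v' 0) : ∃ a b c : K, σ a = a ∧ σ c = c ∧ v = a • u + b • u' ∧ v' = σ b • u + c • u' := by
  have f : ∀ x, hf σ x u • v + hf σ x v • u = hf σ x u' • v' + hf σ x v' • u' := fun x => by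
    simpa [E_ap (ok_iso d.iv (l _ hu _ hu) (l _ hv _ hv) (l _ hv _ hu)), E_ap (ok_iso d.iv (l _ hu' _ hu') (l _ hv' _ hv') (l _ hv' _ hu')),
      add_assoc] using congrArg (· x) e
  obtain ⟨x, i⟩ := d.dual r ![1, 0]
  obtain ⟨y, j⟩ := d.dual r ![0, 1]
  have x0 : hf σ x u = 1 := by simpa [d.sy] using congrArg σ (i 0)
  have x1 : hf σ x u' = 0 := d.sw (i 1)
  have y0 : hf σ y u = 0 := d.sw (j 0)
  have y1 : hf σ y u' = 1 := by simpa [d.sy] using congrArg σ (j 1)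
  have h1 : v = hf σ x v • u + hf σ x v' • u' := by
    have := f x; simp only [x0, x1, one_smul, zero_smul, zero_add] at this; rw [← this, add_comm v, ← add_assoc, vv, zero_add]
  have h2 : v' = hf σ y v • u + hf σ y v' • u' := by
    have := f y; simp only [y0, y1, one_smul, zero_smul, zero_add] at this; rw [this, add_assoc, vv, add_zero]
  have a1 := congrArg (hf σ x) h1; have a2 := congrArg (hf σ y) h1; have a3 := congrArg (hf σ y) h2
  simp only [hf_add_r, hf_smul_r, x0, x1, y0, y1, mul_one, mul_zero, add_zero, zero_add] at a1 a2 a3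
  exact ⟨_, _, _, a1.symm, a3.symm, h1, a2 ▸ h2⟩
theorem EV (l : Ti σ T) (hu : u ∈ T) (hx : x ∈ T) (hy : y ∈ T) : E σ u (x + y) 0 = E σ u x 0 * E σ u y 0 := by
  simp [E_mul (ok_iso d.iv (l _ hu _ hu) (l _ hx _ hx) (l _ hx _ hu)) (ok_iso d.iv (l _ hu _ hu) (l _ hy _ hy) (l _ hy _ hu)),
    l _ hy _ hx]
theorem j3 (i : Sem σ 1 g) (e : E2 g) (n : g ∈ 𝐍(WW σ m)) (c : g ∉ 𝐂(WW σ m)) :
    q ^ (m / 2) * Nat.card ↥(WW σ m ⊓ 𝐂₁(g)) < Nat.card (WW σ m) := by
  have t := Vf_ti (σ := σ) (m := m) le_rfl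
  have gV := (d.W_norm ⟨_, i⟩).1 n
  have z : zpowers g ≤ GU σ m := zpowers_le.2 i
  obtain ⟨u, a, b, f⟩ := fixs (T := LinearMap.eqLocus (lin i) .id) (T' := Vf K m (m / 2)) (isPGroup_zpowers e.choose_spec) (z.trans GU_le)
    (fun p j x k => by
      rw [show p x = x from zpowers_le.2 (show g ∈ MulAction.stabilizer _ x from k) j]; exact k)
    (fun p j => (d.W_norm (GU_le (z j))).1 (zpowers_le.2 n j)) fun k => c (d.W_cent t i k)
  obtain ⟨v, hv⟩ : ∃ v, g u = u + v := ⟨_, (add_sub_cancel _ _).symm⟩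
  replace f : g v = v := by simpa [hv, lin_ap] using f g (mem_zpowers g)
  have v0 : v ≠ 0 := fun k => b (by simpa [k, lin_ap] using hv)
  have vV : v ∈ Vf K m (m / 2) := by simpa [hv] using sub_mem (gV u a) a
  have r : LinearIndependent K ![v, u] := li_two v0 fun k => by
    obtain ⟨s, rfl⟩ := Submodule.mem_span_singleton.1 k; exact v0 (by simpa [i.smul1, f] using hv)
  have r' : LinearIndependent K ![u, g u] := LinearIndependent.pair_iff.2 fun s s' k => by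
    have := li_eq r (a := s') (b := s + s') (a' := 0) (b' := 0) (by rw [zero_smul, zero_smul, add_zero, ← k, hv]; module)
    exact ⟨by simpa [this.1] using this.2, this.1⟩
  have h1 := cnt2 (A := WW σ m) (C := 𝐂₁(g)) (fun x : Vf K m (m / 2) => E σ u x 0) (fun x y => d.EV t a x.2 y.2) fun x => E_W a x.2 0
  have h2 : Nat.card {x : Vf K m (m / 2) // E σ u x 0 ∈ 𝐂₁(g)} ≤ q * q := by
    have : ∀ x : {x : Vf K m (m / 2) // E σ u x 0 ∈ 𝐂₁(g)}, ∃ p : {a : K // σ a = a} × {a : K // σ a = a},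
        x.1.1 = p.1.1 • u + p.2.1 • v := fun ⟨x, j⟩ => by
      obtain ⟨s, s', s'', k1, k2, k3, k4⟩ := d.EE t a (gV u a) x.2 (gV _ x.2) r'
        (((conj_eq_iff.2 (mem_c1.1 j).symm).symm).trans (E_cj1 i ..))
      have := li_eq r (a := s) (b := s + s') (a' := s'') (b' := σ s' + s'') (by
        rw [k3, i.add, i.smul1, i.smul1, hv, i.add, hv, f] at k4
        ext l; have := congrFun k4 l; simp at this ⊢; grind)
      have k5 : σ s' = s' := by grind
      exact ⟨(⟨s + s', by rw [map_add, k1, k5]⟩, ⟨s', k5⟩), by rw [k3, hv]; module⟩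
    choose φ hφ using this
    exact (Nat.card_le_card_of_injective φ fun x y k => Subtype.ext (Subtype.ext (by rw [hφ, hφ, k]))).trans
      (by rw [Nat.card_prod, d.card_fix])
  rw [d.card_V (by omega)] at h1
  refine Nat.lt_of_mul_lt_mul_right (a := q * q) (lt_of_lt_of_le ?_ (h1.trans (Nat.mul_le_mul_left _ h2)))
  rw [mul_right_comm, ← pow_two, ← pow_add]
  exact Nat.mul_lt_mul_of_pos_right (Nat.pow_lt_pow_right d.q1 (by have := d.l3; omega)) Nat.card_pos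
theorem j3g (i : Sem σ σ α) (e : α * α = 1) (n : α ∈ 𝐍(WW σ m)) :
    q ^ (m / 2) * Nat.card ↥(WW σ m ⊓ 𝐂₁(α)) ≤ Nat.card (WW σ m) := by
  have t := Vf_ti (σ := σ) (m := m) le_rfl
  have gV := (d.W_norm ⟨_, i⟩).1 n
  have := d.l3
  obtain ⟨u, a, u0, b⟩ := d.fix_out (T' := ⊥) i e gV (by rw [d.Vl_dim]; simp; omega)
  obtain ⟨v, a', v0, b'⟩ := d.fix_out (T' := Submodule.span K {u}) i e gV (by have := one_dim u; rw [d.Vl_dim]; omega)
  have r := li_two u0 v0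
  obtain ⟨ω, o⟩ := d.om
  let F : AddSubgroup (Fin m → K) := ⟨⟨⟨{x | x ∈ Vf K m (m / 2) ∧ α x = x}, fun j k => ⟨add_mem j.1 k.1, by rw [i.add, j.2, k.2]⟩⟩,
    zero_mem _, i.zero⟩, fun {x} => by rw [neg_eq_of_add_eq_zero_left (vv x)]; exact id⟩
  have ab : ∀ {x y}, x ∈ WW σ m → y ∈ WW σ m → x * y = y * x := el_cm (d.W_el t)
  have sV : ∀ (c : K) (x : F), c • x.1 ∈ Vf K m (m / 2) := fun c x => Submodule.smul_mem _ _ x.2.1
  have h1 := cnt2 (A := WW σ m) (C := 𝐂₁(α)) (fun x : F × F => E σ u (ω • x.1.1) 0 * E σ v (ω • x.2.1) 0) (fun x y => by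
    simp only [Prod.fst_add, Prod.snd_add, AddSubgroup.coe_add, smul_add, d.EV t a (sV _ _) (sV _ _), d.EV t a' (sV _ _) (sV _ _),
      mul_assoc]
    rw [← mul_assoc (E σ u (ω • y.1.1) 0), ab (E_W a (sV _ _) 0) (E_W a' (sV _ x.2) 0), mul_assoc])
    fun x => mul_mem (E_W a (sV _ _) 0) (E_W a' (sV _ _) 0)
  have h2 : Nat.card {x : F × F // E σ u (ω • x.1.1) 0 * E σ v (ω • x.2.1) 0 ∈ 𝐂₁(α)} ≤ q * (q * q) := by
    have : ∀ x : {x : F × F // E σ u (ω • x.1.1) 0 * E σ v (ω • x.2.1) 0 ∈ 𝐂₁(α)},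
        ∃ p : {a : K // σ a = a} × {a : K // σ a = a} × {a : K // σ a = a},
        x.1.1.1 = p.1.1 • u + p.2.1.1 • v ∧ x.1.2.1 = p.2.1.1 • u + p.2.2.1 • v := fun ⟨⟨x, y⟩, j⟩ => by
      have k := conj_eq_iff.2 (mem_c1.1 j).symm
      have s : ∀ x : F, σ ω • x.1 = ω • x.1 + x := fun x => by ext; simp; grind
      rw [conj_mul_conj, E_cj i, E_cj i, b, b', i.smul, i.smul, x.2.2, y.2.2, map_zero, s, s, d.EV t a (sV _ _) x.2.1,
        d.EV t a' (sV _ _) y.2.1, mul_assoc, mul_right_inj, ab (E_W a' (sV _ _) 0) (E_W a' y.2.1 0), ← mul_assoc, mul_eq_right,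
        mul_eq_one_iff_eq_inv, inv_eq_of_mul_eq_one_left (W_sq t (E_W a' y.2.1 0))] at k
      obtain ⟨s, s', s'', k1, k2, k3, k4⟩ := d.EE t a a' x.2.1 y.2.1 r k
      have := x.2.2
      rw [k3, i.add, i.smul, i.smul, b, b'] at this
      have := (li_eq r this).2
      exact ⟨(⟨s, k1⟩, ⟨s', this⟩, ⟨s'', k2⟩), k3, by rwa [this] at k4⟩
    choose φ hφ using this
    exact (Nat.card_le_card_of_injective φ fun x y k => Subtype.ext (Prod.ext (Subtype.ext (by rw [(hφ _).1, (hφ _).1, k]))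
      (Subtype.ext (by rw [(hφ _).2, (hφ _).2, k])))).trans (by rw [Nat.card_prod, Nat.card_prod, d.card_fix])
  rw [Nat.card_prod, show Nat.card F = _ from d.card_fx i e gV, d.Vl_dim] at h1
  refine Nat.le_of_mul_le_mul_right (c := q * (q * q)) (le_trans ?_ (h1.trans (Nat.mul_le_mul_left _ h2))) (by have := d.q1; positivity)
  rw [mul_right_comm, show q * (q * q) = q ^ 3 by ring]
  gcongr; exact d.q1.le
theorem rk3 (l : P ≤ Gam σ m) (two : IsPGroup 2 P) (a : A ≤ P) (e : El A) (c : q ^ ((m / 2) ^ 2) ≤ Nat.card A)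
    (hg : g ∈ P) (hp : p ∈ P) (g2 : g * g = 1) (p2 : p * p = 1) :
    ∃ r, (r = g ∨ r = p ∨ r = g * p) ∧ (r ∈ 𝐂(A) ∨ q ^ (m / 2) * Nat.card ↥(A ⊓ 𝐂₁(r)) < Nat.card A) := by
  obtain ⟨k, i, f⟩ := d.fl_cj l two
  have h := (d.jF (fun x i => f x (cj_mono k a i)) (el_cj e k)).2 (card_cj k A ▸ c)
  suffices ∀ r ∈ P, Sem σ 1 r → (r ∈ 𝐂(A) ∨ q ^ (m / 2) * Nat.card ↥(A ⊓ 𝐂₁(r)) < Nat.card A) by
    obtain ⟨θ, s⟩ := l hg
    obtain ⟨θ', s'⟩ := l hp
    obtain rfl | rfl := d.inv_th s g2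
    · exact ⟨g, .inl rfl, this g hg s⟩
    obtain rfl | rfl := d.inv_th s' p2
    · exact ⟨p, .inr (.inl rfl), this p hp s'⟩
    exact ⟨_, .inr (.inr rfl), this _ (mul_mem hg hp) (by simpa [show θ' * θ' = 1 from RingEquiv.ext d.iv] using s.mul s')⟩
  refine fun r j s => or_iff_not_imp_left.2 fun n => ?_
  have := f _ (conj_mem_cj k j)
  have := d.j3 ((su_sem i).cj s) ((e2_of two j).cj k) ((d.W_norm this.1).2 (this.2 _)) (by
    rwa [← h, ← cj_centralizer, conj_mem_cj_iff])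
  rwa [← h, ← cj_c1, ← cj_inf, card_cj, card_cj] at this
theorem g1 (i : Sem σ θ α) (e : α * α = 1) (f : Fl α) : ∃ B ≤ UT σ m ⊓ 𝐂₁(α), El B ∧ 2 * q ^ ((m / 2) ^ 2) ≤ Nat.card B ^ 2 ∧
    (θ = 1 → 4 * q ^ ((m / 2) ^ 2) ≤ Nat.card B ^ 2) := by
  have t := Vf_ti (σ := σ) (m := m) le_rfl
  obtain ⟨h1, h2⟩ := half (d.W_el t) ((d.W_norm ⟨_, i⟩).2 (f _)) e
  rw [d.card_W] at h1 h2
  have el := el_mono (d.W_el t) (inf_le_left (b := 𝐂₁(α)))
  obtain rfl | rfl := d.inv_th i e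
  · suffices ∃ B ≤ UT σ m ⊓ 𝐂₁(α), El B ∧ 4 * q ^ ((m / 2) ^ 2) ≤ Nat.card B ^ 2 from
      this.imp fun B h => ⟨h.1, h.2.1, le_trans (by omega) h.2.2, fun _ => h.2.2⟩
    by_cases z : α ∈ WW σ m
    · refine ⟨WW σ m, le_inf d.W_le fun w j => mem_c1.2 (el_cm (d.W_el t) j z), d.W_el t, ?_⟩
      rw [d.card_W, pow_two (q ^ _)]
      exact Nat.mul_le_mul_right _ (le_trans (by have := d.two_le; nlinarith) (Nat.pow_le_pow_right d.q1.le
        (show 2 ≤ _ by have := d.l3; nlinarith)))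
    have n : zpowers α ≤ 𝐂(WW σ m ⊓ 𝐂₁(α)) := zpowers_le.2 (mem_centralizer_iff'.2 fun x j => mem_c1.1 j.2)
    refine ⟨(WW σ m ⊓ 𝐂₁(α)) ⊔ zpowers α, sup_le (inf_le_inf_right _ d.W_le) (zpowers_le.2 ⟨d.U_of i f (e2_inv e), mem_c1.2 rfl⟩),
      fun x j => ?_, ?_⟩
    · obtain ⟨w, a, y, b, rfl⟩ := (mem_sup_of_le_normalizer (n.trans (centralizer_le_normalizer _))).1 j
      rw [mul_assoc, ← mul_assoc y, ← mem_centralizer_iff'.1 (n b) w a, mul_assoc, ← mul_assoc w, el w a, one_mul]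
      obtain ⟨s, rfl⟩ := b
      rw [← Commute.mul_zpow rfl, e, one_zpow]
    obtain ⟨s, r⟩ := card_dvd_of_le (le_sup_left (a := WW σ m ⊓ 𝐂₁(α)) (b := zpowers α))
    have : s ≠ 1 := fun u => z (mem_inf.1 ((eq_of_le_of_card_ge le_sup_left (by rw [r, u, mul_one])).ge
      (mem_sup_right (mem_zpowers α)))).1
    have : s ≠ 0 := fun u => Nat.card_pos.ne' (r.trans (by rw [u, mul_zero]))
    rw [r, mul_pow, mul_comm]
    exact Nat.mul_le_mul h1 (Nat.pow_le_pow_left (show 2 ≤ s by omega) 2)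
  obtain ⟨u, a, u0, b⟩ := d.fix_out (T' := ⊥) i e (f (m / 2)) (by have := d.l3; rw [d.Vl_dim]; simp; omega)
  obtain ⟨x, -, c, s⟩ := d.fix_out (T := ⊤) (T' := pp θ (Submodule.span K {u})) i e (by simp) (by
    have := d.pp_dim (Submodule.span K {u}); rw [finrank_span_singleton u0] at this; simp; omega)
  refine ⟨_, inf_le_inf_right _ d.W_le, el, h2 (E θ u 0 1) ⟨E_W a (zero_mem _) _, mem_c1.2 (conj_eq_iff.1 (by
    rw [tv_cj i, b, map_one])).symm⟩ fun w j k => c (mem_perp_singleton.2 ?_), fun z => absurd z d.ne⟩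
  have j' := W_cj i (f _) j
  have k := congrArg (fun p : Perm _ => hf θ (p x + x) x) k
  have s' : α.symm x = x := (symm_apply_eq α).2 s.symm
  have h3 : (α * w * α⁻¹) (w x) = w x + x + α (w x) := by
    rw [show w x = w x + x + x by rw [add_assoc, vv, add_zero], j'.1.add, W_fix j' (t _ (W_add j x))]
    simp [s', add_assoc, vv]
  have h4 : hf θ (α (w x) + x) x = hf θ (w x + x) x := by
    rw [W_sa t j, ← d.sy (w x + x), ← i.form, i.add, s]
  simp only [Perm.mul_apply _ w, h3, E_ap (ok_tv d.iv (t _ a _ a) (map_one θ)), add_assoc (w x + x), hf_add_l (w x + x), h4,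
    CharTwo.add_self_eq_zero] at k
  simpa [sq_ap, add_right_comm x, vv, ← d.sy x u, eq_comm (a := (0 : K))] using k
end Dm

end CF.Ud
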