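import Cfsg.Agent.Ud.K
import Cfsg.Agent.Geom.Forms

/-! The bridge to the coordinate-free library: determinants, Witt's lemma, orthogonal complements. -/

set_option autoImplicit false
set_option linter.unusedSectionVars false

namespace CF.Ud

open Subgroup Equiv CF.Geom Module

variable {K : Type} [Field K] [Fintype K] [CharP K 2] {m q : ℕ} {σ θ : K ≃+* K} {a b c : K}
  {g p ξ : Perm (Fin m → K)} {u v w x y e n u' v' : Fin m → K} {T T' : Submodule K (Fin m → K)}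

variable (σ) in
/-- the form as a sesquilinear map -/
def sq (m : ℕ) : (Fin m → K) →ₛₗ[(σ : K →+* K)] (Fin m → K) →ₗ[K] K :=
  LinearMap.mk₂'ₛₗ (σ : K →+* K) (RingHom.id K) (fun x y => hf σ y x) (fun _ _ _ => hf_add_r ..) (fun _ _ _ => hf_smul_r ..)
    (fun _ _ _ => hf_add_l ..) (fun _ _ _ => hf_smul_l ..)

theorem sq_ap (x y : Fin m → K) : sq σ m x y = hf σ y x := rfl

variable (σ) in
/-- orthogonal complements -/
abbrev pp (T : Submodule K (Fin m → K)) : Submodule K (Fin m → K) := perp (sq σ m) T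

theorem mem_pp : x ∈ pp σ T ↔ ∀ y ∈ T, hf σ x y = 0 := Iff.rfl
theorem mem_pp_span {s : Set (Fin m → K)} : x ∈ pp σ (Submodule.span K s) ↔ ∀ y ∈ s, hf σ x y = 0 := mem_perp_span

variable (σ) in
/-- isometries as permutations -/
def pm (m : ℕ) : UG (sq σ m) →* Perm (Fin m → K) := ⟨⟨fun g => g.1.toEquiv, rfl⟩, fun _ _ => rfl⟩

theorem pm_ap (g : UG (sq σ m)) (x : Fin m → K) : pm σ m g x = g.1 x := rfl
theorem pm_sem (g : UG (sq σ m)) : Sem σ 1 (pm σ m g) :=
  ⟨g.1.map_add, g.1.map_smul, fun x y => UG_map g y x, fun _ => rfl⟩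
theorem Sem.pm (h : Sem σ 1 g) : ∃ k, pm σ m k = g :=
  ⟨⟨{ lin h with invFun := g.symm, left_inv := g.left_inv, right_inv := g.right_inv }, mem_UG.2 fun x y => h.form y x⟩, rfl⟩
theorem lin_ap (h : Sem σ 1 g) (x : Fin m → K) : lin h x = g x := rfl
theorem dt_eq (h : Sem σ 1 g) : dt σ g = LinearMap.det (lin h) := dif_pos h
theorem dt_pm (g : UG (sq σ m)) : dt σ (pm σ m g) = LinearMap.det (g.1 : (Fin m → K) →ₗ[K] _) := dt_eq (pm_sem g)
theorem dt_mul (h : Sem σ 1 g) (k : Sem σ 1 p) : dt σ (g * p) = dt σ g * dt σ p := by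
  rw [dt_eq h, dt_eq k, dt_eq (h.mul1 k), ← LinearMap.det_comp]; rfl
theorem dt_one : dt σ (1 : Perm (Fin m → K)) = 1 := by rw [dt_eq sem_one]; exact LinearMap.det_id
theorem Sem.pow (h : Sem σ 1 g) (j : ℕ) : Sem σ 1 (g ^ j) := pow_mem (show g ∈ GU σ m from h) j
theorem dt_pow (h : Sem σ 1 g) (j : ℕ) : dt σ (g ^ j) = dt σ g ^ j := by
  induction j with
  | zero => simpa using dt_one
  | succ j ih => rw [pow_succ, dt_mul (h.pow j) h, ih, pow_succ]
theorem sum_bv (x : Fin m → K) : ∑ i : Fin m, x i • (bv i.val : Fin m → K) = x := by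
  ext j; simp [bv, Finset.sum_apply, Fin.val_inj]
theorem bv_eq (i : Fin m) : (bv i.val : Fin m → K) = Pi.single i 1 := by ext j; simp [bv, Pi.single_apply, Fin.val_inj]
theorem hf_bb {i j : ℕ} (hj : j < m) : hf σ (bv i : Fin m → K) (bv j) = if i + j + 1 = m then 1 else 0 := by
  have := hf_bv (σ := σ) (bv i : Fin m → K) (Fin.rev ⟨j, hj⟩)
  rw [Fin.rev_rev] at this
  rw [this, bv]; simp only [Fin.val_rev]; congr 1; apply propext; omega
theorem bv_ne {i : ℕ} (h : i < m) : (bv i : Fin m → K) ≠ 0 := fun e => by simpa [bv] using congrFun e ⟨i, h⟩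
theorem nd (h : ∀ y, hf σ x y = 0) : x = 0 := hf_ext (σ := σ) fun w => by rw [h, hf_zero_l]
theorem finrank_V : finrank K (Fin m → K) = m := by simp

namespace Fd
variable (d : Fd σ q)
include d
theorem herm : IsHerm (sq σ m) := ⟨fun e => d.ne (RingEquiv.ext (RingHom.congr_fun e)), d.iv, ⟨fun x y => hf_sym d.iv y x⟩⟩
theorem ndg : (sq σ m).Nondegenerate := ⟨fun _ h => nd (σ := σ) fun y => hf_swap d.iv (h y), fun _ h => nd h⟩
theorem wp : IsWittPair (σ : K →+* K) (sq σ m) fun x => sq σ m x x := d.herm.wittPair d.ndg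
theorem sw (h : hf σ x y = 0) : hf σ y x = 0 := hf_swap d.iv h
theorem sy (x y : Fin m → K) : σ (hf σ x y) = hf σ y x := hf_sym d.iv x y
theorem pp_dim (T : Submodule K (Fin m → K)) : finrank K T + finrank K (pp σ T) = m := (d.wp.finrank_perp T).trans finrank_V
theorem pp_pp (T : Submodule K (Fin m → K)) : pp σ (pp σ T) = T := d.wp.perp_perp T
theorem mem_of_pp (h : ∀ y, (∀ z ∈ T, hf σ y z = 0) → hf σ x y = 0) : x ∈ T := d.pp_pp T ▸ h
theorem SU_map : SU σ m = (uTransSub (d.herm (m := m))).map (pm σ m) := by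
  have k : ∀ (v : Fin m → K) a (hv : hf σ v v = 0) (e : σ a = a) e', pm σ m (uTrans d.herm (s := a) hv e') = E σ v 0 a :=
    fun v a hv e e' => Equiv.ext fun x => by rw [E_ap (ok_tv d.iv hv e)]; change x + (a * hf σ x v) • v = _; simp
  refine le_antisymm (SU_iso d.iv fun v a hv e => ⟨_, uTrans_mem _ hv (e.trans (CharTwo.neg_eq a).symm), k v a hv e _⟩)
    (map_le_iff_le_comap.2 ((closure_le _).2 ?_))
  rintro _ ⟨v, a, hv, e, rfl⟩
  exact mem_comap.2 (k v a hv (e.trans (CharTwo.neg_eq a)) e ▸ tv_SU _ _)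
theorem mem_SU (hm : 4 ≤ m) : g ∈ SU σ m ↔ Sem σ 1 g ∧ dt σ g = 1 := by
  rw [d.SU_map, uTransSub_eq_suSub d.herm d.ndg (by rw [finrank_V]; omega) (.inr (by rwa [finrank_V]))]
  exact ⟨fun ⟨k, h, e⟩ => e ▸ ⟨pm_sem k, (dt_pm k).trans (mem_suSub.1 h)⟩,
    fun ⟨h, e⟩ => by obtain ⟨k, rfl⟩ := h.pm; exact ⟨k, mem_suSub.2 ((dt_pm k).symm.trans e), rfl⟩⟩
theorem dt_nrm (h : Sem σ 1 g) : dt σ g * σ (dt σ g) = 1 := by
  let M := LinearMap.toMatrix' (lin h)
  let J : Matrix (Fin m) (Fin m) K := .of fun i j => hf σ (bv i.val : Fin m → K) (bv j.val)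
  have e : M.transpose * J * M.map σ = J := by
    ext i j
    change _ = hf σ _ _
    rw [← h.form1, ← sum_bv (g _), ← sum_bv (g (bv j.val))]
    have s : ∀ (f : Fin m → Fin m → K) y, hf σ (∑ i, f i) y = ∑ i, hf σ (f i) y := fun f y => map_sum (sq σ m y) f _
    have s' : ∀ (f : Fin m → Fin m → K) y, hf σ y (∑ i, f i) = ∑ i, hf σ y (f i) := fun f y => map_sum ((sq σ m).flip y) f _
    simp only [s, s', hf_smul_l, hf_smul_r, Matrix.mul_apply, Finset.sum_mul, Finset.mul_sum]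
    rw [Finset.sum_comm]
    refine Finset.sum_congr rfl fun a _ => Finset.sum_congr rfl fun b _ => ?_
    simp only [M, J, Matrix.of_apply, Matrix.map_apply, Matrix.transpose_apply, LinearMap.toMatrix'_apply, lin_ap, bv_eq]; ring
  have j : J * J = 1 := by
    ext i j
    simp only [Matrix.mul_apply, J, Matrix.of_apply, hf_bb (Fin.is_lt _)]
    rw [Finset.sum_eq_single i.rev (fun b _ n => by rw [if_neg fun e => n (Fin.ext (by simp; omega)), zero_mul]) (by simp),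
      if_pos (by simp; omega), one_mul, Matrix.one_apply]
    congr 1; apply propext; simp only [Fin.val_rev, Fin.ext_iff]; omega
  have j0 : J.det ≠ 0 := fun z => by simpa [z] using congrArg Matrix.det j
  have := congrArg Matrix.det e
  rw [Matrix.det_mul, Matrix.det_mul, Matrix.det_transpose, show M.map σ = (σ : K →+* K).mapMatrix M from rfl,
    ← RingHom.map_det, LinearMap.det_toMatrix', ← dt_eq h, mul_right_comm] at this
  exact mul_right_cancel₀ j0 (this.trans (one_mul _).symm)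
theorem part (hx : x ∉ T) : ∃ y, hf σ y x = 1 ∧ ∀ z ∈ T, hf σ y z = 0 := d.wp.exists_dual_vec hx
theorem part_iso (hx : x ∉ T) (h : hf σ x x = 0) (e : ∀ z ∈ T, hf σ x z = 0) :
    ∃ y, hf σ y y = 0 ∧ hf σ y x = 1 ∧ ∀ z ∈ T, hf σ y z = 0 := by
  simpa [sq_ap] using d.wp.exists_partner hx (by simpa [sq_ap] using h) e
theorem iso_mem (h : 2 ≤ finrank K T) : ∃ v ∈ T, v ≠ 0 ∧ hf σ v v = 0 := exists_isotropic_mem (d.herm (m := m)).ne_id d.iv d.herm.symm h
theorem ti_of (h : ∀ x ∈ T, hf σ x x = 0) : Ti σ T := fun x hx y hy => by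
  by_contra n
  obtain ⟨a, b, e⟩ := exists_nonisotropic (.inl (d.herm (m := m)).ne_id) d.herm.symm (B := sq σ m) (x := y) (y := x) n
  exact e (h _ (add_mem (T.smul_mem _ hy) (T.smul_mem _ hx)))
theorem ti_le (l : Ti σ T) : finrank K T ≤ m / 2 := by
  have := d.wp.two_mul_finrank_le (U := T) l
  rw [finrank_V] at this; omega
theorem an_mem (h : m / 2 < finrank K T) : ∃ e ∈ T, hf σ e e ≠ 0 := by
  by_contra! n
  exact (d.ti_le (d.ti_of n)).not_gt h
theorem witt0 {ι : Type*} {u v : ι → Fin m → K} (hu : LinearIndependent K u) (hv : LinearIndependent K v)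
    (e : ∀ i j, hf σ (u i) (u j) = hf σ (v i) (v j)) : ∃ g ∈ GU σ m, ∀ i, g (u i) = v i := by
  obtain ⟨g, h, k⟩ := d.wp.exists_isom_frame u v hu hv (fun i j => (e j i).symm) fun i => (e i i).symm
  exact ⟨pm σ m ⟨g, h⟩, pm_sem _, k⟩
end Fd

namespace Dm
variable (d : Dm σ q m)
include d
theorem mem_SU : g ∈ SU σ m ↔ Sem σ 1 g ∧ dt σ g = 1 := d.toFd.mem_SU (by have := d.hm; omega)
theorem two_SU (l : Sem σ 1 g) (e : E2 g) : g ∈ SU σ m := d.mem_SU.2 ⟨l, by
  obtain ⟨j, e⟩ := e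
  exact d.norm_two (d.dt_nrm l) (j := j) (by rw [← dt_pow l, e, dt_one])⟩
theorem witt0 {r : ℕ} {u v : Fin r → Fin m → K} (hu : LinearIndependent K u) (hv : LinearIndependent K v)
    (e : ∀ i j, hf σ (u i) (u j) = hf σ (v i) (v j)) : ∃ g ∈ GU σ m, ∀ i, g (u i) = v i := d.toFd.witt0 hu hv e
theorem fix_an (l : Sem σ 1 g) (he : hf σ e e ≠ 0) : ∃ r ∈ GU σ m, (∀ x, hf σ x e = 0 → r x = x) ∧ r * g ∈ SU σ m := by
  have n := d.dt_nrm l
  have s := d.sy e e
  let r := uRank1 d.herm e ((σ (dt σ g) + 1) / hf σ e e) (by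
    simp only [sq_ap, RingHom.coe_coe, map_div₀, map_add, map_one, s, d.iv _]; field_simp; grind)
  refine ⟨pm σ m r, pm_sem r, fun x h => by simp [r, pm_ap, uRank1_apply, sq_ap, h], d.mem_SU.2 ⟨(pm_sem r).mul1 l, ?_⟩⟩
  rw [dt_mul (pm_sem r) l, dt_pm, det_uRank1, sq_ap, div_mul_cancel₀ _ he]; grind
theorem fix_hyp (l : Sem σ 1 g) (hu : hf σ u u = 0) (hv : hf σ v v = 0) (e : hf σ u v = 1) : ∃ r ∈ GU σ m, ∃ c : K,
    c * σ c = 1 ∧ (∀ x, hf σ x u = 0 → hf σ x v = 0 → r x = x) ∧ r u = c • u ∧ r v = c • v ∧ r * g ∈ SU σ m := by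
  have n := d.dt_nrm l
  obtain ⟨c, h⟩ := exists_rt (σ (dt σ g))
  have h1 : c * σ c = 1 := sq_inj (by rw [mul_mul_mul_comm, ← map_mul, h, d.iv, mul_comm, n, one_mul])
  have h2 : (σ c)⁻¹ = c := inv_eq_of_mul_eq_one_left h1
  let r := uDil d.herm hv hu e (Units.mkOfMulEqOne c _ h1)
  refine ⟨pm σ m r, pm_sem r, c, h1, fun x a b => uDil_of_perp d.herm hv hu e _ b a, (uDil_right d.herm hv hu e _).trans (congrArg (· • u) h2),
    uDil_left d.herm hv hu e _, d.mem_SU.2 ⟨(pm_sem r).mul1 l, ?_⟩⟩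
  rw [dt_mul (pm_sem r) l, dt_pm, show LinearMap.det (r.1 : (Fin m → K) →ₗ[K] _) = _ from det_uDil d.herm hv hu e _]
  change c * (σ c)⁻¹ * _ = 1
  rw [h2, h, mul_comm, n]
theorem E_SU (v n : Fin m → K) (a : K) : E σ v n a ∈ SU σ m := d.two_SU (E_sem ..) ⟨2, by
  by_cases o : Ok σ v n a
  · rw [show 2 ^ 2 = 2 * 2 from rfl, pow_mul, _root_.sq, _root_.sq, E_sq o, tv_sq]
  · simp [E_junk o]⟩
theorem ti_le (l : Ti σ T) : finrank K T ≤ m / 2 := d.toFd.ti_le l
end Dm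

end CF.Ud
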