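import Cfsg.Agent.Ud.C1

/-! Geometry of the unitary space, second part: vector stabilisers, additive and biadditive maps. -/

set_option autoImplicit false
set_option linter.unusedSectionVars false
set_option linter.unusedVariables false

namespace CF.Ud

open Subgroup Equiv CF.Geom Module CF.Loc CF.LX
open scoped commutatorElement

variable {K : Type} [Field K] [Fintype K] [CharP K 2] {m q : ℕ} {σ θ : K ≃+* K} {a b c ζ : K}
  {g p k ξ : Perm (Fin m → K)} {u v w x y e n u' v' : Fin m → K} {T T' S : Submodule K (Fin m → K)}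
  {H P : Subgroup (Perm (Fin m → K))}

theorem Q_sem (h : g ∈ Q σ v) : Sem σ 1 g := (show Q σ v ≤ GU σ m from (closure_le _).2 fun _ ⟨_, _, e⟩ => e ▸ E_sem _ _ _) h
theorem E_self (v n : Fin m → K) (ζ : K) : E σ v n ζ v = v := by
  by_cases o : Ok σ v n ζ
  exacts [E_fix o.vv o.vn ζ, by simp [E_junk o]]
theorem E_split (o : Ok σ v n ζ) (h : hf σ n n = 0) : σ ζ = ζ ∧ E σ v n ζ = E σ v n 0 * E σ v 0 ζ := by
  have : σ ζ = ζ := by have := o.tr; grind
  exact ⟨this, by simp [E_mul (ok_iso o.iv o.vv h o.nv) (ok_tv o.iv o.vv this)]⟩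

namespace Fd
variable (d : Fd σ q)
include d
theorem ok (hv : hf σ v v = 0) (h : hf σ n v = 0) : ∃ ζ, Ok σ v n ζ := (d.trc (d.sy n n)).imp fun _ e => ⟨d.iv, hv, h, e⟩
theorem dec (hv : hf σ v v = 0) (hy : hf σ y y = 0) (e : hf σ y v = 1) (x : Fin m → K) :
    ∃ w, x = hf σ x y • v + hf σ x v • y + w ∧ hf σ w v = 0 ∧ hf σ w y = 0 := d.herm.hyp_decomp hv hy e x
theorem ext_hyp (hv : hf σ v v = 0) (hy : hf σ y y = 0) (e : hf σ y v = 1) (l : Sem σ θ g) (l' : Sem σ θ k) (h1 : g v = k v)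
    (h2 : g y = k y) (h3 : ∀ x, hf σ x v = 0 → hf σ x y = 0 → g x = k x) : g = k := Equiv.ext fun x => by
  obtain ⟨w, f, a, b⟩ := d.dec hv hy e x
  rw [f]; simp only [l.add, l.smul, l'.add, l'.smul, h1, h2, h3 w a b]
theorem Q_move (hv : hf σ v v = 0) (hy : hf σ y y = 0) (hx : hf σ x x = 0) (e : hf σ y v = 1) (f : hf σ x v = 1) :
    Ok σ v (x + y) (hf σ y x) ∧ E σ v (x + y) (hf σ y x) y = x := by
  have o : Ok σ v (x + y) (hf σ y x) := ⟨d.iv, hv, by simp [e, f, CharTwo.add_self_eq_zero], by simp [*, d.sy, add_comm]⟩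
  refine ⟨o, ?_⟩
  rw [E_ap o]; simp [*, CharTwo.add_self_eq_zero, add_comm x, ← add_assoc, vv]
theorem mem_Q_of (hv : hf σ v v = 0) (v0 : v ≠ 0) (l : Sem σ 1 p) (e : p v = v) (f : ∀ x, hf σ x v = 0 → ∃ c : K, p x = x + c • v) :
    p ∈ Q σ v := by
  obtain ⟨y, hy, j, j'⟩ := d.partner hv v0
  obtain ⟨o, r⟩ := d.Q_move hv hy (x := p y) (by rw [l.form1, hy]) j (by rw [← e, l.form1, j])
  rw [d.ext_hyp hv hy j l (E_sem v (p y + y) (hf σ y (p y))) (e.trans (E_self ..).symm) r.symm fun x a b => ?_]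
  · exact E_Q _ _ _
  obtain ⟨c, s⟩ := f x a
  have := l.form1 x y
  rw [s, b, hf_add_l, hf_smul_l, ← e, l.form1, j'] at this
  rw [s, E_ap o, a, hf_add_r, b]; congr 1 <;> simp; congr 1; grind
theorem tv_one (hw : hf σ w w = 0) (e : σ a = a) : ∃ c : K, E σ w 0 a = E σ (c • w) 0 1 :=
  (d.nrm e).imp fun c f => by rw [tv_smul d.iv hw (map_one σ), f, mul_one]
end Fd

namespace Dm
variable (d : Dm σ q m)
include d
theorem Q_SU : Q σ v ≤ SU σ m := (closure_le _).2 fun _ ⟨_, _, e⟩ => e ▸ d.E_SU _ _ _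
theorem Q_Y : Q σ v ≤ Y σ v := (closure_le _).2 fun _ ⟨_, _, e⟩ => e ▸ ⟨d.E_SU _ _ _, E_self _ _ _⟩
theorem E_mem (z : ∀ a, σ a = a → E σ v 0 a ∈ H) (iso : ∀ n, hf σ n n = 0 → hf σ n u = 0 → hf σ n v = 0 → E σ v n 0 ∈ H)
    (o : Ok σ v n ζ) (f : hf σ n u = 0) : E σ v n ζ ∈ H := by
  refine (d.span_iso' (p := fun n => hf σ n v = 0 ∧ ∀ ζ, Ok σ v n ζ → E σ v n ζ ∈ H) (fun x y a b => ⟨by simp [a.1, b.1],
    fun ζ o => ?_⟩) (fun x a b c => ⟨c, fun ζ o => ?_⟩) f o.nv).2 ζ o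
  · obtain ⟨ζ', o'⟩ := d.ok o.vv a.1
    have o2 : Ok σ v y (ζ + ζ' + hf σ y x) := ⟨d.iv, o.vv, b.1, by
      have := o.tr; have := o'.tr; simp only [map_add, d.sy, hf_add_l, hf_add_r] at *; grind⟩
    have := mul_mem (a.2 _ o') (b.2 _ o2)
    rwa [E_mul o' o2, show ζ' + (ζ + ζ' + hf σ y x) + hf σ y x = ζ by grind] at this
  · rw [(E_split o a).2]; exact mul_mem (iso x a b c) (z _ (E_split o a).1)
theorem Q_le_of (hv : hf σ v v = 0) (z : ∀ a, σ a = a → E σ v 0 a ∈ H) (iso : ∀ n, hf σ n n = 0 → hf σ n v = 0 → E σ v n 0 ∈ H) :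
    Q σ v ≤ H := fun g i => by
  obtain ⟨n, ζ, o, rfl⟩ := (mem_Q d.iv hv).1 i
  exact d.E_mem z (fun n a _ => iso n a) o o.nv
theorem Y_gen (hv : hf σ v v = 0) (v0 : v ≠ 0) (l : ∀ w, hf σ w w = 0 → hf σ w v = 0 → E σ w 0 1 ∈ H) : Y σ v ≤ H := by
  have l' : ∀ w a, hf σ w w = 0 → hf σ w v = 0 → σ a = a → E σ w 0 a ∈ H := fun w a i j e => by
    obtain ⟨c, f⟩ := d.tv_one i e
    exact f ▸ l _ (by simp [i]) (by simp [j])
  have hQ : Q σ v ≤ H := d.Q_le_of hv (fun a => l' v a hv hv) fun n a b => by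
    have := tv_pol d.iv hv a (d.sw b) (map_one σ)
    rw [one_smul] at this
    exact this ▸ mul_mem (mul_mem (l _ (by simp [d.sw b, *]) (by simp [*])) (l _ hv hv)) (l _ a b)
  obtain ⟨y, hy, j, j'⟩ := d.partner hv v0
  suffices ∀ g ∈ SU σ m, g v = v → g y = y → g ∈ H by
    intro g ⟨i, e⟩
    replace e : g v = v := e
    obtain ⟨o, r⟩ := d.Q_move hv hy (x := g y) (by rw [(su_sem i).form1, hy]) j (by rw [← e, (su_sem i).form1, j])
    exact (mul_mem_cancel_left (inv_mem (hQ (E_Q _ _ _)))).1 (this _ (mul_mem (inv_mem (d.E_SU _ _ _)) i)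
      (Perm.inv_eq_iff_eq.2 (e.trans (E_self ..).symm)) (Perm.inv_eq_iff_eq.2 r.symm))
  intro g i e e'
  have s := su_sem i
  let P := pp σ (Submodule.span K {v, y})
  have mP : ∀ x, x ∈ P ↔ hf σ x v = 0 ∧ hf σ x y = 0 := fun x => mem_perp_pair
  have nd := (d.wp.restrict (d.wp.disjoint_perp_perp (d.wp.disjoint_hyperbolic hv hy (j.trans_ne one_ne_zero)))).nondegenerate
  have dm : 4 ≤ finrank K P := by have : _ + finrank K P = m := d.pp_dim _; have := pair_dim v y; have := d.hm; omega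
  have st : ∀ {g}, Sem σ 1 g → g v = v → g y = y → ∀ x, g x - x ∈ P := fun s e e' x => (mP _).2
    ⟨by rw [vsub, hf_add_l, ← s.form1 x v, e, CharTwo.add_self_eq_zero], by rw [vsub, hf_add_l, ← s.form1 x y, e', CharTwo.add_self_eq_zero]⟩
  have hP : P ≤ P.comap (lin s) := fun x a => by simpa [lin_ap] using add_mem (st s e e' x) a
  let M : Subgroup (UG ((sq σ m).domRestrict₁₂ P P)) :=
    { carrier := {k | ∃ h ∈ H, Sem σ 1 h ∧ h v = v ∧ h y = y ∧ ∀ x : P, h x = k.1 x}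
      mul_mem' := fun ⟨h, a1, a2, a3, a4, a5⟩ ⟨k, b1, b2, b3, b4, b5⟩ => ⟨h * k, mul_mem a1 b1, a2.mul1 b2, by simp [*], by simp [*],
        fun x => by rw [Perm.mul_apply, b5, a5]; rfl⟩
      one_mem' := ⟨1, one_mem _, sem_one, rfl, rfl, fun _ => rfl⟩
      inv_mem' := fun {k} ⟨h, a1, a2, a3, a4, a5⟩ => ⟨h⁻¹, inv_mem a1, a2.inv1, Perm.inv_eq_iff_eq.2 a3.symm,
        Perm.inv_eq_iff_eq.2 a4.symm, fun x => Perm.inv_eq_iff_eq.2 (by rw [a5]; exact congrArg _ (k.1.apply_symm_apply x).symm)⟩ }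
  have hM : uTransSub (d.herm.restrict P) ≤ M := (closure_le _).2 (by
    rintro _ ⟨w, a, i, f, rfl⟩
    have f' : σ a = a := f.trans (CharTwo.neg_eq a)
    obtain ⟨h1, h2⟩ := (mP _).1 w.2
    exact ⟨E σ w 0 a, l' _ _ i h1 f', E_sem .., E_fix (d.sw h1) (by simp) _, E_fix (d.sw h2) (by simp) _, fun x => by
      rw [E_ap (ok_tv d.iv (v := w.1) i f')]; change _ = x.1 + (a * hf σ x.1 w) • w.1; simp⟩)
  rw [uTransSub_eq_suSub _ nd (le_trans (by omega) dm) (.inr dm)] at hM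
  obtain ⟨h, a1, a2, a3, a4, a5⟩ := hM (x := ⟨LinearEquiv.ofInjectiveEndo ((lin s).restrict hP) fun x y e => Subtype.ext
    (g.injective (congrArg Subtype.val e)), mem_UG.2 fun x y => s.form1 y x⟩) (mem_suSub.2 (by
      have := (lin s).det_eq_det_mul_det P hP
      rw [← dt_eq, (d.mem_SU.1 i).2, show P.mapQ P (lin s) hP = .id from Submodule.linearMap_qext _ (LinearMap.ext fun x =>
        (Submodule.Quotient.eq P).2 (st s e e' x)), LinearMap.det_id, mul_one] at this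
      exact this.symm))
  rwa [d.ext_hyp hv hy j s a2 (e.trans a3.symm) (e'.trans a4.symm) fun x a b => (a5 ⟨x, (mP _).2 ⟨a, b⟩⟩).symm]
theorem Y_perf (hv : hf σ v v = 0) (v0 : v ≠ 0) : Y σ v ≤ ⁅Y σ v, Y σ v⁆ := d.Y_gen hv v0 fun w a b => by
  obtain ⟨n, n', -, -, c, -, e, -, k⟩ := d.tv_comm a (map_one σ) v
  exact k ▸ commutator_mem_commutator ⟨d.E_SU _ _ _, E_fix (d.sw b) (d.sw c) _⟩ ⟨d.E_SU _ _ _, E_fix (d.sw b) (d.sw e) _⟩
theorem iso_val (h : x ∉ Submodule.span K {u, v}) (c : K) : ∃ y, hf σ y y = 0 ∧ hf σ y u = 0 ∧ hf σ y v = 0 ∧ hf σ x y = c := by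
  obtain ⟨y, a, b, e, f⟩ : ∃ y, hf σ y y = 0 ∧ hf σ y u = 0 ∧ hf σ y v = 0 ∧ hf σ x y ≠ 0 := by
    by_contra! z
    exact h (d.mem_of_pp fun y i => d.span_iso' (p := fun y => hf σ x y = 0) (fun _ _ a b => by simp [a, b]) z
      (i _ (Submodule.subset_span (by simp))) (i _ (Submodule.subset_span (by simp))))
  exact ⟨σ (c / hf σ x y) • y, by simp [a], by simp [b], by simp [e], by rw [hf_smul_r, d.iv, div_mul_cancel₀ _ f]⟩
/-- `Y v`-invariant subspaces between `v` and its orthogonal complement -/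
theorem Y_irr (hv : hf σ v v = 0) (v0 : v ≠ 0) {p : (Fin m → K) → Prop} (add : ∀ x y, p x → p y → p (x + y))
    (z : ∀ c : K, p (c • v)) (st : ∀ g ∈ Y σ v, ∀ x, p x → p (g x)) (hx : hf σ x v = 0) (h : x ∉ Submodule.span K {v}) (px : p x)
    (hy : hf σ y v = 0) : p y := by
  obtain ⟨w, a, b, -, c⟩ := d.iso_val (u := v) (v := v) (by simpa using h) 1
  have pw : p w := by
    have := add _ _ px (st (E σ w 0 1) ⟨tv_SU _ _, E_fix (d.sw b) (by simp) _⟩ x px)
    simpa [E_ap (ok_tv d.iv a (map_one σ)), c, ← add_assoc, vv] using this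
  have lw := li_two v0 (w := w) fun k => by
    obtain ⟨e, rfl⟩ := Submodule.mem_span_singleton.1 k
    simp [hx] at c
  refine d.span_iso1 add (fun u i j => ?_) hy
  by_cases k : u ∈ Submodule.span K {v}
  · obtain ⟨e, rfl⟩ := Submodule.mem_span_singleton.1 k
    exact z e
  obtain ⟨g, s, e, rfl⟩ := d.witt2 lw (li_two v0 k) rfl (a.trans i.symm) ((d.sw b).trans (d.sw j).symm)
  exact st g ⟨s, e⟩ w pw
theorem o2Y (hv : hf σ v v = 0) (v0 : v ≠ 0) (two : IsPGroup 2 P) (l : P ≤ Y σ v) (n : Y σ v ≤ 𝐍(P)) : P ≤ Q σ v := by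
  have s : ∀ p ∈ P, Sem σ 1 p := fun p i => su_sem (l i).1
  have f : ∀ p ∈ Y σ v, ∀ x ∈ Submodule.span K {v}, p x ∈ Submodule.span K {v} := fun p i x k => by
    obtain ⟨e, rfl⟩ := Submodule.mem_span_singleton.1 k
    rwa [(su_sem i.1).smul1, show p v = v from i.2]
  obtain ⟨w, h1, -, h2, -⟩ := d.out v v
  obtain ⟨x, a, b, c⟩ := fixs two (fun p i => ⟨1, s p i⟩) (fun p i => f p (l i)) (T' := pp σ (Submodule.span K {v}))
    (fun p i x k => mem_perp_singleton.2 (by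
      rw [sq_ap, ← show p v = v from (l i).2, (s p i).form1]; exact mem_perp_singleton.1 k))
    fun k => h1 (by simpa using k (mem_perp_singleton.2 h2))
  intro p i
  refine d.mem_Q_of hv v0 (s p i) (l i).2 fun y k => ?_
  obtain ⟨c, e⟩ := Submodule.mem_span_singleton.1 (d.Y_irr hv v0 (p := fun x => ∀ p ∈ P, p x - x ∈ Submodule.span K {v})
    (fun x y a b p i => by rw [(s p i).add, add_sub_add_comm]; exact add_mem (a p i) (b p i))
    (fun c p i => by rw [(s p i).smul1, show p v = v from (l i).2, sub_self]; exact zero_mem _)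
    (fun g j x a p i => by simpa [(su_sem j.1).sub] using f g j _ (a _ ((mem_normalizer_iff''.1 (n j) p).1 i)))
    (mem_perp_singleton.1 a) b c k p i)
  exact ⟨c, by rw [e, add_sub_cancel]⟩
theorem hyp3 (e : hf σ u w ≠ 0) (hu : hf σ u u = 0) (hw : hf σ w w = 0) (a : hf σ u v = 0) (b : hf σ w v = 0) (c : K) :
    ∃ s s', hf σ s s = 0 ∧ hf σ s' s' = 0 ∧ hf σ s u = 0 ∧ hf σ s w = 0 ∧ hf σ s v = 0 ∧ hf σ s' u = 0 ∧ hf σ s' w = 0 ∧
      hf σ s' v = 0 ∧ hf σ s s' = c := by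
  let S := Submodule.span K (Set.range ![u, w, v])
  have h1 : finrank K S ≤ 3 := span_dim _
  have h2 : S ⊓ pp σ S ≤ Submodule.span K (Set.range ![v]) := fun x ⟨i, j⟩ => by
    obtain ⟨f, rfl⟩ := (Submodule.mem_span_range_iff_exists_fun K).1 i
    have h1 := j _ (Submodule.subset_span ⟨0, rfl⟩)
    have h2 := j _ (Submodule.subset_span ⟨1, rfl⟩)
    have : hf σ w u ≠ 0 := fun z => e (d.sw z)
    simp only [sq_ap, Fin.sum_univ_three, hf_add_l, hf_smul_l] at h1 h2 ⊢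
    simp [hu, hw, d.sw a, d.sw b, e, this] at h1 h2
    simp [h1, h2, Submodule.smul_mem]
  have h3 := (Submodule.finrank_mono h2).trans (span_dim _)
  obtain ⟨s, s', -, h4, h5, h6, h7, h8⟩ := d.hyp_out (S := S) (by have := d.hm; omega) c
  have i : ∀ j, ![u, w, v] j ∈ S := fun j => Submodule.subset_span ⟨j, rfl⟩
  exact ⟨s, s', h4, h5, h6 _ (i 0), h6 _ (i 1), h6 _ (i 2), h7 _ (i 0), h7 _ (i 1), h7 _ (i 2), h8⟩
theorem ua' {M : Type*} [AddCommGroup M] (hv : hf σ v v = 0) (f : (Fin m → K) → M) (add : ∀ u w, hf σ u u = 0 → hf σ w w = 0 →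
    hf σ u w = 0 → hf σ u v = 0 → hf σ w v = 0 → f (u + w) = f u + f w) :
    ∃ f' : (Fin m → K) → M, (∀ x y, f' (x + y) = f' x + f' y) ∧ ∀ u, hf σ u u = 0 → hf σ u v = 0 → f' u = f u := by
  obtain ⟨ω, o⟩ := d.om
  have iv := d.iv
  have f0 : f 0 = 0 := by simpa using add 0 0
  have A : ∀ u w, hf σ u u = 0 → hf σ w w = 0 → hf σ u v = 0 → hf σ w v = 0 → hf σ (u + w) (u + w) = 0 → f (u + w) = f u + f w := by
    intro u w hu hw a b c
    by_cases e : hf σ u w = 0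
    · exact add u w hu hw e a b
    have c' : hf σ w u = hf σ u w := by simp only [hf_add_l, hf_add_r] at c; grind
    obtain ⟨s, s', h1, h2, h3, h4, h5, h6, h7, h8, h9⟩ := d.hyp3 e hu hw a b (ω * σ ω * hf σ u w)
    have h10 : hf σ s' s = ω * σ ω * hf σ u w := by rw [← d.sy, h9]; simp [iv _, d.sy, c', mul_comm]
    have := d.sw h3; have := d.sw h4; have := d.sw h6; have := d.sw h7
    have e1 := add (u + w) (ω • u + s + (ω • w + s')) c (by simp [*]; grind) (by simp [*]; grind) (by simp [*]) (by simp [*])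
    have e2 := add (ω • u + s) (ω • w + s') (by simp [*]) (by simp [*]) (by simp [*]; grind) (by simp [*]) (by simp [*])
    have e3 := add (u + (ω • u + s)) (w + (ω • w + s')) (by simp [*]) (by simp [*]) (by simp [*]; grind) (by simp [*]) (by simp [*])
    have e4 := add u (ω • u + s) hu (by simp [*]) (by simp [*]) a (by simp [*])
    have e5 := add w (ω • w + s') hw (by simp [*]) (by simp [*]) b (by simp [*])
    rw [add_add_add_comm] at e1
    linear_combination (norm := abel) e3 + e4 + e5 - e1 - e2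
  obtain ⟨y, hy⟩ : ∃ y, ∀ x, hf σ (x + hf σ x v • y) v = 0 := by
    by_cases v0 : v = 0
    · exact ⟨0, by simp [v0]⟩
    · exact (d.partner hv v0).imp fun y k x => by simp [k.2.1, CharTwo.add_self_eq_zero]
  obtain ⟨e, e', -, h1, h2, h3, -, h4, -, h5⟩ := d.hyp v v 1
  have h6 : hf σ e' e = 1 := by rw [← d.sy, h5, map_one]
  let G : (Fin m → K) → K → K → M := fun r a b => f (r + (a • e + b • e')) - f (a • e) - f (b • e')
  have ae : ∀ a a' : K, f ((a + a') • e) = f (a • e) + f (a' • e) := fun a a' => by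
    rw [add_smul, add] <;> simp [*]
  have ae' : ∀ a a' : K, f ((a + a') • e') = f (a • e') + f (a' • e') := fun a a' => by
    rw [add_smul, add] <;> simp [*]
  have GA : ∀ r r' a a' b b', hf σ r v = 0 → hf σ r e = 0 → hf σ r e' = 0 → hf σ r' v = 0 → hf σ r' e = 0 → hf σ r' e' = 0 →
      a * σ b + b * σ a = hf σ r r → a' * σ b' + b' * σ a' = hf σ r' r' →
      a * σ b' + b' * σ a + (a' * σ b + b * σ a') = hf σ r r' + hf σ r' r → G (r + r') (a + a') (b + b') = G r a b + G r' a' b' := by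
    intro r r' a a' b b' k1 k2 k3 k4 k5 k6 k7 k8 k9
    have := d.sw k2; have := d.sw k3; have := d.sw k5; have := d.sw k6
    have := A (r + (a • e + b • e')) (r' + (a' • e + b' • e')) (by simp [*]; grind) (by simp [*]; grind) (by simp [*]) (by simp [*])
      (by simp [*]; grind)
    simp only [G, ae, ae']
    rw [show r + r' + ((a + a') • e + (b + b') • e') = r + (a • e + b • e') + (r' + (a' • e + b' • e')) by module, this]; abel
  have G0 : ∀ a b, a * σ b + b * σ a = 0 → G 0 a b = 0 := fun a b k => by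
    simp only [G, zero_add]
    rw [A] <;> simp [*]
    grind
  have sol : ∀ b b' s t : K, b * σ b' + b' * σ b ≠ 0 → σ s = s → σ t = t →
      ∃ a, a * σ b' + b' * σ a = s ∧ a * σ b + b * σ a = t := fun b b' s t k hs ht => by
    refine ⟨(s * b + t * b') / (b * σ b' + b' * σ b), ?_⟩
    have : σ b * b' + σ b' * b ≠ 0 := by grind
    simp only [map_div₀, map_add, map_mul, iv _, hs, ht]
    constructor <;> field_simp <;> grind
  choose τ hτ using fun r : Fin m → K => d.trc (d.sy r r)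
  have L : ∀ r a b a' b', hf σ r v = 0 → hf σ r e = 0 → hf σ r e' = 0 → a * σ b + b * σ a = hf σ r r →
      a' * σ b' + b' * σ a' = hf σ r r → a * σ b' + b' * σ a = a' * σ b + b * σ a' → G r a' b' = G r a b := by
    intro r a b a' b' k1 k2 k3 k4 k5 k6
    have := GA r 0 a (a + a') b (b + b') k1 k2 k3 (by simp) (by simp) (by simp) k4 (by simp; grind) (by simp; grind)
    rwa [G0 _ _ (by simp; grind), add_zero, add_zero, CharTwo.add_cancel_left, CharTwo.add_cancel_left] at this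
  have B1 : ∀ r a b b', hf σ r v = 0 → hf σ r e = 0 → hf σ r e' = 0 → a * σ b + b * σ a = hf σ r r → b * σ b' + b' * σ b ≠ 0 →
      ∃ a', a' * σ b' + b' * σ a' = hf σ r r ∧ G r a' b' = G r a b := fun r a b b' k1 k2 k3 k4 k5 => by
    obtain ⟨a', s, t⟩ := sol b b' _ (a * σ b' + b' * σ a) k5 (d.sy r r) (by simp [iv _]; ring)
    exact ⟨a', s, L r a b a' b' k1 k2 k3 k4 s t.symm⟩
  have B : ∀ r a b, hf σ r v = 0 → hf σ r e = 0 → hf σ r e' = 0 → a * σ b + b * σ a = hf σ r r → G r a b = G r (τ r) 1 := by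
    have B2 : ∀ r a b, hf σ r v = 0 → hf σ r e = 0 → hf σ r e' = 0 → a * σ b + b * σ a = hf σ r r → σ b ≠ b →
        G r a b = G r (τ r) 1 := fun r a b k1 k2 k3 k4 k5 => by
      obtain ⟨a', s, t⟩ := B1 r a b 1 k1 k2 k3 k4 (by simp; grind)
      have := hτ r
      rw [← t, L r a' 1 (τ r) 1 k1 k2 k3 s (by simpa) (by simp at s ⊢; grind)]
    intro r a b k1 k2 k3 k4
    by_cases z : b = 0
    · have := hτ r
      have z' : hf σ r r = 0 := by simpa [z] using k4.symm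
      rw [← L r (τ r) 1 0 1 k1 k2 k3 (by simpa) (by simp [z']) (by simp [this, z'])]
      simp only [G, z, zero_smul, add_zero, zero_add, one_smul, f0]
      rw [add r, add r] <;> simp [*]
    by_cases k : σ b = b
    · obtain ⟨a', s, t⟩ := B1 r a b ω k1 k2 k3 k4 (by rw [k]; grind)
      rw [← t, B2 r a' ω k1 k2 k3 s (by grind)]
    · exact B2 r a b k1 k2 k3 k4 k
  let π : (Fin m → K) → Fin m → K := fun x => x + hf σ x e' • e + hf σ x e • e'
  have π1 : ∀ x, hf σ x v = 0 → hf σ (π x) v = 0 ∧ hf σ (π x) e = 0 ∧ hf σ (π x) e' = 0 := fun x k => by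
    simp [π, CharTwo.add_self_eq_zero, *]
  let F : (Fin m → K) → M := fun x => G (π x) (τ (π x)) 1 + f (hf σ x e' • e) + f (hf σ x e • e')
  refine ⟨fun x => F (x + hf σ x v • y), fun x x' => ?_, fun u hu k => ?_⟩
  · beta_reduce
    rw [show x + x' + hf σ (x + x') v • y = x + hf σ x v • y + (x' + hf σ x' v • y) by rw [hf_add_l]; module]
    obtain ⟨a1, a2, a3⟩ := π1 _ (hy x)
    obtain ⟨b1, b2, b3⟩ := π1 _ (hy x')
    generalize x + hf σ x v • y = z at *
    generalize x' + hf σ x' v • y = z' at *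
    have e1 : π (z + z') = π z + π z' := by simp only [π, hf_add_l]; module
    have := hτ (π z)
    obtain ⟨a', s, t⟩ := sol 1 ω _ (τ (π z) * σ ω + ω * σ (τ (π z)) + (hf σ (π z) (π z') + hf σ (π z') (π z))) (by simp; grind)
      (d.sy (π z') (π z')) (by simp [iv _, d.sy]; ring)
    have e2 := GA _ _ (τ (π z)) a' 1 ω a1 a2 a3 b1 b2 b3 (by simpa) s (by rw [t]; grind)
    rw [B _ _ _ b1 b2 b3 s, B _ _ _ (by simp [*]) (by simp [*]) (by simp [*]) (by simp at s t ⊢; grind)] at e2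
    simp only [F, hf_add_l, ae, ae', e1, e2]; abel
  · obtain ⟨a1, a2, a3⟩ := π1 _ k
    simp only [k, zero_smul, add_zero, F]
    rw [← B _ (hf σ u e') (hf σ u e) a1 a2 a3 (by simp [π, d.sy, *])]
    simp only [G, π]
    rw [add_assoc u, add_assoc u, vv, add_zero]; abel
theorem ua {M : Type*} [CommGroup M] (hv : hf σ v v = 0) (f : (Fin m → K) → M) (add : ∀ u w, hf σ u u = 0 → hf σ w w = 0 →
    hf σ u w = 0 → hf σ u v = 0 → hf σ w v = 0 → f (u + w) = f u * f w) :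
    ∃ f' : (Fin m → K) → M, (∀ x y, f' (x + y) = f' x * f' y) ∧ ∀ u, hf σ u u = 0 → hf σ u v = 0 → f' u = f u :=
  d.ua' (M := Additive M) hv f add
theorem bf {M : Type*} [CommGroup M] (hv : hf σ v v = 0) (β : (Fin m → K) → (Fin m → K) → M)
    (l : ∀ x x' y, hf σ x v = 0 → hf σ x' v = 0 → hf σ y v = 0 → β (x + x') y = β x y * β x' y)
    (r : ∀ x y y', hf σ x v = 0 → hf σ y v = 0 → hf σ y' v = 0 → β x (y + y') = β x y * β x y')
    (z : ∀ x y, hf σ x x = 0 → hf σ y y = 0 → hf σ x y = 0 → hf σ x v = 0 → hf σ y v = 0 → β x y = 1) :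
    ∃ f : K → M, (∀ a b, f (a + b) = f a * f b) ∧ ∀ x y, hf σ x v = 0 → hf σ y v = 0 → β x y = f (hf σ x y) := by
  have R : ∀ u y y', hf σ u u = 0 → hf σ u v = 0 → hf σ y v = 0 → hf σ y' v = 0 → hf σ u y = hf σ u y' → β u y = β u y' := by
    intro u y y' a b c e f
    have := (d.span_iso' (u := u) (p := fun y => hf σ y v = 0 ∧ β u y = 1) (fun x y i j => ⟨by simp [i.1, j.1], by
      rw [r _ _ _ b i.1 j.1, i.2, j.2, one_mul]⟩) (fun x i j k => ⟨k, z _ _ a i (d.sw j) b k⟩) (x := y' + y)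
      (d.sw (by simp [f, CharTwo.add_self_eq_zero])) (by simp [*])).2
    rw [← mul_one (β u y'), ← this, ← r _ _ _ b e (by simp [*]), ← add_assoc, vv, zero_add]
  have L : ∀ u y y', hf σ u u = 0 → hf σ u v = 0 → hf σ y v = 0 → hf σ y' v = 0 → hf σ y u = hf σ y' u → β y u = β y' u := by
    intro u y y' a b c e f
    have := (d.span_iso' (u := u) (p := fun y => hf σ y v = 0 ∧ β y u = 1) (fun x y i j => ⟨by simp [i.1, j.1], by
      rw [l _ _ _ i.1 j.1 b, i.2, j.2, one_mul]⟩) (fun x i j k => ⟨k, z _ _ i a j k b⟩) (x := y' + y)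
      (by simp [f, CharTwo.add_self_eq_zero]) (by simp [*])).2
    rw [← mul_one (β y' u), ← this, ← l _ _ _ e (by simp [*]) b, ← add_assoc, vv, zero_add]
  have C : ∀ u u' w w', hf σ u u = 0 → hf σ u v = 0 → hf σ u' u' = 0 → hf σ u' v = 0 → hf σ w v = 0 → hf σ w' v = 0 →
      hf σ u w ≠ 0 → u' ∉ Submodule.span K {v, u} → hf σ u w = hf σ u' w' → β u w = β u' w' := by
    intro u u' w w' a b a' b' c c' n n' e
    obtain ⟨y, h1, h2, h3, h4⟩ := d.iso_val (x := u) (u := v) (v := u + u') (fun k => by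
      obtain ⟨s, t, k⟩ := Submodule.mem_span_pair.1 k
      by_cases z : t = 0
      · exact n (by rw [← k]; simp [z, d.sw c])
      · exact n' (Submodule.mem_span_pair.2 ⟨-(s / t), (1 - t) / t, by
          apply smul_right_injective _ z; simp only [smul_add, smul_smul]; field_simp; linear_combination (norm := module) -k⟩))
      (hf σ u w)
    have : hf σ u y = hf σ u' y := by have := d.sw h3; rw [hf_add_l] at this; grind
    rw [R u w y a b c h2 h4.symm, L y u u' h1 h2 b b' this, R u' y w' a' b' h2 c' (by rw [← this, h4, e])]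
  obtain ⟨e, e', -, h1, h2, h3, -, h4, -, h5⟩ := d.hyp v v 1
  have h6 : hf σ e' e = 1 := by rw [← d.sy, h5, map_one]
  have ad : ∀ a b : K, β e (σ (a + b) • e') = β e (σ a • e') * β e (σ b • e') := fun a b => by
    rw [map_add, add_smul, r] <;> simp [*]
  refine ⟨fun c => β e (σ c • e'), ad, fun x y hx hy => ?_⟩
  refine (d.span_iso1 (p := fun x => hf σ x v = 0 ∧ β x y = β e (σ (hf σ x y) • e')) (fun x x' i j => ⟨by simp [i.1, j.1], by
    rw [l _ _ _ i.1 j.1 hy, i.2, j.2, hf_add_l, ad]⟩) (fun x i j => ⟨j, ?_⟩) hx).2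
  by_cases n : hf σ x y = 0
  · rw [R x y 0 i j hy (by simp) (by simp [n]), n, z x 0 i (by simp) (by simp) j (by simp), z] <;> simp [*]
  have s : ∀ z ∈ Submodule.span K {v, x}, ∀ z' ∈ Submodule.span K {v, x}, hf σ z z' = 0 := fun z a z' b => by
    obtain ⟨_, _, rfl⟩ := Submodule.mem_span_pair.1 a
    obtain ⟨_, _, rfl⟩ := Submodule.mem_span_pair.1 b
    simp [d.sw j, *]
  by_cases k : e ∈ Submodule.span K {v, x}
  · rw [C x e' y (σ (hf σ x y) • e) i j h2 h4 hy (by simp [*]) n (fun k' => by simp [s _ k _ k'] at h5) (by simp [d.iv _, *]),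
      C e e' _ (σ (hf σ x y) • e) h1 h3 h2 h4 (by simp [*]) (by simp [*]) (by simpa [d.iv _, h5]) (fun k' => by
        obtain ⟨_, _, rfl⟩ := Submodule.mem_span_pair.1 k'
        simp [h1, h3] at h5) (by simp [*])]
  · exact C x e y _ i j h1 h3 hy (by simp [*]) n k (by simp [d.iv _, *])
end Dm

end CF.Ud
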