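import Cfsg.Agent.Ud.A2
import Cfsg.Agent.Dbl.IE3

/-! Piece I of the unitary doubling: weak closure of `B × B^t` and the groups `[B̂, x]`. -/

set_option autoImplicit false

namespace CF.Ud.Iu

open Cfsg Subgroup CF.Loc CF.LX CF.Dbl
open CF.Dbl.Ie (ti tc cjtt mem_t t2 triv com' gne n0 swp tn swp_mul tS0 u1 p0 ex_odd ex_odd' com_sup ext idx2 dih eta
  cjW Nz s0M)
open scoped commutatorElement

variable {G : Type*} [Group G] {G₁ G₂ S B X : Subgroup G} {t z p₀ : G}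

variable (h : IU G₁ G₂ S B X t z p₀)
include h

theorem pS : p₀ ∈ S ⊓ 𝐍(G₁) := u1 h.toSw (h.xle h.pX)

theorem zB : z ∈ B := commutator_le_left_of_le_normalizer (zpowers_le.2 (h.nB (pS h))) h.zp

theorem b2le : cj[t] B ≤ S ⊓ G₂ := fun x hx => by
  have := h.ble ((mem_t h.toSw).1 hx)
  refine mem_inf.2 ⟨?_, by rw [← h.t1, mem_t h.toSw]; exact this.2⟩
  rw [← tc h.toSw x]
  exact S.mul_mem (S.mul_mem h.tS this.1) (S.inv_mem h.tS)

theorem nB2 : S ⊓ 𝐍(G₁) ≤ 𝐍(cj[t] B) := fun x hx => by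
  rw [← cj_normalizer, mem_t h.toSw]; exact h.nB (tS0 h.toSw hx)

theorem g1c : G₁ ≤ 𝐂(cj[t] B) := h.com.trans (centralizer_anti ((b2le h).trans inf_le_right))

theorem g2c : G₂ ≤ 𝐂(B) := (com' h.toSw).trans (centralizer_anti (h.ble.trans inf_le_right))

theorem bc : cj[t] B ≤ 𝐂(B) := ((b2le h).trans inf_le_right).trans (g2c h)

theorem bc' : B ≤ 𝐂(cj[t] B) := le_centralizer_iff.1 (bc h)

theorem cm {b c : G} (hb : b ∈ B) (hc : c ∈ cj[t] B) : b * c = c * b :=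
  mem_centralizer_iff'.1 (bc h hc) b hb

theorem inter {x : G} (hb : x ∈ B) (hc : x ∈ cj[t] B) : x = 1 :=
  triv h.toSw (h.ble hb).1 (com' h.toSw (b2le h hc).2) (h.com (h.ble hb).2)

theorem mh {x : G} : x ∈ B ⊔ cj[t] B ↔ ∃ b ∈ B, ∃ c ∈ cj[t] B, b * c = x :=
  mem_sup_of_le_normalizer ((bc h).trans (centralizer_le_normalizer _))

theorem uniq {b c b' c' : G} (hb : b ∈ B) (hc : c ∈ cj[t] B) (hb' : b' ∈ B) (hc' : c' ∈ cj[t] B)
    (e : b * c = b' * c') : b = b' ∧ c = c' := by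
  have e1 : b'⁻¹ * b = c' * c⁻¹ := by
    calc b'⁻¹ * b = b'⁻¹ * (b * c) * c⁻¹ := by group
      _ = _ := by rw [e]; group
  have e2 := inter h (mul_mem (inv_mem hb') hb) (e1 ▸ mul_mem hc' (inv_mem hc))
  have e3 : b = b' := (inv_mul_eq_one.1 e2).symm
  subst e3
  exact ⟨rfl, mul_left_cancel e⟩

theorem el2 : El (cj[t] B) := fun x hx => by
  have := h.bel _ ((mem_t h.toSw).1 hx)
  rw [← conj_mul_conj] at this
  simpa using this

theorem elh : El (B ⊔ cj[t] B) := fun v hv => by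
  obtain ⟨a, ha, b, hb, rfl⟩ := (mh h).1 hv
  calc a * b * (a * b) = a * (b * a) * b := by group
    _ = (a * a) * (b * b) := by rw [← cm h ha hb]; group
    _ = 1 := by rw [h.bel a ha, el2 h b hb, one_mul]

theorem abh : B ⊔ cj[t] B ≤ 𝐂(B ⊔ cj[t] B) := fun w hw => mem_centralizer_iff'.2 fun v hv => by
  have e1 := elh h _ (mul_mem hv hw)
  have e2 := eq_inv_of_mul_eq_one_left (elh h v hv)
  have e3 := eq_inv_of_mul_eq_one_left (elh h w hw)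
  calc v * w = (v * w)⁻¹ := eq_inv_of_mul_eq_one_left e1
    _ = w⁻¹ * v⁻¹ := by group
    _ = _ := by rw [← e2, ← e3]

theorem hS : B ⊔ cj[t] B ≤ S := sup_le (h.ble.trans inf_le_left) ((b2le h).trans inf_le_left)

theorem cardh : Nat.card ↥(B ⊔ cj[t] B) = Nat.card B * Nat.card B := by
  have := card_sup_mul_card_inf' (H := B) ((bc h).trans (centralizer_le_normalizer _))
  rw [(eq_bot_iff_forall _).2 fun x (hx : x ∈ B ⊓ cj[t] B) => inter h hx.1 hx.2, card_cj] at this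
  simpa using this

theorem swB {s : G} (hs : s ∈ S) (hn : s ∉ 𝐍(G₁)) : cj[s] B = cj[t] B ∧ cj[s] (cj[t] B) = B := by
  have h1 := swp_mul h.toSw h.tS hs (tn h.toSw) hn
  have h2 := swp_mul h.toSw hs h.tS hn (tn h.toSw)
  refine ⟨?_, by rw [← cj_mul, cj_eq_self (h.nB h2)]⟩
  have := congrArg (fun X => cj[t] X) (cj_eq_self (h.nB h1))
  rwa [← cj_mul, ← mul_assoc, h.tt, one_mul] at this

theorem sN : S ≤ 𝐍(B ⊔ cj[t] B) := fun s hs => by
  by_cases hn : s ∈ 𝐍(G₁)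
  · exact le_normalizer_sup h.nB (nB2 h) ⟨hs, hn⟩
  · rw [← cj_eq_self_iff, cj_sup, (swB h hs hn).1, (swB h hs hn).2, sup_comm]

theorem pN : G₁ ⊓ 𝐍(B) ≤ 𝐍(B ⊔ cj[t] B) :=
  le_normalizer_sup inf_le_right ((inf_le_left.trans (g1c h)).trans (centralizer_le_normalizer _))

theorem sylN : IsSyl 2 S 𝐍(B ⊔ cj[t] B) := h.syl.mono (sN h) le_top

theorem zh : z ∈ B ⊔ cj[t] B := mem_sup_left (zB h)

variable [Finite G]

theorem rk2 {E : Subgroup G} (hE : E ≤ S ⊓ 𝐍(G₁)) (he : El E) :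
    (E ⊓ 𝐂(G₂)).relIndex E ≤ Nat.card B ∧
      ((E ⊓ 𝐂(G₂)).relIndex E = Nat.card B → E ≤ cj[t] B ⊔ (S ⊓ 𝐂(G₂))) := by
  have h1 := h.rk (cj[t] E) (cj_le_iff_forall.2 fun x hx => tS0 h.toSw (hE hx)) fun x hx => by
    have := he _ ((mem_t h.toSw).1 hx)
    rw [← conj_mul_conj] at this
    simpa using this
  have e : cj[t] E ⊓ 𝐂(G₁) = cj[t] (E ⊓ 𝐂(G₂)) := by rw [cj_inf, cj_centralizer, t2 h.toSw]
  rw [e, relIndex_cj] at h1
  refine ⟨h1.1, fun k => ?_⟩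
  have := cj_mono t (h1.2 k)
  rwa [cjtt h.toSw, cj_sup, cj_inf, cj_centralizer, h.t1, cj_eq_self_of_mem h.tS] at this

theorem big {E : Subgroup G} (hE : E ≤ S) (he : El E) (hc : Nat.card B * Nat.card B ≤ Nat.card E) :
    E = B ⊔ cj[t] B := by
  have ρ3 : 2 < Nat.card B := h.b2
  have card1 : ∀ {F : Subgroup G} (K : Subgroup G), (∀ x ∈ F, x ∈ K → x = 1) →
      (F ⊓ K).relIndex F = Nat.card F := fun {F} K hF => by
    rw [(eq_bot_iff_forall _).2 fun x (hx : x ∈ F ⊓ K) => hF x hx.1 hx.2, relIndex_bot_left]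
  by_cases h0 : E ≤ 𝐍(G₁)
  · have h0' : E ≤ S ⊓ 𝐍(G₁) := le_inf hE h0
    have key : ∀ {K K' : Subgroup G}, (∀ x ∈ S, x ∈ K → x ∈ K' → x = 1) →
        (E ⊓ K).relIndex E ≤ Nat.card B → (E ⊓ K ⊓ K').relIndex (E ⊓ K) ≤ Nat.card B →
        (E ⊓ K).relIndex E = Nat.card B := fun {K K'} k i1 i2 => by
      rw [card1 (F := E ⊓ K) K' fun x hx hx' => k x (hE hx.1) hx.2 hx'] at i2
      have := Fgs1.card_mul_relIndex (inf_le_left : E ⊓ K ≤ E)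
      by_contra hne
      have i3 := lt_of_le_of_ne i1 hne
      have : Nat.card E < Nat.card B * Nat.card B := by
        rw [← this]
        exact Nat.mul_lt_mul_of_le_of_lt i2 i3 (by omega)
      omega
    have he' : ∀ K : Subgroup G, El (E ⊓ K) := fun K x hx => he x hx.1
    have a1 := (h.rk E h0' he).2 (key (fun x a b c => triv h.toSw a b c) (h.rk E h0' he).1
      (rk2 h (inf_le_left.trans h0') (he' _)).1)
    have a2 := (rk2 h h0' he).2 (key (fun x a b c => triv h.toSw a c b) (rk2 h h0' he).1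
      (h.rk _ (inf_le_left.trans h0') (he' _)).1)
    refine eq_of_le_of_card_ge (fun x hx => ?_) (by rw [cardh h]; exact hc)
    obtain ⟨b, hb, s, hs, e1⟩ := (mem_sup_of_le_normalizer (inf_le_right.trans
      (centralizer_le_normalizer_of_le (h.ble.trans inf_le_right)))).1 (a1 hx)
    obtain ⟨c, hc, s', hs', e2⟩ := (mem_sup_of_le_normalizer (inf_le_right.trans
      (centralizer_le_normalizer_of_le ((b2le h).trans inf_le_right)))).1 (a2 hx)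
    have e3 : s * c⁻¹ = b⁻¹ * s' := by
      have := mem_centralizer_iff'.1 hs'.2 c (b2le h hc).2
      calc s * c⁻¹ = b⁻¹ * (b * s) * c⁻¹ := by group
        _ = b⁻¹ * (c * s') * c⁻¹ := by rw [e1, e2]
        _ = _ := by rw [this]; group
    have e4 : s * c⁻¹ = 1 := triv h.toSw (mul_mem hs.1 (inv_mem (b2le h hc).1))
      (mul_mem hs.2 (inv_mem (com' h.toSw (b2le h hc).2)))
      (e3 ▸ mul_mem (inv_mem (h.com (h.ble hb).2)) hs'.2)
    rw [mul_inv_eq_one] at e4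
    rw [← e1, e4]
    exact mul_mem (mem_sup_left hb) (mem_sup_right hc)
  · exfalso
    obtain ⟨s, hs, hn⟩ := SetLike.not_le_iff_exists.1 h0
    have a1 := (h.rk (E ⊓ 𝐍(G₁)) (inf_le_inf_right _ hE) fun x hx => he x hx.1).1
    rw [card1 (F := E ⊓ 𝐍(G₁)) _ fun x hx hx' => triv h.toSw (hE hx.1) hx' (by
      have e1 := he _ (mul_mem hs hx.1)
      have e2 : s * x * s⁻¹ = x := by
        rw [← eq_inv_of_mul_eq_one_left (he s hs)]
        calc s * x * s = (s * x * (s * x)) * x⁻¹ := by group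
          _ = x := by rw [e1, one_mul, ← eq_inv_of_mul_eq_one_left (he x hx.1)]
      have := conj_mem_cj s hx'
      rwa [cj_centralizer, (swp h.toSw (hE hs) hn).1, e2] at this)] at a1
    have a2 : Nat.card E ≤ Nat.card ↥(E ⊓ 𝐍(G₁)) * 2 := by
      have : (E ⊓ 𝐍(G₁)).relIndex E = 2 := by
        refine index_eq_two_iff.2 ⟨⟨s, hs⟩, fun x => ?_⟩
        by_cases hx : (x : G) ∈ 𝐍(G₁)
        · refine Or.inr ⟨⟨x.2, hx⟩, fun k => hn ?_⟩
          have := mul_mem (inv_mem hx) k.2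
          simpa using this
        · exact Or.inl ⟨⟨mul_mem x.2 hs, (swp_mul h.toSw (hE x.2) (hE hs) hx hn).2⟩,
            fun k => hx k.2⟩
      rw [← this, Fgs1.card_mul_relIndex inf_le_left]
    nlinarith

theorem wc {g : G} (hg : cj[g] (B ⊔ cj[t] B) ≤ S) : cj[g] (B ⊔ cj[t] B) = B ⊔ cj[t] B := by
  refine big h hg (fun x hx => ?_) (by rw [card_cj, cardh h])
  have := elh h _ (mem_cj.1 hx)
  calc x * x = g * (g⁻¹ * x * g * (g⁻¹ * x * g)) * g⁻¹ := by group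
    _ = 1 := by rw [this]; group

theorem ctl {x g : G} (hx : x ∈ B ⊔ cj[t] B) (hy : g * x * g⁻¹ ∈ B ⊔ cj[t] B) :
    ∃ n ∈ 𝐍(B ⊔ cj[t] B), n * x * n⁻¹ = g * x * g⁻¹ := by
  have hp : IsPGroup 2 ↥(B ⊔ cj[t] B) := h.syl.isPGroup.to_le (hS h)
  have c1 : ∀ y ∈ B ⊔ cj[t] B, B ⊔ cj[t] B ≤ 𝐂₁(y) := fun y hy v hv =>
    mem_c1.2 (mem_centralizer_iff'.1 (abh h hy) v hv)
  obtain ⟨T, hT, hT'⟩ := exists_isSyl_ge hp (c1 _ hy)
  obtain ⟨c, hc, hc'⟩ := hT.exists_cj_le (isPGroup_cj g hp)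
    (by rw [← cj_centralizer_singleton]; exact cj_mono g (c1 x hx))
  obtain ⟨k, -, hk⟩ := h.syl.exists_cj_le hT.isPGroup le_top
  have e1 := wc h ((cj_mono k hT').trans hk)
  have e2 := wc h (g := k * (c * g)) (by rw [cj_mul, cj_mul]; exact (cj_mono k hc').trans hk)
  rw [cj_mul] at e2
  refine ⟨c * g, cj_eq_self_iff.1 (cj_inj.1 (e2.trans e1.symm)), ?_⟩
  calc c * g * x * (c * g)⁻¹ = c * (g * x * g⁻¹) * c⁻¹ := by group
    _ = _ := conj_eq_iff.2 (mem_c1.1 hc)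

theorem swW {x : G} (hs : x ∈ S) (hn : x ∉ 𝐍(G₁)) : Nat.card ↥⁅B ⊔ cj[t] B, zpowers x⁆ ≠
    Nat.card ↥⁅B, zpowers p₀⁆ := by
  have hm : ∀ b ∈ B, x * b⁻¹ * x⁻¹ ∈ cj[t] B := fun b hb =>
    (swB h hs hn).1 ▸ conj_mem_cj x (inv_mem hb)
  have : Nat.card B ≤ Nat.card ↥⁅B ⊔ cj[t] B, zpowers x⁆ := by
    refine Nat.card_le_card_of_injective (fun b => ⟨⁅(b : G), x⁆,
      commutator_mem_commutator (mem_sup_left b.2) (mem_zpowers x)⟩) fun b b' e => ?_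
    have e' : ⁅(b : G), x⁆ = ⁅(b' : G), x⁆ := congrArg Subtype.val e
    refine Subtype.ext (uniq h b.2 (hm _ b.2) b'.2 (hm _ b'.2) ?_).1
    simpa only [commutatorElement_def, mul_assoc] using e'
  have := h.big
  omega

omit [Finite G] in
theorem W1 {x : G} (hx : x ∈ 𝐂(cj[t] B)) : ⁅B ⊔ cj[t] B, zpowers x⁆ = ⁅B, zpowers x⁆ :=
  com_sup (bc h) hx

omit [Finite G] in
theorem W2 {x : G} (hx : x ∈ 𝐂(B)) : ⁅B ⊔ cj[t] B, zpowers x⁆ = ⁅cj[t] B, zpowers x⁆ := by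
  rw [sup_comm]; exact com_sup (bc' h) hx

omit [Finite G] in
theorem ct {x : G} : t * x * t⁻¹ ∈ 𝐂(B) ↔ x ∈ 𝐂(cj[t] B) := by
  rw [← cj_centralizer, mem_t h.toSw]

omit [Finite G] in
theorem Wt (x : G) : cj[t] ⁅B, zpowers (t * x * t⁻¹)⁆ = ⁅cj[t] B, zpowers x⁆ := by
  rw [cj_commutator, cj_zpowers, tc h.toSw]

omit [Finite G] in
theorem sqt {x : G} (xx : x * x = 1) : t * x * t⁻¹ * (t * x * t⁻¹) = 1 := by
  rw [← conj_mul_conj, xx]; group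

omit [Finite G] in
theorem Wp {n : G} (hn : n ∈ 𝐍(B ⊔ cj[t] B)) :
    ⁅B ⊔ cj[t] B, zpowers (n * p₀ * n⁻¹)⁆ = cj[n] ⁅B, zpowers p₀⁆ := by
  rw [← cjW hn, W1 h (g1c h (h.xle h.pX).2)]

omit [Finite G] in
theorem sqp (n : G) : n * p₀ * n⁻¹ * (n * p₀ * n⁻¹) = 1 := by
  rw [← conj_mul_conj, h.xel _ h.pX]; group

theorem one {n : G} (hn : n ∈ 𝐍(B ⊔ cj[t] B)) (hl : n * p₀ * n⁻¹ ∈ S) :
    n * p₀ * n⁻¹ ∈ S ⊓ 𝐍(G₁) ∧ (n * p₀ * n⁻¹ ∈ 𝐂(cj[t] B) ∨ n * p₀ * n⁻¹ ∈ 𝐂(B)) := by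
  have hc : Nat.card ↥⁅B ⊔ cj[t] B, zpowers (n * p₀ * n⁻¹)⁆ = Nat.card ↥⁅B, zpowers p₀⁆ := by
    rw [Wp h hn, card_cj]
  have xx := sqp h n
  generalize n * p₀ * n⁻¹ = x at *
  have hx : x ∈ S ⊓ 𝐍(G₁) := ⟨hl, by_contra fun k => swW h hl k hc⟩
  refine ⟨hx, by_contra fun k => ?_⟩
  push Not at k
  have a := h.d1 x hx xx k.2
  have b := h.d1 _ (tS0 h.toSw hx) (sqt h xx) fun e => k.1 ((ct h).1 e)
  rw [← card_cj t ⁅B, zpowers (t * x * t⁻¹)⁆, Wt h] at b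
  have l1 : ⁅B, zpowers x⁆ ≤ B := commutator_le_left_of_le_normalizer (zpowers_le.2 (h.nB hx))
  have l2 : ⁅cj[t] B, zpowers x⁆ ≤ cj[t] B := commutator_le_left_of_le_normalizer (zpowers_le.2 (nB2 h hx))
  have c := card_sup_mul_card_inf' (H := ⁅B, zpowers x⁆)
    ((l2.trans ((bc h).trans (centralizer_anti l1))).trans (centralizer_le_normalizer _))
  rw [(eq_bot_iff_forall _).2 fun y (hy : y ∈ ⁅B, zpowers x⁆ ⊓ ⁅cj[t] B, zpowers x⁆) =>
    inter h (l1 hy.1) (l2 hy.2), card_bot, mul_one] at c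
  have d := card_le_of_le (sup_le (commutator_mono le_sup_left le_rfl) (commutator_mono le_sup_right le_rfl) :
    ⁅B, zpowers x⁆ ⊔ ⁅cj[t] B, zpowers x⁆ ≤ ⁅B ⊔ cj[t] B, zpowers x⁆)
  rw [c, hc] at d
  have e := Nat.mul_lt_mul'' a b
  rw [← mul_pow, ← sq] at e
  exact absurd (lt_of_pow_lt_pow_left₀ 2 (Nat.zero_le _) e) (not_lt.2 d)

theorem fg {n : G} (hn : n ∈ 𝐍(B ⊔ cj[t] B)) (hl : n * p₀ * n⁻¹ ∈ S) :
    (n * z * n⁻¹ ∈ B ∧ n * p₀ * n⁻¹ ∈ 𝐂(cj[t] B)) ∨ n * z * n⁻¹ ∈ cj[t] B := by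
  obtain ⟨a, b⟩ := one h hn hl
  have c := conj_mem_cj n h.zp
  rw [← Wp h hn] at c
  refine b.imp (fun b => ⟨?_, b⟩) fun b => ?_
  · rw [W1 h b] at c
    exact commutator_le_left_of_le_normalizer (zpowers_le.2 (h.nB a)) c
  · rw [W2 h b] at c
    exact commutator_le_left_of_le_normalizer (zpowers_le.2 (nB2 h a)) c

end CF.Ud.Iu
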