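import Cfsg.Agent.Ud.I1

/-! Piece I of the unitary doubling: fusion in `N(B × B^t)` and the theorem `IU.ip`. -/

set_option autoImplicit false

namespace CF.Ud.Iu

open Cfsg Subgroup CF.Loc CF.LX CF.Dbl
open CF.Dbl.Ie (ti tc cjtt mem_t t2 triv com' gne n0 swp tn swp_mul tS0 u1 p0 ex_odd ex_odd' com_sup idx2 dih eta
  cjW Nz s0M)
open scoped commutatorElement

variable {G : Type*} [Group G] [Finite G] {G₁ G₂ S B X M : Subgroup G} {t z p₀ : G}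

section a
variable (h : IU G₁ G₂ S B X t z p₀)
include h

omit [Finite G] in
theorem cz1 {n : G} : n * z * n⁻¹ ≠ 1 := fun e => h.z1 (by simpa using e)

theorem syl0 : IsSyl 2 (S ⊓ 𝐍(G₁)) (𝐍(B ⊔ cj[t] B) ⊓ 𝐂₁(z)) := by
  obtain ⟨T, hT, hT'⟩ := exists_isSyl_ge (p0 h.toSw)
    (le_inf (inf_le_left.trans (sN h)) h.zc : _ ≤ 𝐍(B ⊔ cj[t] B) ⊓ 𝐂₁(z))
  obtain ⟨n, hn, hn'⟩ := (sylN h).exists_cj_le hT.isPGroup (hT.le.trans inf_le_left)
  by_cases k : cj[n] T ≤ 𝐍(G₁)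
  · have := card_le_of_le (le_inf hn' k)
    rw [card_cj] at this
    rwa [eq_of_le_of_card_ge hT' this]
  · exfalso
    obtain ⟨s, hs, hs'⟩ := SetLike.not_le_iff_exists.1 k
    have e : s * (n * z * n⁻¹) * s⁻¹ = n * z * n⁻¹ := by
      have := cj_mono n (hT.le.trans inf_le_right) hs
      rw [cj_centralizer_singleton] at this
      exact conj_eq_iff.2 (mem_c1.1 this)
    have sb := swB h (hn' hs) hs'
    rcases fg h hn (hn' (conj_mem_cj n (hT' (pS h)))) with ⟨a1, -⟩ | a1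
    · exact cz1 h (inter h a1 (by rw [← sb.1, ← e]; exact conj_mem_cj s a1))
    · exact cz1 h (inter h (by rw [← sb.2, ← e]; exact conj_mem_cj s a1) a1)

theorem theta {b p n : G} (hb : b ∈ B) (hp : p ∈ G₁ ⊓ 𝐍(B)) (hn : n ∈ 𝐍(B ⊔ cj[t] B)) :
    n * z * n⁻¹ ≠ b * (t * (p * b * p⁻¹) * t⁻¹) := fun e => by
  have hb' : p * b * p⁻¹ ∈ B := conj_mem_of_mem_normalizer hp.2 hb
  have hc := conj_mem_cj t hb'
  have e1 : p * n * z * (p * n)⁻¹ = p * b * p⁻¹ * (t * (p * b * p⁻¹) * t⁻¹) := by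
    calc p * n * z * (p * n)⁻¹ = p * (n * z * n⁻¹) * p⁻¹ := by group
      _ = _ := by rw [e, conj_mul_conj, conj_eq_of_mem_centralizer (g1c h hp.1) hc]
  obtain ⟨m, -, -, hm⟩ := CF.Dbl.Ie.ext (syl0 h) (mul_mem (pN h hp) hn)
    (isPGroup_zpowers (x := t) (k := 1) (by rw [pow_one, pow_two, h.tt]))
    (zpowers_le.2 ⟨sN h h.tS, mem_c1.2 (conj_eq_iff.1 (by
      rw [e1, conj_mul_conj, tc h.toSw, cm h hb' hc]))⟩)
  exact h.t0 m (hm (conj_mem_cj m (mem_zpowers t)))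

theorem nosw {s n : G} (hs : s ∈ S) (hs' : s ∉ 𝐍(G₁)) (hn : n ∈ 𝐍(B ⊔ cj[t] B)) :
    s * (n * z * n⁻¹) * s⁻¹ ≠ n * z * n⁻¹ := fun e => by
  obtain ⟨b, hb, c, hc, e1⟩ := (mh h).1 (conj_mem_of_mem_normalizer hn (zh h))
  have sb := swB h hs hs'
  have h1 : s * b * s⁻¹ ∈ cj[t] B := sb.1 ▸ conj_mem_cj s hb
  have h2 : s * c * s⁻¹ ∈ B := by have := conj_mem_cj s hc; rwa [sb.2] at this
  rw [← e1, conj_mul_conj, ← cm h h2 h1] at e
  obtain ⟨p, hp, hp'⟩ := h.rkc _ (swp_mul h.toSw h.tS hs (tn h.toSw) hs') b hb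
  refine theta h hb hp hn ?_
  rw [← e1, hp', ← (uniq h h2 h1 hb hc e).2, ← tc h.toSw (s * b * s⁻¹)]
  group

theorem ex_nz : ∃ M, Nz G₁ S B M t := by
  obtain ⟨M, a, b, c, d⟩ := idx2 (T := S ⊓ 𝐍(G₁)) (sylN h) inf_le_left h.tS h.tt
    (fun s hs k => swp_mul h.toSw hs h.tS (fun k' => k ⟨hs, k'⟩) (tn h.toSw))
    (fun s hs s' hs' k k' => swp_mul h.toSw (inv_mem hs) hs'
      (fun e => k ⟨hs, by simpa using inv_mem e⟩) fun e => k' ⟨hs', e⟩)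
    fun x hx g hg hx' => ⟨hx', by
      by_contra k
      refine nosw h hx' k hg ?_
      calc g * x * g⁻¹ * (g * z * g⁻¹) * (g * x * g⁻¹)⁻¹ = g * (x * z * x⁻¹) * g⁻¹ := by group
        _ = _ := by rw [conj_eq_iff.2 (mem_c1.1 (h.zc hx))]⟩
  exact ⟨M, a, b, c, d⟩

omit [Finite G] in
theorem cS0 {y : G} (hy : y ∈ 𝐂(S ⊓ 𝐍(G₁))) : t * y * t⁻¹ ∈ 𝐂(S ⊓ 𝐍(G₁)) :=
  mem_centralizer_iff'.2 fun s hs => by
    rw [← tc h.toSw s, ← conj_mul_conj, ← conj_mul_conj,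
      mem_centralizer_iff'.1 hy _ (tS0 h.toSw hs)]

omit [Finite G] in
theorem j1' {y : G} (hy : y ∈ B) (y1 : y ≠ 1) (hc : y ∈ 𝐂(S ⊓ 𝐍(G₁))) :
    ∃ p ∈ G₁ ⊓ 𝐍(B), p * z * p⁻¹ = y := h.j1 y ⟨hy, centralizer_anti (h.xle.trans (u1 h.toSw)) hc⟩ y1

theorem pure {n : G} (hn : n ∈ 𝐍(B ⊔ cj[t] B)) (hc : n * z * n⁻¹ ∈ 𝐂(S ⊓ 𝐍(G₁))) :
    n * z * n⁻¹ ∈ B ∨ n * z * n⁻¹ ∈ cj[t] B := by
  obtain ⟨b, hb, c, hc', e1⟩ := (mh h).1 (conj_mem_of_mem_normalizer hn (zh h))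
  by_cases b1 : b = 1
  · right; rwa [← e1, b1, one_mul]
  by_cases c1 : c = 1
  · left; rwa [← e1, c1, mul_one]
  exfalso
  have k : ∀ s ∈ S ⊓ 𝐍(G₁), s * b * s⁻¹ = b ∧ s * c * s⁻¹ = c := fun s hs =>
    uniq h (conj_mem_of_mem_normalizer (h.nB hs) hb) (conj_mem_of_mem_normalizer (nB2 h hs) hc')
      hb hc' (by rw [← conj_mul_conj, e1]; exact conj_eq_iff.2 (mem_centralizer_iff'.1 hc s hs))
  obtain ⟨p, hp, e2⟩ := j1' h hb b1 (mem_centralizer_iff'.2 fun s hs => conj_eq_iff.1 (k s hs).1)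
  obtain ⟨q, hq, e3⟩ := j1' h ((mem_t h.toSw).1 hc') (fun e => c1 (by simpa using e))
    (cS0 h (mem_centralizer_iff'.2 fun s hs => conj_eq_iff.1 (k s hs).2))
  refine theta h hb (mul_mem hq (inv_mem hp)) hn ?_
  rw [← e1, ← tc h.toSw c, ← e3, ← e2]
  group

variable (k : Nz G₁ S B M t)
include k

theorem sylM : IsSyl 2 (S ⊓ 𝐍(G₁)) M := k.inf ▸ (sylN h).inf_of_le_normalizer k.le k.nm

omit [Finite G] in
theorem tM {n : G} (hn : n ∈ M) : t * n * t⁻¹ ∈ M :=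
  conj_mem_of_mem_normalizer (k.nm (sN h h.tS)) hn

theorem pM : G₁ ⊓ 𝐍(B) ≤ M := by
  have hU : IsSyl 2 (S ⊓ G₁) (G₁ ⊓ 𝐍(B)) :=
    h.sylU.mono (le_inf inf_le_right ((u1 h.toSw).trans h.nB)) inf_le_left
  have := hU.sup_eq_of_pow_mem (K := G₁ ⊓ 𝐍(B) ⊓ M) inf_le_left
    (le_normalizer_inf le_normalizer ((pN h).trans k.nm)) fun x hx => ⟨1, pow_mem hx _, by
      rw [pow_one, pow_two]
      rcases k.di x (pN h hx) with a | a
      · exact mul_mem a a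
      · have := mul_mem a (tM h k a)
        have e : x * t * (t * (x * t) * t⁻¹) = x * (t * t) * x := by group
        rwa [e, h.tt, mul_one] at this⟩
  rw [← this]
  exact sup_le inf_le_right ((u1 h.toSw).trans (s0M k))

theorem syl0M : IsSyl 2 (S ⊓ 𝐍(G₁)) (M ⊓ 𝐂₁(z)) :=
  (syl0 h).mono (le_inf (s0M k) h.zc) (inf_le_inf_right _ k.le)

theorem nz {n : G} (hn : n ∈ M) : n * z * n⁻¹ ≠ t * z * t⁻¹ := fun e => by
  have zc : z ∈ 𝐂(S ⊓ 𝐍(G₁)) := mem_centralizer_iff'.2 fun s hs => mem_c1.1 (h.zc hs)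
  have hT : IsSyl 2 (S ⊓ 𝐍(G₁)) (M ⊓ 𝐂₁(t * z * t⁻¹)) :=
    (sylM h k).mono (le_inf (s0M k) fun s hs => mem_c1.2 (mem_centralizer_iff'.1 (cS0 h zc) s hs))
      inf_le_left
  obtain ⟨c, hc, hc'⟩ := hT.exists_cj_le (isPGroup_cj n (p0 h.toSw))
    (le_inf (cj_le_of_mem hn (s0M k)) (by
      rw [← e, ← cj_centralizer_singleton]; exact cj_mono n h.zc))
  rw [← cj_mul] at hc'
  have mN := mem_normalizer_of_cj_le hc'
  have mM := mul_mem hc.1 hn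
  have e' : c * n * z * (c * n)⁻¹ = t * z * t⁻¹ := by
    calc c * n * z * (c * n)⁻¹ = c * (n * z * n⁻¹) * c⁻¹ := by group
      _ = _ := by rw [e]; exact conj_eq_iff.2 (mem_c1.1 hc.2)
  generalize c * n = m at mN mM e'
  have mj : ∀ j : ℕ, m ^ j ∈ 𝐍(B ⊔ cj[t] B) := fun j => pow_mem (k.le mM) j
  have cc : ∀ j : ℕ, ∀ y ∈ 𝐂(S ⊓ 𝐍(G₁)), m ^ j * y * (m ^ j)⁻¹ ∈ 𝐂(S ⊓ 𝐍(G₁)) := fun j y hy =>
    conj_mem_of_mem_normalizer (normalizer_le_normalizer_centralizer _ (pow_mem mN j)) hy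
  have cc' : ∀ j : ℕ, ∀ y ∈ 𝐂(S ⊓ 𝐍(G₁)), (m ^ j)⁻¹ * y * m ^ j ∈ 𝐂(S ⊓ 𝐍(G₁)) := fun j y hy =>
    conj_mem_of_mem_normalizer' (normalizer_le_normalizer_centralizer _ (pow_mem mN j)) hy
  have z2 : t * z * t⁻¹ ∈ cj[t] B := conj_mem_cj t (zB h)
  have mix : ¬ (z * (t * z * t⁻¹) ∈ B ∨ z * (t * z * t⁻¹) ∈ cj[t] B) := by
    rintro (a | a)
    · exact cz1 h (uniq h (zB h) z2 a (one_mem _) (mul_one _).symm).2
    · exact h.z1 (uniq h (zB h) z2 (one_mem _) a (one_mul _).symm).1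
  have nrel : ∀ j : ℕ, ∀ w, m ^ j * z * (m ^ j)⁻¹ * (m ^ (j + 1) * z * (m ^ (j + 1))⁻¹) = w →
      w ≠ 1 ∧ ∀ g ∈ 𝐍(B ⊔ cj[t] B), g * z * g⁻¹ ≠ w := fun j w ew => by
    have e1 : z * (t * z * t⁻¹) = (m ^ j)⁻¹ * w * m ^ j := by
      rw [← ew, ← e', pow_succ]; group
    refine ⟨fun w1 => mix (Or.inl (by rw [e1, w1]; simp)), fun g hg eg => mix ?_⟩
    have e2 : z * (t * z * t⁻¹) = (m ^ j)⁻¹ * g * z * ((m ^ j)⁻¹ * g)⁻¹ := by
      rw [e1, ← eg]; group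
    rw [e2]
    refine pure h (mul_mem (inv_mem (mj j)) hg) ?_
    rw [← e2]
    exact mul_mem zc (cS0 h zc)
  have st : ∀ j : ℕ, (m ^ j * z * (m ^ j)⁻¹ ∈ B → m ^ (j + 1) * z * (m ^ (j + 1))⁻¹ ∈ cj[t] B) ∧
      (m ^ j * z * (m ^ j)⁻¹ ∈ cj[t] B → m ^ (j + 1) * z * (m ^ (j + 1))⁻¹ ∈ B) := fun j => by
    obtain ⟨a1, a2⟩ := nrel j _ rfl
    have a3 := mul_mem (cc j z zc) (cc (j + 1) z zc)
    have a4 := pure h (mj (j + 1)) (cc (j + 1) z zc)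
    refine ⟨fun b => a4.resolve_left fun b' => ?_, fun b => a4.resolve_right fun b' => ?_⟩
    · obtain ⟨p, hp, ep⟩ := j1' h (mul_mem b b') a1 a3
      exact a2 p (pN h hp) ep
    · obtain ⟨p, hp, ep⟩ := j1' h ((mem_t h.toSw).1 (mul_mem b b'))
        (fun e => a1 (by rw [← tc h.toSw (_ * _), e]; group)) (cS0 h a3)
      refine a2 (t * p) (mul_mem (sN h h.tS) (pN h hp)) ?_
      rw [← tc h.toSw (m ^ j * z * (m ^ j)⁻¹ * _), ← ep]; group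
  have ev : ∀ i : ℕ, m ^ (2 * i) * z * (m ^ (2 * i))⁻¹ ∈ B := fun i => by
    induction i with
    | zero => simpa using (zB h)
    | succ i ih => exact (st (2 * i + 1)).2 ((st _).1 ih)
  obtain ⟨r, ⟨i, rfl⟩, hr⟩ := ex_odd' m
  have a := (st _).1 (ev i)
  have b := (sylM h k).le_of_le_normalizer' hr (zpowers_le.2 (pow_mem mM _))
    (zpowers_le.2 (pow_mem mN _)) (mem_zpowers _)
  rw [conj_eq_iff.2 (mem_c1.1 (h.zc b))] at a
  exact h.z1 (inter h (zB h) a)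

omit k in
/-- the fixed points of a conjugate of `X` acting on one side only -/
theorem side {n w : G} {A A' : Subgroup G} (hn : n ∈ 𝐍(B ⊔ cj[t] B)) (e : A ⊔ A' = B ⊔ cj[t] B)
    (c : A ≤ 𝐂(A')) (i : ∀ x ∈ A, x ∈ A' → x = 1) (cA : Nat.card A' = Nat.card ↥(cj[t] B))
    (nA : cj[n] X ≤ 𝐍(A)) (xc : cj[n] X ≤ 𝐂(A')) (hw : w ∈ A) (hw' : w ∈ 𝐂(cj[n] X)) :
    w ∈ cj[n] (B ⊓ 𝐂(X)) := by
  have xg : X ≤ 𝐂(cj[t] B) := (h.xle.trans inf_le_right).trans (g1c h)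
  have z1 : cj[n] (B ⊓ 𝐂(X)) ≤ A := by
    refine (cj_mono n (h.j0.trans (commutator_mono le_sup_left le_rfl : _ ≤ ⁅B ⊔ cj[t] B, X⁆))).trans ?_
    rw [cj_commutator, cj_eq_self hn, ← e]
    refine commutator_le.2 fun a ha x hx => ?_
    have := commutator_mem_commutator ha (mem_zpowers x)
    rw [com_sup (le_centralizer_iff.1 c) (xc hx)] at this
    exact commutator_le_left_of_le_normalizer (zpowers_le.2 (nA hx)) this
  have z2 : ∀ c ∈ B ⊔ cj[t] B, c ∈ 𝐂(cj[n] X) → c ∈ cj[n] (B ⊓ 𝐂(X) ⊔ cj[t] B) := fun c hc hc' => by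
    obtain ⟨x, hx, y, hy, exy⟩ := (mh h).1 (conj_mem_of_mem_normalizer' hn hc)
    rw [mem_cj, ← exy]
    refine mul_mem (mem_sup_left ⟨hx, ?_⟩) (mem_sup_right hy)
    have a1 : x * y ∈ 𝐂(X) := by rwa [exy, ← mem_cj, cj_centralizer]
    simpa using mul_mem a1 (inv_mem (le_centralizer_iff.1 xg hy))
  have cd : ∀ {Y C C' : Subgroup G}, Y ≤ C → C ≤ 𝐂(C') → (∀ x ∈ C, x ∈ C' → x = 1) →
      Nat.card ↥(Y ⊔ C') = Nat.card Y * Nat.card C' := fun {Y C C'} hY a b => by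
    have := card_sup_mul_card_inf (H := Y) (N := C') ((hY.trans a).trans (centralizer_le_normalizer _))
    rwa [(eq_bot_iff_forall _).2 fun x (hx : x ∈ Y ⊓ C') => b x (hY hx.1) hx.2, card_bot, mul_one] at this
  have z3 : cj[n] (B ⊓ 𝐂(X)) ⊔ A' = cj[n] (B ⊓ 𝐂(X) ⊔ cj[t] B) :=
    eq_of_le_of_card_ge (sup_le (cj_mono n le_sup_left) fun y hy =>
      z2 y (e.le (mem_sup_right hy)) (le_centralizer_iff.1 xc hy))
      (by rw [card_cj, cd z1 c i, cd inf_le_left (bc' h) fun x a b => inter h a b, card_cj n, cA])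
  obtain ⟨x, hx, y, hy, exy⟩ := (mem_sup_of_le_normalizer' ((z1.trans c).trans
    (centralizer_le_normalizer _))).1 (z3.ge (z2 w (e.le (mem_sup_left hw)) hw'))
  have := i y (by have := mul_mem (inv_mem (z1 hx)) hw; rwa [← exy, inv_mul_cancel_left] at this) hy
  rwa [← exy, this, mul_one]

theorem no2 {g : G} (hg : g ∈ M) : g * z * g⁻¹ ∉ cj[t] B := fun hv => by
  have x0 : X ≤ S ⊓ 𝐍(G₁) := h.xle.trans (u1 h.toSw)
  obtain ⟨n, hn, e, hl⟩ := CF.Dbl.Ie.ext (syl0M h k) hg ((p0 h.toSw).to_le x0) (le_inf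
    (x0.trans (s0M k)) fun s hs => mem_c1.2 (mem_centralizer_iff'.1 (g1c h (h.xle hs).2) _ hv).symm)
  have nN := k.le hn
  have zc : z ∈ 𝐂(S ⊓ 𝐍(G₁)) := mem_centralizer_iff'.2 fun s hs => mem_c1.1 (h.zc hs)
  have a : ∀ x ∈ cj[n] X, x ∈ 𝐂(cj[t] B) ∨ x ∈ 𝐂(B) := fun x hx => by
    by_cases x1 : n⁻¹ * x * n = 1
    · left
      rw [show x = n * (n⁻¹ * x * n) * n⁻¹ by group, x1]
      simp
    obtain ⟨q, hq, eq⟩ := h.xp _ (mem_cj.1 hx) x1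
    have e1 : n * q * p₀ * (n * q)⁻¹ = x := by
      calc n * q * p₀ * (n * q)⁻¹ = n * (q * p₀ * q⁻¹) * n⁻¹ := by group
        _ = x := by rw [eq]; group
    exact e1 ▸ (one h (mul_mem nN (pN h hq)) (e1 ▸ (hl hx).1)).2
  have b : cj[n] X ≤ 𝐂(cj[t] B) ∨ cj[n] X ≤ 𝐂(B) := by
    by_contra c
    push Not at c
    obtain ⟨x, x1, x2⟩ := SetLike.not_le_iff_exists.1 c.1
    obtain ⟨y, y1, y2⟩ := SetLike.not_le_iff_exists.1 c.2
    rcases a _ (mul_mem x1 y1) with d | d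
    · exact x2 ((mul_mem_cancel_right ((a y y1).resolve_right y2)).1 d)
    · exact y2 ((mul_mem_cancel_left ((a x x1).resolve_left x2)).1 d)
  rcases b with b | b
  · have := side h nN rfl (bc' h) (fun x a b => inter h a b) rfl (hl.trans h.nB) b (zB h)
      (centralizer_anti hl zc)
    rw [← e, conj_mem_cj_iff] at this
    exact cz1 h (inter h this.1 hv)
  · have := side h nN (sup_comm _ _) (bc h) (fun x a b => inter h b a) (card_cj t B).symm (hl.trans (nB2 h)) b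
      (conj_mem_cj t (zB h)) (centralizer_anti hl (cS0 h zc))
    obtain ⟨q, hq, eq⟩ := h.j1 _ (mem_cj.1 this) fun e => cz1 h (n := n⁻¹ * t) (by rw [← e]; group)
    refine nz h k (mul_mem hn (pM h k hq)) ?_
    calc n * q * z * (n * q)⁻¹ = n * (q * z * q⁻¹) * n⁻¹ := by group
      _ = _ := by rw [eq]; group

end a

/-- `M`-conjugates of `p₀` -/
def TT (M : Subgroup G) (p₀ d : G) : Prop := ∃ n ∈ M, n * p₀ * n⁻¹ = d

omit [Finite G] in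
theorem TT.cj {d g : G} (a : TT M p₀ d) (hg : g ∈ M) : TT M p₀ (g * d * g⁻¹) := by
  obtain ⟨n, hn, rfl⟩ := a
  exact ⟨g * n, mul_mem hg hn, by group⟩

variable (h : IU G₁ G₂ S B X t z p₀) (k : Nz G₁ S B M t)
include h k

omit [Finite G] in
theorem tt1 {d : G} (a : TT M p₀ d) : d ∈ M ∧ d * d = 1 := by
  obtain ⟨n, hn, rfl⟩ := a
  exact ⟨mul_mem (mul_mem hn (s0M k (pS h))) (inv_mem hn), sqp h n⟩

omit [Finite G] in
theorem tt2 {d : G} (a : TT M p₀ (t * d * t⁻¹)) : d ∈ M ∧ d * d = 1 := by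
  obtain ⟨a1, a2⟩ := tt1 h k a
  rw [← tc h.toSw d]
  exact ⟨tM h k a1, sqt h a2⟩

omit [Finite G] in
theorem cj2 {d g : G} (a : TT M p₀ (t * d * t⁻¹)) (hg : g ∈ M) :
    TT M p₀ (t * (g * d * g⁻¹) * t⁻¹) := by
  have := a.cj (tM h k hg)
  convert this using 1
  group

theorem s7 {d : G} (a : TT M p₀ d) (hd : d ∈ S ⊓ 𝐍(G₁)) : d ∈ 𝐂(cj[t] B) := by
  obtain ⟨n, hn, rfl⟩ := a
  exact ((fg h (k.le hn) hd.1).resolve_right (no2 h k hn)).2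

theorem s7' {d : G} (a : TT M p₀ (t * d * t⁻¹)) (hd : d ∈ S ⊓ 𝐍(G₁)) : d ∈ 𝐂(B) := by
  have := (ct h).2 (s7 h k a (tS0 h.toSw hd))
  rwa [tc h.toSw] at this

theorem s8 {c d : G} (a : TT M p₀ c) (b : TT M p₀ (t * d * t⁻¹)) :
    ⁅B ⊔ cj[t] B, zpowers c⁆ ≤ 𝐂₁(d) := by
  obtain ⟨i, r, hr, ho⟩ := ex_odd (c * d)
  -- odd powers give conjugates of `d`
  have od : ∀ {c d : G}, c * c = 1 → d * d = 1 → ∀ j : ℕ,
      c * (c * d) ^ (2 * j + 1) = ((c * d) ^ j)⁻¹ * d * ((c * d) ^ j)⁻¹⁻¹ := fun {c d} cc dd j => by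
    have e1 := CF.Invol.conj_pow_of_inverts (CF.Invol.right_inverts_mul cc dd) j
    calc c * (c * d) ^ (2 * j + 1) = (c * c) * d * (c * d) ^ j * (c * d) ^ j := by
          rw [pow_succ', two_mul, pow_add]; simp only [mul_assoc]
      _ = (d * (c * d) ^ j * d⁻¹) * d * (c * d) ^ j := by rw [cc]; group
      _ = _ := by rw [e1, inv_inv]
  obtain ⟨cM, cc⟩ := tt1 h k a
  obtain ⟨dM, dd⟩ := tt2 h k b
  obtain ⟨j, hj⟩ := hr
  have b' : TT M p₀ (t * (c * (c * d) ^ r) * t⁻¹) := by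
    rw [hj, od cc dd]; exact cj2 h k b (inv_mem (pow_mem (mul_mem cM dM) j))
  have ee := (tt2 h k b').2
  have e0 : c * (c * (c * d) ^ r) = (c * d) ^ r := by rw [← mul_assoc, cc, one_mul]
  obtain ⟨n, hn, hl⟩ := (sylM h k).exists_cj_le (dih cc ee (a := i) (by
    rw [e0, ← pow_mul, mul_comm, ← ho, pow_orderOf_eq_one]))
    ((closure_le _).2 (Set.pair_subset cM (tt2 h k b').1))
  have m1 : n * c * n⁻¹ ∈ S ⊓ 𝐍(G₁) := hl (conj_mem_cj n (subset_closure (by simp)))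
  have m2 : n * (c * (c * d) ^ r) * n⁻¹ ∈ S ⊓ 𝐍(G₁) :=
    hl (conj_mem_cj n (subset_closure (by simp)))
  have a1 := a.cj hn
  have b1 := cj2 h k b hn
  have b2 := cj2 h k b' hn
  have ho' : orderOf (n * c * n⁻¹ * (n * d * n⁻¹)) = 2 ^ i * r := by
    rw [← conj_mul_conj, CF.Invol.orderOf_conj, ho]
  rw [conj_mul_conj n c, ← conj_pow, conj_mul_conj n c] at m2 b2
  suffices H : ⁅B ⊔ cj[t] B, zpowers (n * c * n⁻¹)⁆ ≤ 𝐂₁(n * d * n⁻¹) by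
    rwa [← cjW (k.le hn), ← cj_centralizer_singleton, cj_le_cj_iff] at H
  clear hl ho e0 ee b' cc dd cM dM a b
  generalize n * c * n⁻¹ = c at *
  generalize n * d * n⁻¹ = d at *
  obtain ⟨cM, cc⟩ := tt1 h k a1
  obtain ⟨dM, dd⟩ := tt2 h k b1
  have ee := (tt2 h k b2).2
  have c2 := s7 h k a1 m1
  have inv := CF.Invol.conj_pow_of_inverts (CF.Invol.left_inverts_mul cc dd) (2 ^ i)
  have y0 : (c * d) ^ 2 ^ i ∈ 𝐂(B ⊔ cj[t] B) := by
    refine eta (bc h) h.bel (el2 h) cc ee (h.nB m1) (nB2 h m2) c2 (s7' h k b2 m2)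
      (k.le (pow_mem (mul_mem cM dM) _)) ?_ inv ?_
    · rw [orderOf_pow' _ (by positivity), ho', Nat.gcd_mul_right_left,
        Nat.mul_div_cancel_left _ (by positivity)]
      exact ⟨j, hj⟩
    · calc c * (c * d) ^ r * (c * d) ^ 2 ^ i * (c * (c * d) ^ r)⁻¹
          = c * ((c * d) ^ r * (c * d) ^ 2 ^ i) * ((c * d) ^ r)⁻¹ * c⁻¹ := by group
        _ = c * (c * d) ^ 2 ^ i * c⁻¹ := by rw [pow_mul_comm]; group
        _ = _ := inv
  obtain ⟨u, hu⟩ : ∃ u, r * u % 2 ^ (i + 1) = 1 := by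
    have : Nat.Coprime r (2 ^ (i + 1)) :=
      Nat.Coprime.pow_right _ (Nat.coprime_two_right.2 ⟨j, hj⟩)
    obtain ⟨u, -, hu⟩ := Nat.exists_mul_mod_eq_one_of_coprime this
      (Nat.one_lt_two_pow (by omega))
    exact ⟨u, hu⟩
  have e1 := Nat.div_add_mod (r * u) (2 ^ (i + 1))
  rw [hu] at e1
  generalize r * u / 2 ^ (i + 1) = v at e1
  obtain ⟨l, hl⟩ : Odd u := by
    refine (Nat.odd_mul.1 (?_ : Odd (r * u))).2
    rw [← e1, pow_succ]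
    exact ⟨2 ^ i * v, by ring⟩
  have e0 : c * (c * (c * d) ^ r) = (c * d) ^ r := by rw [← mul_assoc, cc, one_mul]
  have f1 : c * (c * d) ^ (r * u) ∈ 𝐂(B) := by
    rw [pow_mul, ← e0, hl, od cc ee]
    exact conj_mem_of_mem_normalizer (normalizer_le_normalizer_centralizer _
      (h.nB (inv_mem (pow_mem (mul_mem m1 m2) l)))) (s7' h k b2 m2)
  have f2 : d ∈ 𝐂(B) := by
    have : d = c * (c * d) ^ (r * u) * (((c * d) ^ 2 ^ i) ^ (2 * v))⁻¹ := by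
      rw [← e1, ← pow_mul, pow_succ' (c * d), show 2 ^ i * (2 * v) = 2 ^ (i + 1) * v by ring]
      calc d = (c * c) * d := by rw [cc, one_mul]
        _ = _ := by group
    rw [this]
    exact mul_mem f1 (inv_mem (pow_mem (centralizer_anti le_sup_left y0) _))
  rw [W1 h c2]
  exact fun w hw => mem_c1.2 (mem_centralizer_iff'.1 f2 w
    (commutator_le_left_of_le_normalizer (zpowers_le.2 (h.nB m1)) hw))

theorem s9 {n : G} (hn : n ∈ M) : n * z * n⁻¹ ∈ B := by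
  obtain ⟨b, hb, c, hc, e⟩ := (mh h).1 (conj_mem_of_mem_normalizer (k.le hn) (zh h))
  have hw : n * z * n⁻¹ ∈ ⁅B ⊔ cj[t] B, zpowers (n * p₀ * n⁻¹)⁆ := by
    rw [Wp h (k.le hn)]; exact conj_mem_cj n h.zp
  have := h.r0 _ ((mem_t h.toSw).1 hc) fun p hp => mem_c1.2 (by
    have a1 := mem_c1.1 (s8 h k ⟨n, hn, rfl⟩ (d := t * (p⁻¹ * p₀ * p⁻¹⁻¹) * t⁻¹)
      ⟨p⁻¹, inv_mem (pM h k hp), (tc h.toSw _).symm⟩ hw)
    have a2 : t * (p⁻¹ * p₀ * p⁻¹⁻¹) * t⁻¹ ∈ G₂ := h.t1 ▸ conj_mem_cj t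
      (mul_mem (mul_mem (inv_mem hp.1) (h.xle h.pX).2) (inv_mem (inv_mem hp.1)))
    have a3 := mem_centralizer_iff'.1 (g2c h a2) b hb
    rw [← e, mul_assoc b, ← mul_assoc _ b c, ← a3, mul_assoc b] at a1
    have a4 := mul_left_cancel a1
    rw [← tc h.toSw c, ← conj_mul_conj, ← conj_mul_conj] at a4
    have a5 := mul_left_cancel (mul_right_cancel a4)
    symm
    calc p₀ * (p * (t * c * t⁻¹) * p⁻¹) = p * (p⁻¹ * p₀ * p⁻¹⁻¹ * (t * c * t⁻¹)) * p⁻¹ := by group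
      _ = _ := by rw [← a5]; group)
  have c1 : c = 1 := by simpa using this
  rwa [← e, c1, mul_one]

theorem mB : M ≤ 𝐍(B) := fun n hn => mem_normalizer_of_cj_le (cj_le_iff.2 (h.gen _ fun p hp => by
  have := s9 h k (mul_mem hn (pM h k hp))
  rw [mem_cj]
  convert this using 1
  group))

end CF.Ud.Iu

namespace CF.Ud

open Cfsg Subgroup CF.Loc CF.LX CF.Dbl Iu
open CF.Dbl.Ie (tc mem_t t2 com')

variable {G : Type*} [Group G] [Finite G] {t : G}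

/-- piece I -/
theorem IU.ip {G₁ G₂ S B R : Subgroup G} {z p : G} (h : IU G₁ G₂ S B R t z p) : IP G₁ G₂ := by
  intro a ha b hb c hc bb b1 cc c1 hj
  obtain ⟨M, k⟩ := ex_nz h
  obtain ⟨g, eg⟩ := isConj_iff.1 hj
  have cm0 := mem_centralizer_iff'.1 (com' h.toSw hc) b hb
  have aa : a * a = 1 := by
    have : g * (a * a) * g⁻¹ = 1 := by
      rw [conj_mul_conj, eg]
      calc b * c * (b * c) = b * (c * b) * c := by group
        _ = (b * b) * (c * c) := by rw [← cm0]; group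
        _ = 1 := by rw [bb, cc, one_mul]
    simpa using this
  obtain ⟨u, -, hu⟩ := h.inv a ha aa
  obtain ⟨v, hv, hv'⟩ := h.inv b hb bb
  obtain ⟨w, hw, hw'⟩ := h.inv (t * c * t⁻¹) (t2 h.toSw ▸ conj_mem_cj t hc) (sqt h cc)
  have hw2 : t * w * t⁻¹ ∈ G₂ := h.t1 ▸ conj_mem_cj t hw
  have hc' : t * w * t⁻¹ * c * (t * w * t⁻¹)⁻¹ ∈ cj[t] B := by
    have := conj_mem_cj t hw'
    rw [conj_mul_conj, conj_mul_conj, tc h.toSw] at this
    convert this using 1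
    group
  generalize t * w * t⁻¹ = w at hw2 hc'
  have e : v * w * g * u⁻¹ * (u * a * u⁻¹) * (v * w * g * u⁻¹)⁻¹ =
      v * b * v⁻¹ * (w * c * w⁻¹) := by
    calc v * w * g * u⁻¹ * (u * a * u⁻¹) * (v * w * g * u⁻¹)⁻¹
        = v * (w * (g * a * g⁻¹) * w⁻¹) * v⁻¹ := by group
      _ = _ := by
        rw [eg, conj_mul_conj w, conj_eq_of_mem_centralizer (com' h.toSw hw2) hb, conj_mul_conj v,
          conj_eq_of_mem_centralizer (g1c h hv) hc']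
  obtain ⟨n, hn, en⟩ := ctl h (mem_sup_left hu)
    (e ▸ mul_mem (mem_sup_left hv') (mem_sup_right hc'))
  rw [e] at en
  rcases k.di n hn with m | m
  · have := conj_mem_of_mem_normalizer (mB h k m) hu
    exact c1 (by simpa using (uniq h hv' hc' this (one_mem _) (by rw [en, mul_one])).2)
  · have m2 : n * (u * a * u⁻¹) * n⁻¹ ∈ cj[t] B := by
      have := conj_mem_of_mem_normalizer (mB h k (tM h k m)) hu
      rw [mem_t h.toSw]
      convert this using 1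
      group
    exact b1 (by simpa using (uniq h hv' hc' (one_mem _) m2 (by rw [en, one_mul])).1)

end CF.Ud
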