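import Cfsg.Agent.Ud.P2

/-! The doubled group `Q v` is canonical. -/

set_option autoImplicit false
set_option linter.unusedSectionVars false
set_option linter.unusedVariables false

namespace CF.Ud

open Subgroup Equiv CF.Geom Module CF.Loc CF.LX CF.Dbl Sx Tx
open scoped commutatorElement IsMulCommutative

section grp
variable {X : Type*} [Group X] {R Z : Subgroup X} {t z x a b c : X}
theorem cml (h : Commute a ⁅b, c⁆) : ⁅a * b, c⁆ = ⁅b, c⁆ * ⁅a, c⁆ := by rw [← conj_eq_iff.2 h.eq]; group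
theorem cmr (h : Commute b ⁅a, c⁆) : ⁅a, b * c⁆ = ⁅a, b⁆ * ⁅a, c⁆ := by rw [← conj_eq_iff.2 h.eq]; group
theorem nn_cj (i : z ∈ 𝐂(Z)) (h : ∀ r ∈ R, ⁅z, r⁆ ∈ Z) (j : x ∈ R ⊔ Z) : z * x * z⁻¹ ∈ R ⊔ Z :=
  (show cj[z] (R ⊔ Z) ≤ _ from cj_sup z R Z ▸ sup_le (by
    rintro _ ⟨r, k, rfl⟩; simpa [commutatorElement_def] using mul_mem (mem_sup_right (h r k)) (mem_sup_left k))
    ((cj_eq_self (centralizer_le_normalizer _ i)).le.trans le_sup_right)) (conj_mem_cj z j)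
theorem nn_inv (i : z ∈ 𝐂(Z)) (h : ∀ r ∈ R, ⁅z, r⁆ ∈ Z) : ∀ r ∈ R, ⁅z⁻¹, r⁆ ∈ Z := fun r k => by
  rw [show ⁅z⁻¹, r⁆ = z⁻¹ * (⁅z, r⁆⁻¹ * z) by group, mem_centralizer_iff'.1 i _ (inv_mem (h r k)), inv_mul_cancel_left]
  exact inv_mem (h r k)

/-- the canonical group -/
def Nn (R Z : Subgroup X) (t : X) : Subgroup X where
  carrier := {z | z ∈ 𝐂(Z) ∧ (∀ r ∈ R, ⁅z, r⁆ ∈ Z) ∧ t⁻¹ * (z * t * z⁻¹) ∈ R ⊔ Z}
  mul_mem' := fun {z z'} a b => ⟨mul_mem a.1 b.1, fun r k => by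
    rw [cml (mem_centralizer_iff'.1 a.1 _ (b.2.1 r k)).symm]; exact mul_mem (b.2.1 r k) (a.2.1 r k), by
    convert mul_mem a.2.2 (nn_cj a.1 a.2.1 b.2.2) using 1; group⟩
  one_mem' := ⟨one_mem _, by simp, by simp⟩
  inv_mem' := fun {z} a => ⟨inv_mem a.1, nn_inv a.1 a.2.1, by
    convert nn_cj (inv_mem a.1) (nn_inv a.1 a.2.1) (inv_mem a.2.2) using 1; group⟩
end grp

variable {K : Type} [Field K] [Fintype K] [CharP K 2] {m q : ℕ} {σ θ : K ≃+* K} {a b a' b' r ζ ω : K}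
  {g p k ξ : Perm (Fin m → K)} {u v w x n u' v' n' : Fin m → K} {T T' S : Submodule K (Fin m → K)}
  {X : Type*} [Group X] [Finite X] {ρ : SU σ m →* X} {t h z z' s : X} {y : (Fin m → K) → X}

/-- the vector attached to an element of the canonical group -/
def La (ρ : SU σ m →* X) (t : X) (y : (Fin m → K) → X) (v : Fin m → K) (z : X) (n : Fin m → K) : Prop :=
  z ∈ Nn (im ρ (Q σ v)) (Zh ρ y v) t ∧ ∃ ζ, Ok σ v n ζ ∧ ∃ s ∈ Zh ρ y v, t⁻¹ * (z * t * z⁻¹) = up ρ (E σ v n ζ) * s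

theorem tv_Zh (v : Fin m → K) (a : K) : tv ρ v a ∈ Zh ρ y v := subset_closure (.inl ⟨a, rfl⟩)
theorem y_Zh (v : Fin m → K) (a : K) : y (a • v) ∈ Zh ρ y v := subset_closure (.inr ⟨a, rfl⟩)
theorem M_Qh : im ρ (Q σ v) ⊔ Zh ρ y v ≤ Qh ρ y v := le_sup_left
theorem Z_Qh : Zh ρ y v ≤ Qh ρ y v := le_sup_right.trans M_Qh
theorem b_Qh (hw : hf σ w w = 0) (e : hf σ w v = 0) : bb y v w ∈ Qh ρ y v := mem_sup_right (subset_closure ⟨w, hw, e, rfl⟩)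
theorem tv0 (v : Fin m → K) : tv ρ v 0 = 1 := by rw [tv, E_zero, up_one]
theorem Yd.y0 (c : Yd ρ t y) : Y0 ρ t y := ⟨c.toCS, c.zero, c.eqv, c.tw⟩
theorem Yd.ci (c : Yd ρ t y) : ∀ u v, Ip σ u v → y u * y v = y v * y u := fun u v h => c.com u v h.1 h.2 h.3

namespace Dm
variable (d : Dm σ q m)
include d
theorem tvm (hv : hf σ v v = 0) (ha : σ a = a) (hb : σ b = b) : tv ρ v a * tv ρ v b = tv ρ v (a + b) := by
  rw [← up_mul (tv_SU _ _) (tv_SU _ _), tv_mul d.iv hv ha hb]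
theorem tvs (hv : hf σ v v = 0) (ha : σ a = a) (r : K) : tv ρ (r • v) a = tv ρ v (r * σ r * a) := by rw [tv, tv_smul d.iv hv ha]
theorem ti3 (hu : hf σ u u = 0) (hv : hf σ v v = 0) (hw : hf σ w w = 0) (e1 : hf σ u v = 0) (e2 : hf σ u w = 0) (e3 : hf σ v w = 0) :
    ∃ T, Ti σ T ∧ u ∈ T ∧ v ∈ T ∧ w ∈ T := by
  have := d.sw e1; have := d.sw e2; have := d.sw e3
  exact ⟨_, ti_span (u := ![u, v, w]) (by simp [Fin.forall_fin_succ, *]), Submodule.subset_span ⟨0, rfl⟩, Submodule.subset_span ⟨1, rfl⟩,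
    Submodule.subset_span ⟨2, rfl⟩⟩
theorem bf2 {P : Type*} [Group P] (hv : hf σ v v = 0) (φ : (Fin m → K) → P) (cen : ∀ a b : P, ⁅a, b⁆ ∈ center P)
    (add : ∀ x x', hf σ x v = 0 → hf σ x' v = 0 → (φ x * φ x')⁻¹ * φ (x + x') ∈ center P)
    (z : ∀ x y, hf σ x x = 0 → hf σ y y = 0 → hf σ x y = 0 → hf σ x v = 0 → hf σ y v = 0 → ⁅φ x, φ y⁆ = 1) :
    ∃ f : K → P, (∀ a b, f (a + b) = f a * f b) ∧ ∀ x y, hf σ x v = 0 → hf σ y v = 0 → ⁅φ x, φ y⁆ = f (hf σ x y) := by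
  have k : ∀ a b c : P, Commute a ⁅b, c⁆ := fun a b c => mem_center_iff.1 (cen b c) a
  have l : ∀ x x' a, hf σ x v = 0 → hf σ x' v = 0 → ⁅φ (x + x'), a⁆ = ⁅φ x, a⁆ * ⁅φ x', a⁆ := fun x x' a i j => by
    rw [← mul_inv_cancel_left (φ x * φ x') (φ (x + x')), cml (k ..),
      commutatorElement_eq_one_iff_mul_comm.2 (mem_center_iff.1 (add x x' i j) a).symm, one_mul, cml (k ..), (k ..).eq]
  obtain ⟨f, h1, h2⟩ := d.bf hv (M := center P) (fun x y => ⟨_, cen (φ x) (φ y)⟩) (fun x x' y i j _ => Subtype.ext (l x x' _ i j))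
    (fun x y y' _ i j => Subtype.ext (by
      change ⁅_, _⁆ = ⁅_, _⁆ * ⁅_, _⁆
      rw [← commutatorElement_inv, l y y' _ i j, (k ..).eq, _root_.mul_inv_rev, commutatorElement_inv, commutatorElement_inv]))
    fun x y a b c e f => Subtype.ext (z x y a b c e f)
  exact ⟨fun a => f a, fun a b => congrArg Subtype.val (h1 a b), fun x y i j => congrArg Subtype.val (h2 x y i j)⟩
variable (c : Yd ρ t y)
include c
theorem bsym (hu : hf σ u u = 0) (hv : hf σ v v = 0) (e : hf σ u v = 0) : bb y u v = bb y v u := by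
  rw [bb, bb, add_comm, mul_assoc, c.com u v hu hv e, mul_assoc]
theorem beqv (i : g ∈ SU σ m) (hu : hf σ u u = 0) (hv : hf σ v v = 0) (e : hf σ u v = 0) :
    up ρ g * bb y u v * (up ρ g)⁻¹ = bb y (g u) (g v) := by
  simp only [bb, conj_mul_conj]
  rw [c.eqv g i _ hu, c.eqv g i _ hv, c.eqv g i _ (by simp [hu, hv, e, d.sw e]), (su_sem i).add]
theorem yF (hv : hf σ v v = 0) (ha : σ a = a) (hb : σ b = b) : y ((a + b) • v) = y (a • v) * y (b • v) := by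
  obtain ⟨s, e⟩ := d.trc (a := a * b) (by simp [ha, hb])
  have : bb y (a • v) (b • v) = 1 := by
    rw [c.adj, smul_smul, ha, ← e, add_smul, c.add, ← c.adj, d.bsym c, d.bsq c.y0 c.ci] <;> simp [hv]
  rw [bb, mul_assoc, mul_eq_one_iff_eq_inv, ← add_smul] at this
  rw [this, inv_eq_iff_mul_eq_one, mul_assoc, ← mul_assoc (y (b • v)), c.com (b • v), mul_assoc, c.sq, mul_one, c.sq] <;> simp [hv]
theorem yN (hv : hf σ v v = 0) (ha : σ a = a) (e : a * a = b * σ b) : y (b • v) = y (a • v) := by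
  by_cases z : a = 0
  · obtain rfl : b = 0 := by simpa [z] using e
    rw [z]
  rw [← c.nrm (a • v) (b / a) (by simp [hv]) (by rw [map_div₀, ha]; field_simp; rw [← e]; ring), smul_smul, div_mul_cancel₀ _ z]
theorem yR (hv : hf σ v v = 0) (b : K) : ∃ a, σ a = a ∧ a * a = b * σ b ∧ y (b • v) = y (a • v) := by
  obtain ⟨a, e⟩ := exists_rt (b * σ b)
  have := d.fix_rt (c := a) (by rw [e, map_mul, d.iv, mul_comm])
  exact ⟨a, this, e, d.yN c hv this e⟩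
theorem bT (hv : hf σ v v = 0) (e : r * r = b + σ b) : bb y v (b • v) = y (r • v) := by
  have hr := d.fix_rt (c := r) (by rw [e, map_add, d.iv, add_comm])
  obtain ⟨a, h1, h2, h3⟩ := d.yR c hv b
  rw [bb, show v + b • v = (1 + b) • v by module, d.yN c hv (a := r + (a + 1)) (by simp [*]) (by simp only [map_add, map_one]; grind), h3,
    d.yF c hv hr (by simp [*]), d.yF c hv h1 (map_one σ), one_smul, mul_assoc, mul_assoc, mul_assoc, ← mul_assoc (y v), c.sq v hv, one_mul,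
    c.sq _ (by simp [hv]), mul_one]
theorem yE (hw : hf σ w w = 0) (e : hf σ w v = 0) (f : hf σ w n = 0) (ζ : K) : Commute (up ρ (E σ v n ζ)) (y w) :=
  c.y0.cY hw _ (up_im ⟨d.E_SU _ _ _, E_fix e f _⟩ (d.E_SU _ _ _))
theorem ty (hv : hf σ v v = 0) : t⁻¹ * y v * t = y v * tv ρ v 1 := by
  rw [← (d.yE c hv hv (hf_zero_r v) 1).eq, ← inv_mul_cancel_left t (up ρ _), ← c.tw v hv, inv_eq_of_mul_eq_one_left (c.sq v hv),
    mul_assoc, mul_assoc, mul_assoc, mul_assoc, c.sq v hv, mul_one]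
variable (hv : hf σ v v = 0)
include hv
theorem Z_cY : im ρ (Y σ v) ≤ 𝐂(Zh ρ y v) := le_centralizer_iff.1 ((closure_le _).2 (by
  rintro _ (⟨a, rfl⟩ | ⟨a, rfl⟩)
  · exact im_cent (tv_SU _ _) (s_tvY v a).2
  · exact centralizer_anti (im_mono fun g (i : g ∈ Y σ v) => mem_Y.2 ⟨i.1, by rw [(su_sem i.1).smul1, (mem_Y.1 i).2]⟩)
      (c.y0.cY (by simp [hv]))))
theorem y_cZ (hw : hf σ w w = 0) (e : hf σ w v = 0) : y w ∈ 𝐂(Zh ρ y v) := by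
  rw [Zh, centralizer_closure]
  rintro _ (⟨a, rfl⟩ | ⟨a, rfl⟩)
  exacts [d.yE c hw e (hf_zero_r w) a, c.com _ _ (by simp [hv]) hw (by simp [d.sw e])]
theorem b_cZ (hw : hf σ w w = 0) (e : hf σ w v = 0) : bb y v w ∈ 𝐂(Zh ρ y v) :=
  mul_mem (mul_mem (d.y_cZ c hv (by simp [hv, hw, e, d.sw e]) (by simp [hv, e])) (d.y_cZ c hv hv hv)) (d.y_cZ c hv hw e)
theorem Z_ab : Zh ρ y v ≤ 𝐂(Zh ρ y v) := (closure_le _).2 (by
  rintro _ (⟨a, rfl⟩ | ⟨a, rfl⟩)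
  exacts [d.Z_cY c hv (s_tvim ρ v a), d.y_cZ c hv (by simp [hv]) (by simp [hv])])
theorem zmul (ha : σ a = a) (hb : σ b = b) (ha' : σ a' = a') (hb' : σ b' = b') :
    y (a • v) * tv ρ v b * (y (a' • v) * tv ρ v b') = y ((a + a') • v) * tv ρ v (b + b') := by
  rw [d.yF c hv ha ha', ← d.tvm hv hb hb', mul_assoc, ← mul_assoc (tv ρ v b), mem_centralizer_iff'.1 (d.Z_ab c hv (y_Zh v a')) _ (tv_Zh v b)]
  simp only [mul_assoc]
theorem mem_Zh : s ∈ Zh ρ y v ↔ ∃ a b, σ a = a ∧ σ b = b ∧ s = y (a • v) * tv ρ v b := by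
  refine ⟨fun i => ?_, fun ⟨a, b, _, _, e⟩ => e ▸ mul_mem (y_Zh _ _) (tv_Zh _ _)⟩
  induction i using closure_induction with
  | mem _ e =>
    obtain ⟨a, rfl⟩ | ⟨a, rfl⟩ := e
    · obtain ⟨b, i, e⟩ := (mem_Z d.iv hv).1 (tv_Z v a)
      exact ⟨0, b, map_zero σ, i, by rw [zero_smul, c.zero, one_mul, tv, e]⟩
    · obtain ⟨b, i, -, e⟩ := d.yR c hv a
      exact ⟨b, 0, i, map_zero σ, by rw [e, tv0, mul_one]⟩
  | one => exact ⟨0, 0, map_zero σ, map_zero σ, by simp [tv0, c.zero]⟩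
  | mul _ _ _ _ i j =>
    obtain ⟨a, b, ha, hb, rfl⟩ := i; obtain ⟨a', b', ha', hb', rfl⟩ := j
    exact ⟨_, _, by simp [*], by simp [*], d.zmul c hv ha hb ha' hb'⟩
  | inv _ _ i =>
    obtain ⟨a, b, ha, hb, rfl⟩ := i
    exact ⟨a, b, ha, hb, inv_eq_of_mul_eq_one_left (by simp [d.zmul c hv ha hb ha hb, CharTwo.add_self_eq_zero, tv0, c.zero])⟩
theorem Z_el : El (Zh ρ y v) := fun s i => by
  obtain ⟨a, b, ha, hb, rfl⟩ := (d.mem_Zh c hv).1 i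
  simp [d.zmul c hv ha hb ha hb, CharTwo.add_self_eq_zero, tv0, c.zero]
theorem zt (ha : σ a = a) (hb : σ b = b) : t⁻¹ * (y (a • v) * tv ρ v b) * t = y (a • v) * tv ρ v (a * a + b) := by
  rw [mul_assoc, mul_assoc, tv_cm c.cm, ← mul_assoc, ← mul_assoc, d.ty c (by simp [hv]), d.tvs hv (map_one σ), mul_assoc,
    d.tvm hv (by simp [ha]) hb, ha, mul_one]
theorem Z_t (i : s ∈ Zh ρ y v) : t⁻¹ * s * t ∈ Zh ρ y v := by
  obtain ⟨a, b, ha, hb, rfl⟩ := (d.mem_Zh c hv).1 i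
  exact d.zt c hv ha hb ▸ mul_mem (y_Zh _ _) (tv_Zh _ _)
theorem mem_M : s ∈ im ρ (Q σ v) ⊔ Zh ρ y v ↔ ∃ n ζ, Ok σ v n ζ ∧ ∃ z ∈ Zh ρ y v, s = up ρ (E σ v n ζ) * z := by
  rw [mem_sup_of_le_normalizer' (((im_mono d.Q_Y).trans (d.Z_cY c hv)).trans (centralizer_le_normalizer _))]
  refine ⟨fun ⟨_, i, z, j, e⟩ => ?_, fun ⟨n, ζ, o, z, j, e⟩ => ⟨_, up_im (E_Q _ _ _) (d.E_SU _ _ _), z, j, e.symm⟩⟩
  obtain ⟨g, i', -, rfl⟩ := mem_im.1 i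
  obtain ⟨n, ζ, o, rfl⟩ := (mem_Q d.iv hv).1 i'
  exact ⟨n, ζ, o, z, j, e.symm⟩
theorem E_cZ (n : Fin m → K) (ζ : K) (i : s ∈ Zh ρ y v) : s * up ρ (E σ v n ζ) = up ρ (E σ v n ζ) * s :=
  mem_centralizer_iff'.1 (d.Z_cY c hv (up_im (d.Q_Y (E_Q _ _ _)) (d.E_SU _ _ _))) _ i
theorem Eb (o : Ok σ v n ζ) (hw : hf σ w w = 0) (e : hf σ w v = 0) (f : r * r = hf σ w n + hf σ n w) :
    ⁅up ρ (E σ v n ζ), bb y v w⁆ = y (r • v) := by
  rw [commutatorElement_def, d.beqv c (d.E_SU _ _ _) hv hw (d.sw e), E_self, E_ap o, e, zero_smul, add_zero, mul_zero, add_zero,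
    c.add _ _ _ hv hw (by simp [hv]) (d.sw e) (by simp [hv]) (by simp [e]), d.bT c hv (r := r) (by rw [f, d.sy]),
    ← mem_centralizer_iff'.1 (d.b_cZ c hv hw e) _ (y_Zh v r), mul_inv_cancel_right]
theorem la_mul (i : La ρ t y v z n) (j : La ρ t y v z' n') : La ρ t y v (z * z') (n + n') := by
  obtain ⟨i, ζ, o, s, k, e⟩ := i
  obtain ⟨j, ζ', o', s', k', e'⟩ := j
  have h := i.2.1 _ (up_im (E_Q v n' ζ') (d.E_SU _ _ _))
  refine ⟨mul_mem i j, _, o.mul o', _, mul_mem (mul_mem k h) k', ?_⟩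
  rw [← E_mul o o', up_mul (d.E_SU _ _ _) (d.E_SU _ _ _), mul_assoc (up ρ _), ← mul_assoc (up ρ (E σ v n' ζ')), ← d.E_cZ c hv _ _ (mul_mem k h),
    show t⁻¹ * (z * z' * t * (z * z')⁻¹) = t⁻¹ * (z * t * z⁻¹) * (z * (t⁻¹ * (z' * t * z'⁻¹)) * z⁻¹) by group, e, e', conj_mul_conj,
    conj_eq_iff.2 (mem_centralizer_iff'.1 i.1 _ k').symm]
  group
theorem la_ex (i : z ∈ Nn (im ρ (Q σ v)) (Zh ρ y v) t) : ∃ n, La ρ t y v z n :=
  ((d.mem_M c hv).1 i.2.2).imp fun _ h => ⟨i, h⟩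
theorem tb (hw : hf σ w w = 0) (e : hf σ w v = 0) : t⁻¹ * (bb y v w * t * (bb y v w)⁻¹) = up ρ (E σ v w 0) := by
  by_cases z : v = 0
  · have : E σ (0 : Fin m → K) w 0 = 1 := Equiv.ext fun x => by simp [E_ap (ok_iso d.iv (hf_zero_l 0) hw (hf_zero_r w))]
    simp [z, bb, c.zero, c.sq w hw, this]
  obtain ⟨T, l, i, j, -⟩ := d.ti3 hv hw hw (d.sw e) (d.sw e) hw
  rw [(d.lmb c.y0 c.ci l (fun k => z (by simpa [k] using i)) i j).e, inv_mul_cancel_left]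
theorem la_b (hw : hf σ w w = 0) (e : hf σ w v = 0) : La ρ t y v (bb y v w) w := by
  have k := d.tb c hv hw e
  refine ⟨⟨d.b_cZ c hv hw e, fun r i => ?_, k ▸ mem_sup_left (up_im (E_Q _ _ _) (d.E_SU _ _ _))⟩, 0, ok_iso d.iv hv hw e, 1, one_mem _,
    k.trans (mul_one _).symm⟩
  obtain ⟨g, i', -, rfl⟩ := mem_im.1 i
  obtain ⟨n, ζ, o, rfl⟩ := (mem_Q d.iv hv).1 i'
  obtain ⟨r, f⟩ := exists_rt (hf σ w n + hf σ n w)
  rw [← commutatorElement_inv, d.Eb c hv o hw e f]; exact inv_mem (y_Zh _ _)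
theorem Q_Nn : Qh ρ y v ≤ Nn (im ρ (Q σ v)) (Zh ρ y v) t := by
  have k := (im_mono d.Q_Y).trans (d.Z_cY c hv)
  refine sup_le (sup_le (fun x i => ⟨k i, fun r j => ?_, ?_⟩) fun x i => ⟨d.Z_ab c hv i, fun r j => ?_, mem_sup_right ?_⟩)
    ((closure_le _).2 fun _ ⟨w, a, b, e⟩ => e ▸ (d.la_b c hv a b).1)
  · obtain ⟨g, i', i1, rfl⟩ := mem_im.1 i; obtain ⟨p, j', j1, rfl⟩ := mem_im.1 j
    obtain ⟨n, ζ, o, rfl⟩ := (mem_Q d.iv hv).1 i'; obtain ⟨n', ζ', o', rfl⟩ := (mem_Q d.iv hv).1 j'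
    rw [← up_comm i1 j1, E_comm o o']; exact tv_Zh _ _
  · rw [mem_centralizer_iff'.1 c.cm _ (im_le i)]; simp
  · rw [commutatorElement_eq_one_iff_mul_comm.2 (mem_centralizer_iff'.1 (k j) _ i)]; exact one_mem _
  · simpa only [mul_assoc] using mul_mem (d.Z_t c hv i) (inv_mem i)
theorem la_sur (e : hf σ n v = 0) : ∃ z ∈ Qh ρ y v, La ρ t y v z n ∧ (hf σ n n = 0 → z = bb y v n) := by
  by_cases k : hf σ n n = 0
  · exact ⟨_, b_Qh k e, d.la_b c hv k e, fun _ => rfl⟩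
  obtain ⟨z, i, j⟩ := d.span_iso1 (p := fun n => ∃ z ∈ Qh ρ y v, La ρ t y v z n) (fun _ _ ⟨z, i, j⟩ ⟨z', i', j'⟩ =>
    ⟨_, mul_mem i i', d.la_mul c hv j j'⟩) (fun x a b => ⟨_, b_Qh a b, d.la_b c hv a b⟩) e
  exact ⟨z, i, j, fun a => absurd a k⟩
theorem comM (i : z ∈ Nn (im ρ (Q σ v)) (Zh ρ y v) t) (j : s ∈ im ρ (Q σ v) ⊔ Zh ρ y v) : ⁅z, s⁆ ∈ Zh ρ y v := by
  obtain ⟨n, ζ, o, s, k, rfl⟩ := (d.mem_M c hv).1 j
  have := commutatorElement_eq_one_iff_mul_comm.2 (mem_centralizer_iff'.1 i.1 _ k).symm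
  rw [cmr (this ▸ Commute.one_right _), this, mul_one]; exact i.2.1 _ (up_im (E_Q _ _ _) (d.E_SU _ _ _))
variable (v0 : v ≠ 0)
include v0
theorem tvi (ha : σ a = a) (hb : σ b = b) (e : tv ρ v a = tv ρ v b) : a = b := CharTwo.add_eq_zero.1 (by_contra fun n =>
  d.s_tv1 c.ker hv v0 (by simp [ha, hb]) n (by rw [← d.tvm hv ha hb, e, s_tvsq]))
theorem zinj (ha : σ a = a) (hb : σ b = b) (ha' : σ a' = a') (hb' : σ b' = b') (e : y (a • v) * tv ρ v b = y (a' • v) * tv ρ v b') :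
    a = a' ∧ b = b' := by
  have k := d.zt c hv ha hb
  rw [e, d.zt c hv ha' hb', add_comm, add_comm (a * a), ← d.tvm hv hb' (by simp [ha']), ← d.tvm hv hb (by simp [ha]), ← mul_assoc,
    ← mul_assoc, e, mul_right_inj] at k
  obtain rfl := sq_inj (d.tvi c hv v0 (by simp [ha']) (by simp [ha]) k)
  exact ⟨rfl, d.tvi c hv v0 hb hb' (mul_left_cancel e)⟩
theorem Z_ct (i : s ∈ Zh ρ y v) (e : s * t = t * s) : ∃ a, σ a = a ∧ s = tv ρ v a := by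
  obtain ⟨a, b, ha, hb, rfl⟩ := (d.mem_Zh c hv).1 i
  have k := d.zt c hv ha hb
  rw [mul_assoc, e, inv_mul_cancel_left] at k
  obtain rfl : a = 0 := by simpa using (d.zinj c hv v0 ha hb ha (by simp [*]) k).2
  exact ⟨b, hb, by simp [c.zero]⟩
theorem upZ (i : g ∈ SU σ m) (e : E2 g) (j : up ρ g ∈ Zh ρ y v) : ∃ a, σ a = a ∧ g = E σ v 0 a :=
  (d.Z_ct c hv v0 j (tv_cm c.cm g)).imp fun a h => ⟨h.1, d.s_ker2 c.ker i (tv_SU _ _) e (e2_E ..) h.2⟩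
theorem tZ : t ∉ 𝐂(Zh ρ y v) := fun i => d.s_tv1 c.ker hv v0 (map_one σ) one_ne_zero (by
  have := c.tw v hv
  rwa [mem_centralizer_iff'.1 i _ (by simpa using y_Zh v (1 : K)), mul_inv_cancel_right, left_eq_mul] at this)
theorem Nn_ct (i : z ∈ Nn (im ρ (Q σ v)) (Zh ρ y v) t) (e : z * t = t * z) : z ∈ im ρ (Q σ v) := by
  obtain ⟨ξ, ⟨θ, s⟩, j⟩ := d.ind_of c.ker (c.ct (mem_c1.2 e))
  obtain ⟨a, g, k, -, f⟩ := d.cQ hv v0 ⟨_, s⟩ (by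
    rw [Z, centralizer_closure]; rintro _ ⟨a, rfl⟩
    exact (icm d c.ker s j (tv_SU _ _) (e2_E ..) (mem_centralizer_iff'.1 i.1 _ (tv_Zh _ _)).symm).symm) fun g k => by
      have l := d.Q_SU k
      have h : up ρ (ξ * g * ξ⁻¹ * g⁻¹) = ⁅z, up ρ g⁆ := by rw [up_mul (s.su l) (inv_mem l), ← j g l, up_inv l]; rfl
      obtain ⟨a, -, f⟩ := d.Z_ct c hv v0 (i.2.1 _ (up_im k l)) (h ▸ tv_cm c.cm _)
      rw [commutatorElement_def, mul_inv_eq_iff_eq_mul.2 (d.s_ker2 c.ker (s.su l) (mul_mem (tv_SU v a) l) ((e2_of (d.Q_two hv) k).cj ξ)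
        (e2_of (d.Q_two hv) (mul_mem (E_Q _ _ _) k)) (by rw [up_mul (tv_SU _ _) l, ← j g l, ← tv, ← f]; group))]
      exact tv_Z _ _
  obtain f | f := d.cs_sc c.toCS s j (mem_c1.2 e) (d.Q_SU k) f
  · exact f ▸ up_im k (d.Q_SU k)
  exact absurd ((mul_mem_cancel_right i.1).1 (f ▸ d.Z_cY c hv (up_im (d.Q_Y k) (d.Q_SU k)))) (d.tZ c hv v0)
theorem la_M (i : La ρ t y v z 0) : z ∈ im ρ (Q σ v) ⊔ Zh ρ y v := by
  obtain ⟨i, ζ, o, s, k, e⟩ := i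
  have h := mul_mem (tv_Zh v ζ) k
  obtain ⟨a, ha, f⟩ := d.Z_ct c hv v0 h (by
    nth_rw 1 [← inv_eq_of_mul_eq_one_left (d.Z_el c hv _ h)]
    rw [← e, show (t⁻¹ * (z * t * z⁻¹))⁻¹ * t = z * t⁻¹ * z⁻¹ * (t * t) by group, c.t2, ti c.t2, ← mul_assoc t, c.t2, mul_one, one_mul])
  obtain ⟨r, rfl⟩ := exists_rt a
  have hr := d.fix_rt ha
  have := d.Nn_ct c hv v0 (mul_mem (inv_mem (d.Q_Nn c hv (Z_Qh (y_Zh v r)))) i) (conj_eq_iff.1 (by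
    rw [show (y (r • v))⁻¹ * z * t * ((y (r • v))⁻¹ * z)⁻¹ = (y (r • v))⁻¹ * (t * (t⁻¹ * (z * t * z⁻¹))) * y (r • v) by group, e, f,
      show tv ρ v (r * r) = tv ρ (r • v) 1 by rw [d.tvs hv (map_one σ), hr, mul_one], ← c.tw _ (by simp [hv])]; group))
  simpa using mul_mem (mem_sup_right (y_Zh (ρ := ρ) (y := y) v r)) (mem_sup_left this)
theorem la_eq (i : La ρ t y v z n) (j : La ρ t y v z' n) : z⁻¹ * z' ∈ im ρ (Q σ v) ⊔ Zh ρ y v := by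
  have h1 := d.la_mul c hv i i; have h2 := d.la_mul c hv i j
  rw [vv] at h1 h2
  simpa [mul_assoc] using mul_mem (inv_mem (d.la_M c hv v0 h1)) (d.la_M c hv v0 h2)
theorem Nn_eq : Nn (im ρ (Q σ v)) (Zh ρ y v) t = Qh ρ y v := le_antisymm (fun z i => by
  obtain ⟨n, j⟩ := d.la_ex c hv i
  obtain ⟨z', k, l, -⟩ := d.la_sur c hv j.2.choose_spec.1.nv
  simpa using mul_mem k (M_Qh (d.la_eq c hv v0 l j))) (d.Q_Nn c hv)
omit hv v0 c in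
theorem can (c : Yd ρ t y) (hv : hf σ v v = 0) (v0 : v ≠ 0) {z : X} (i : z ∈ 𝐂(Zh ρ y v))
    (e : ∀ r ∈ im ρ (Q σ v), ⁅z, r⁆ ∈ Zh ρ y v) (f : t * (z * t * z⁻¹) ∈ im ρ (Q σ v) ⊔ Zh ρ y v) : z ∈ Qh ρ y v :=
  (d.Nn_eq c hv v0).le ⟨i, e, by rwa [ti c.t2]⟩
theorem bZ (hu : hf σ u u = 0) (hw : hf σ w w = 0) (e : hf σ u v = 0) (e' : hf σ w v = 0) (i : ⁅bb y v u, bb y v w⁆ ∈ im ρ (Q σ v) ⊔ Zh ρ y v)
    (f : ∀ g ∈ Y σ v, ⁅bb y v u, bb y v w⁆⁻¹ * ⁅bb y v (g u), bb y v (g w)⁆ ∈ Zh ρ y v) : ⁅bb y v u, bb y v w⁆ ∈ Zh ρ y v := by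
  obtain ⟨n, ζ, o, s, k, h⟩ := (d.mem_M c hv).1 i
  obtain ⟨a, rfl⟩ := d.perp_perp1 (x := n) (v := v) fun x j => d.span_iso1 (p := fun x => hf σ n x = 0) (fun _ _ a b => by simp [a, b])
    (fun x a b => by
      have l : E σ x 0 1 ∈ Y σ v := ⟨tv_SU _ _, E_fix (d.sw b) (by simp) _⟩
      have h1 := f _ l
      have h2 := congrArg (fun a => up ρ (E σ x 0 1) * a * (up ρ (E σ x 0 1))⁻¹) h
      simp only [← MulAut.conj_apply, map_commutatorElement, map_mul] at h2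
      simp only [MulAut.conj_apply] at h2
      rw [d.beqv c l.1 hv hu (d.sw e), d.beqv c l.1 hv hw (d.sw e'), ← up_cj l.1 (d.E_SU _ _ _), E_cj1 (E_sem ..), (mem_Y.1 l).2,
        conj_eq_iff.2 (mem_centralizer_iff'.1 (d.Z_cY c hv (up_im l l.1)) _ k).symm] at h2
      have o' := o.cj (E_sem x 0 1)
      rw [(mem_Y.1 l).2] at o'
      rw [h2, h, _root_.mul_inv_rev, mul_assoc, mul_mem_cancel_left (inv_mem k), ← mul_assoc, mul_mem_cancel_right k,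
        ← up_inv (d.E_SU _ _ _), ← up_mul (inv_mem (d.E_SU _ _ _)) (d.E_SU _ _ _), E_inv o] at h1
      obtain ⟨r, h3, h4⟩ := d.upZ c hv v0 (mul_mem (d.E_SU _ _ _) (d.E_SU _ _ _)) (e2_of (d.Q_two hv) (mul_mem (E_Q _ _ _) (E_Q _ _ _))) h1
      obtain ⟨r', h5, -⟩ := d.E_inj (ok_tv d.iv hv h3) (o.inv.mul o') v0 (h4.symm.trans (E_mul o.inv o'))
      rw [E_ap (ok_tv d.iv a (map_one σ))] at h5
      simp only [smul_zero, add_zero, hf_zero_r, zero_add, one_mul, ← add_assoc, vv] at h5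
      by_contra z
      rw [← inv_smul_smul₀ z x, h5] at z
      simp [o.nv] at z) j
  have := E_shift (ζ := ζ + a + σ a) (by simpa [← add_smul, CharTwo.add_self_eq_zero] using o.shift a : Ok σ v 0 _) a
  rw [zero_add, show ζ + a + σ a + a + σ a = ζ by grind] at this
  rw [h, this]; exact mul_mem (tv_Zh _ _) k
omit hv v0 c in
theorem qab (c : Yd ρ t y) (hv : hf σ v v = 0) (v0 : v ≠ 0) : ⁅Qh ρ y v, Qh ρ y v⁆ ≤ Zh ρ y v ∧ Qh ρ y v ≤ 𝐂(Zh ρ y v) := by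
  refine ⟨?_, fun z i => (d.Q_Nn c hv i).1⟩
  rw [← d.Nn_eq c hv v0]
  obtain ⟨N, hN⟩ : ∃ N, N = Nn (im ρ (Q σ v)) (Zh ρ y v) t := ⟨_, rfl⟩
  have : ((Zh ρ y v).subgroupOf N).Normal := (normal_subgroupOf_iff_le_normalizer (hN ▸ Z_Qh.trans (d.Q_Nn c hv))).2
    fun z i => centralizer_le_normalizer _ (hN ▸ i).1
  let π := QuotientGroup.mk' ((Zh ρ y v).subgroupOf N)
  have k1 : ∀ z : N, π z = 1 ↔ z.1 ∈ Zh ρ y v := fun z => QuotientGroup.eq_one_iff z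
  have k2 : ∀ z : N, z.1 ∈ im ρ (Q σ v) ⊔ Zh ρ y v → π z ∈ center _ := fun z i => mem_center_iff.2 fun x => by
    obtain ⟨x, rfl⟩ := QuotientGroup.mk'_surjective _ x
    rw [← commutatorElement_eq_one_iff_mul_comm, ← map_commutatorElement]; exact (k1 _).2 (d.comM c hv (hN ▸ x.2) i)
  have k3 : ∀ z z' : N, (⁅z, z'⁆ : N).1 ∈ im ρ (Q σ v) ⊔ Zh ρ y v := fun z z' => by
    obtain ⟨n, i⟩ := d.la_ex c hv (hN.le (inv_mem z.2)); obtain ⟨n', j⟩ := d.la_ex c hv (hN.le (inv_mem z'.2))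
    simpa [commutatorElement_def, mul_assoc] using d.la_eq c hv v0 (d.la_mul c hv j i) (add_comm n n' ▸ d.la_mul c hv i j)
  have : ∀ n, ∃ z : N, hf σ n v = 0 → La ρ t y v z n ∧ (hf σ n n = 0 → z = bb y v n) := fun n => by
    by_cases e : hf σ n v = 0
    · obtain ⟨z, -, i⟩ := d.la_sur c hv e; exact ⟨⟨z, hN ▸ i.1.1⟩, fun _ => i⟩
    · exact ⟨1, fun k => absurd k e⟩
  choose φ hφ using this
  have co : ∀ x x', hf σ x x = 0 → hf σ x' x' = 0 → hf σ x v = 0 → hf σ x' v = 0 → (⁅φ x, φ x'⁆ : N).1 = ⁅bb y v x, bb y v x'⁆ :=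
    fun x x' a b e f => by rw [← (hφ x e).2 a, ← (hφ x' f).2 b]; rfl
  obtain ⟨f, -, h2⟩ := d.bf2 hv (fun n => π (φ n)) (fun a b => by
    obtain ⟨a, rfl⟩ := QuotientGroup.mk'_surjective _ a; obtain ⟨b, rfl⟩ := QuotientGroup.mk'_surjective _ b
    rw [← map_commutatorElement]; exact k2 _ (k3 a b)) (fun x x' i j => by
      rw [← map_mul, ← map_inv, ← map_mul]
      exact k2 _ (d.la_eq c hv v0 (d.la_mul c hv (hφ x i).1 (hφ x' j).1) (hφ _ (by simp [i, j])).1)) fun x x' a b e i j => by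
      obtain ⟨T, l, r, r', r''⟩ := d.ti3 hv a b (d.sw i) (d.sw j) e
      rw [← map_commutatorElement, k1, co x x' a b i j,
        commutatorElement_eq_one_iff_mul_comm.2 (d.bcm' c.y0 c.ci l r r'' r r').eq]; exact one_mem _
  have h3 : ∀ a, f a = 1 := fun a => by
    obtain ⟨u, w, h3, h4, h5, -, h6, -, rfl⟩ := d.exists_hyp hv hv hv a
    rw [← h2 u w h5 h6, ← map_commutatorElement, k1, co u w h3 h4 h5 h6]
    refine d.bZ c hv v0 h3 h4 h5 h6 (co u w h3 h4 h5 h6 ▸ k3 _ _) fun g i => ?_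
    have s := su_sem i.1
    have p : ∀ x, hf σ x v = 0 → hf σ (g x) v = 0 := fun x e => by rw [← e, ← s.form1 x v, (mem_Y.1 i).2]
    rw [← co u w h3 h4 h5 h6, ← co _ _ ((s.form1 ..).trans h3) ((s.form1 ..).trans h4) (p _ h5) (p _ h6), ← coe_inv, ← coe_mul, ← k1,
      map_mul, map_inv, map_commutatorElement, map_commutatorElement, h2 _ _ h5 h6, h2 _ _ (p _ h5) (p _ h6), s.form1, inv_mul_cancel]
  refine commutator_le.2 fun z i z' j => (k1 ⁅(⟨z, hN ▸ i⟩ : N), (⟨z', hN ▸ j⟩ : N)⁆).1 ?_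
  obtain ⟨n, i'⟩ := d.la_ex c hv i; obtain ⟨n', j'⟩ := d.la_ex c hv j
  have e := i'.2.choose_spec.1.nv; have e' := j'.2.choose_spec.1.nv
  have a := mem_center_iff.1 (k2 ((φ n)⁻¹ * ⟨z, hN ▸ i⟩) (d.la_eq c hv v0 (hφ n e).1 i'))
  have b := mem_center_iff.1 (k2 ((φ n')⁻¹ * ⟨z', hN ▸ j⟩) (d.la_eq c hv v0 (hφ n' e').1 j'))
  rw [← mul_inv_cancel_left (φ n) ⟨z, _⟩, ← mul_inv_cancel_left (φ n') ⟨z', _⟩, map_commutatorElement, map_mul, map_mul,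
    commutatorElement_eq_one_iff_commute]
  exact Commute.mul_left (Commute.mul_right (commutatorElement_eq_one_iff_commute.1 ((h2 _ _ e e').trans (h3 _))) (b _)) (a _).symm
end Dm

end CF.Ud
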