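import Cfsg.Agent.Ud.J2
import Cfsg.Agent.Ud.T0

/-! Doubled transvections: abstract tools. -/

set_option autoImplicit false
set_option linter.unusedSectionVars false
set_option linter.unusedVariables false

namespace CF.Ud

open Subgroup Equiv CF.Geom Module CF.Loc CF.LX CF.Dbl Sx Tx
open scoped commutatorElement

section ab
variable {X : Type*} [Group X] {B W : Subgroup X} {t g k g' w w' w'' : X}

/-- the centraliser of `B` in `C(t)` is `⟨t⟩ W` -/
structure Ab (B W : Subgroup X) (t : X) : Prop where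
  le : W ≤ B
  el : El W
  t2 : t * t = 1
  tB : t ∈ 𝐂(B)
  tW : t ∉ W
  wB : W ≤ 𝐂(B)
  ct : ∀ h ∈ 𝐂(B), h * t = t * h → h ∈ W ∨ t * h ∈ W

/-- `g` centralises `B` and moves `t` by `w` -/
structure Lm (B W : Subgroup X) (t g w : X) : Prop where
  c : g ∈ 𝐂(B)
  i : w ∈ W
  e : g * t * g⁻¹ = t * w

theorem five_c {a b c d e z : X} (h : a * b * c * d * e = 1) (z2 : z * z = 1) (cb : Commute z b) (cc : Commute z c) (cd : Commute z d)
    (ce : Commute z e) : a * z * (b * z) * (c * z) * (d * z) * (e * z) = z := by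
  simp only [mul_assoc, cb.left_comm, cc.left_comm, cd.left_comm, ce.left_comm] at h ⊢
  rw [z2, mul_one, z2, mul_one, ← mul_assoc d, ← mul_assoc c, ← mul_assoc b, ← mul_assoc a, h, one_mul]

namespace Ab
variable (a : Ab B W t)
include a
theorem cw (l : Lm B W t g w) (i : w' ∈ W) : g * w' = w' * g := (mem_centralizer_iff'.1 l.c _ (a.le i)).symm
theorem mul (l : Lm B W t g w) (l' : Lm B W t g' w') : Lm B W t (g * g') (w * w') := ⟨mul_mem l.c l'.c, mul_mem l.i l'.i, by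
  rw [show g * g' * t * (g * g')⁻¹ = g * (g' * t * g'⁻¹) * g⁻¹ by group, l'.e, conj_mul_conj, l.e, a.cw l l'.i]; group⟩
theorem inv (l : Lm B W t g w) : Lm B W t g⁻¹ w := ⟨inv_mem l.c, l.i, by
  rw [← l.e, ← (MulAut.conj g).injective.eq_iff]
  simp only [MulAut.conj_apply]
  rw [l.e, conj_mul_conj g t, l.e, a.cw l l.i, mul_inv_cancel_right, mul_assoc t, a.el w l.i]; group⟩
theorem ofW (i : g ∈ W) : Lm B W t g 1 := ⟨a.wB i, one_mem _, by rw [mem_centralizer_iff'.1 a.tB _ (a.le i)]; group⟩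
theorem lt : Lm B W t t 1 := ⟨a.tB, one_mem _, by group⟩
theorem one' (l : Lm B W t g 1) : g ∈ W ∨ t * g ∈ W := a.ct g l.c (conj_eq_iff.1 (l.e.trans (mul_one t)))
theorem mem (l : Lm B W t g 1) (l' : Lm B W t k w) (w1 : w ≠ 1) (c : k * g = g * k) : g ∈ W := (a.one' l).resolve_right fun i => w1 (by
  have := conj_eq_iff.2 (a.cw l' i)
  rwa [conj_mul_conj, l'.e, conj_eq_iff.2 c, mul_left_inj, mul_eq_left] at this)
theorem sq (l : Lm B W t g w) : g * g ∈ W := by
  by_cases w1 : w = 1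
  · subst w1
    have c := conj_eq_iff.1 (l.e.trans (mul_one t))
    obtain i | i := a.one' l
    · exact mul_mem i i
    · have := mul_mem i i
      rwa [mul_assoc, ← mul_assoc g, c, ← mul_assoc, ← mul_assoc, a.t2, one_mul] at this
  · exact a.mem (a.el w l.i ▸ a.mul l l) l w1 (mul_assoc ..).symm
theorem comm (l : Lm B W t g w) (l' : Lm B W t k w') : ⁅g, k⁆ ∈ W := by
  have := mul_mem (mul_mem (a.sq (a.mul l l')) (inv_mem (a.sq l'))) (inv_mem (a.sq l))
  rwa [show g * k * (g * k) * (k * k)⁻¹ * (g * g)⁻¹ = g * k * g⁻¹ * (k * (g * g))⁻¹ * (g * g * k) * k⁻¹ by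
    rw [← a.cw l' (a.sq l), show g * k * (g * k) * (k * k)⁻¹ * (g * g)⁻¹ = g * k * g * (g * g * k)⁻¹ by group, ← a.cw l' (a.sq l)]; group,
    a.cw l' (a.sq l), inv_mul_cancel_right] at this
theorem cl (l : Lm B W t g w) (l' : Lm B W t g' w') (l'' : Lm B W t k w'') : ⁅g * g', k⁆ = ⁅g, k⁆ * ⁅g', k⁆ := by
  rw [el_cm a.el (a.comm l l'') (a.comm l' l''), ← conj_eq_iff.2 (a.cw l (a.comm l' l''))]; group
theorem cr (l : Lm B W t g w) (l' : Lm B W t g' w') (l'' : Lm B W t k w'') : ⁅k, g * g'⁆ = ⁅k, g⁆ * ⁅k, g'⁆ := by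
  rw [← commutatorElement_inv, a.cl l l' l'', el_cm a.el (a.comm l l'') (a.comm l' l''), _root_.mul_inv_rev, commutatorElement_inv,
    commutatorElement_inv]
theorem ct' (l : Lm B W t g w) : ⁅t, g⁆ = w := by
  rw [commutatorElement_def, ti a.t2, mul_assoc, mul_assoc, ← mul_assoc g, l.e, ← mul_assoc, a.t2, one_mul]
end Ab
end ab

section alg
variable {K V M : Type*} [Field K] [CharP K 2] [AddCommGroup V] [Module K V] [AddCommGroup M] {Y τ : V → M} {p r s u v w : V} {c : K}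

/-- the sum over the non-zero vectors of a three-space over the prime field -/
def dl (Y : V → M) (p r v : V) : M := Y (p + r + v) + Y (p + r) + Y (p + v) + Y (r + v) + Y p + Y r + Y v

variable (K) in
/-- independent triples -/
def I3 (p r v : V) : Prop := ∀ a b c : K, a • p + b • r + c • v = 0 → a = 0 ∧ b = 0 ∧ c = 0

variable (K) in
include K in
theorem v2 (x : V) : x + x = 0 := by rw [← two_smul K, CharTwo.two_eq_zero, zero_smul]
theorem i3_iff : I3 K p r v ↔ LinearIndependent K ![p, r, v] := by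
  rw [Fintype.linearIndependent_iff]
  exact ⟨fun h g e => by simpa [Fin.forall_fin_succ] using h (g 0) (g 1) (g 2) (by simpa [Fin.sum_univ_three] using e),
    fun h a b c e => by simpa [Fin.forall_fin_succ] using h ![a, b, c] (by simpa [Fin.sum_univ_three] using e)⟩
theorem dl_12 (Y : V → M) (p r v : V) : dl Y p r v = dl Y r p v := by simp only [dl, add_comm r p]; abel
theorem dl_23 (Y : V → M) (p r v : V) : dl Y p r v = dl Y p v r := by simp only [dl, add_right_comm p r v, add_comm r v]; abel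
variable (K) in
include K in
theorem dl_sh (Y : V → M) (p r v : V) : dl Y (p + r) r v = dl Y p r v := by simp only [dl, add_assoc p r r, v2 K, add_zero]; abel
theorem alg0 (ind : ∀ p r v, I3 K p r v → dl Y p r v = 0) (e : ∀ x, τ x = Y x + Y x) (two : ∀ x, τ x + τ x = 0)
    (qu : ∀ p r v, dl τ p r v = 0) (h : I3 K u v w) (c0 : c ≠ 0) (c1 : 1 + c ≠ 0) : τ (u + v) + τ u + τ v = 0 := by
  have S : ∀ w, I3 K u v w → Y (u + c • u + v) - Y (u + c • u) - Y (u + v) - Y (c • u + v) + Y u + Y (c • u) + Y v =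
      τ (u + c • u + v) - τ (c • u + w) - τ (c • u + v) - τ (u + v) - τ (c • u + w + v) := fun w h => by
    have h1 := ind (u + c • u) w v fun a b f k => by have := h (a * (1 + c)) f b (by rw [← k]; module); grind
    have h2 := ind u (c • u + w) v fun a b f k => by have := h (a + b * c) f b (by rw [← k]; module); grind
    have h3 := ind (c • u) w v fun a b f k => by have := h (a * c) f b (by rw [← k]; module); grind
    simp only [dl, ← add_assoc u, e] at *
    linear_combination (norm := abel) h3 + h2 - h1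
  have h1 := S w h
  have h2 := S (w + u) fun a b f k => by have := h (a + f) b f (by rw [← k]; module); grind
  have h3 := qu (c • u + w) u v
  simp only [dl, ← add_assoc] at *
  linear_combination (norm := abel) h3 - two (c • u + w) - two (c • u + w + v) + h1 - h2
theorem alg1 (ind : ∀ p r v, I3 K p r v → dl Y p r v = 0) (z : Y 0 = 0) (two : ∀ x, Y x + Y x = 0)
    (ex : ∀ p r v : V, ¬ I3 K p r v → ∃ s, ∀ a b c : K, s ≠ a • p + b • r + c • v) (p r v : V) : dl Y p r v = 0 := by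
  have co : ∀ p r s v, dl Y (p + r) s v = 0 → dl Y p (r + s) v = 0 → dl Y r s v = 0 → dl Y p r v = 0 := fun p r s v h1 h2 h3 => by
    simp only [dl, ← add_assoc] at *
    linear_combination (norm := abel) h1 + h2 + h3 - two (p + r + s + v) - two (p + r + s) - two (s + v) - two s - two v -
      two (r + s + v) - two (r + s)
  have z1 : ∀ r v, dl Y 0 r v = 0 := fun r v => by
    simp only [dl, zero_add, z]; linear_combination (norm := abel) two (r + v) + two r + two v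
  have i3 : ∀ x s v : V, x ≠ 0 → (∀ a : K, v ≠ a • x) → (∀ a b : K, s ≠ a • x + b • v) → I3 K x s v := fun x s v x0 h1 h2 a b c k => by
    obtain rfl : b = 0 := by_contra fun n => h2 (-a / b) (-c / b) (smul_right_injective V n (by
      linear_combination (norm := match_scalars <;> field_simp <;> ring) k))
    obtain rfl : c = 0 := by_contra fun n => h1 (-a / c) (smul_right_injective V n (by
      linear_combination (norm := match_scalars <;> field_simp <;> ring) k))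
    simpa [x0] using k
  have B : ∀ p r v, (∀ a b : K, v ≠ a • p + b • r) → dl Y p r v = 0 := fun p r v h => by
    by_cases p0 : p = 0
    · rw [p0, z1]
    by_cases r0 : r = 0
    · rw [r0, dl_12, z1]
    by_cases s0 : p + r = 0
    · rw [← dl_sh K, s0, z1]
    by_contra n
    obtain ⟨s, k⟩ := ex p r v (mt (ind _ _ _) n)
    exact n (co p r s v (ind _ _ _ (i3 _ _ _ s0 (fun a => smul_add a p r ▸ h a a) fun a b => smul_add a p r ▸ k a a b))
      (ind _ _ _ (i3 _ _ _ p0 (fun a => by simpa using h a 0) fun a b f => k a (-1) b (by linear_combination (norm := module) f)))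
      (ind _ _ _ (i3 _ _ _ r0 (fun a => by simpa using h 0 a) fun a b => by simpa using k 0 a b)))
  by_contra n
  obtain ⟨s, k⟩ := ex p r v (mt (ind _ _ _) n)
  exact n (co p r s v (dl_23 Y _ _ _ ▸ B _ _ _ fun a b => smul_add a p r ▸ k a a b)
    (dl_23 Y _ _ _ ▸ B _ _ _ fun a b f => k a (-1) b (by linear_combination (norm := module) f))
    (dl_23 Y _ _ _ ▸ B _ _ _ fun a b => by simpa using k 0 a b))
theorem ex3 [Module.Finite K V] (h : 3 ≤ finrank K V) (p r v : V) (n : ¬ I3 K p r v) : ∃ s, ∀ a b c : K, s ≠ a • p + b • r + c • v := by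
  by_contra! z
  refine n (i3_iff.2 (linearIndependent_of_top_le_span_of_card_eq_finrank (fun s _ => ?_) (le_antisymm h ?_)))
  · obtain ⟨a, b, c, rfl⟩ := z s
    refine add_mem (add_mem ?_ ?_) ?_ <;> refine Submodule.smul_mem _ _ (Submodule.subset_span ?_) <;> simp
  · refine finrank_le_of_span_eq_top (v := ![p, r, v]) (eq_top_iff.2 fun s _ => ?_)
    obtain ⟨a, b, c, rfl⟩ := z s
    refine add_mem (add_mem ?_ ?_) ?_ <;> refine Submodule.smul_mem _ _ (Submodule.subset_span ?_) <;> simp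
end alg

variable {K : Type} [Field K] [Fintype K] [CharP K 2] {m q : ℕ} {σ θ : K ≃+* K} {a b c a' b' c' ζ ω : K}
  {g p k ξ w w' : Perm (Fin m → K)} {u v x n u' v' : Fin m → K} {T T' S : Submodule K (Fin m → K)}
  {X : Type*} [Group X] [Finite X] {ρ : SU σ m →* X} {t h : X} {y : (Fin m → K) → X}

variable (σ) in
/-- independent orthogonal isotropic pairs -/
structure Ip (u v : Fin m → K) : Prop where
  uu : hf σ u u = 0
  vv : hf σ v v = 0
  uv : hf σ u v = 0
  vu : hf σ v u = 0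
  li : LinearIndependent K ![u, v]

theorem Ip.symm (h : Ip σ u v) : Ip σ v u := ⟨h.vv, h.uu, h.vu, h.uv, LinearIndependent.pair_symm_iff.1 h.li⟩
theorem Ip.comb (h : Ip σ u v) (e : a * b' ≠ a' * b) : Ip σ (a • u + b • v) (a' • u + b' • v) :=
  ⟨by simp [h.1, h.2, h.3, h.4], by simp [h.1, h.2, h.3, h.4], by simp [h.1, h.2, h.3, h.4], by simp [h.1, h.2, h.3, h.4],
    LinearIndependent.pair_iff.2 fun s t f => by
      have := li_eq h.li (a := s * a + t * a') (b := s * b + t * b') (a' := 0) (b' := 0) (by rw [zero_smul, zero_smul, add_zero, ← f]; module)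
      grind⟩
theorem Ip.cj (h : Ip σ u v) (s : Sem σ 1 g) : Ip σ (g u) (g v) :=
  ⟨(s.form1 ..).trans h.1, (s.form1 ..).trans h.2, (s.form1 ..).trans h.3, (s.form1 ..).trans h.4,
    LinearIndependent.pair_iff.2 fun a b f => LinearIndependent.pair_iff.1 h.li a b (g.injective (by rw [s.add, s.smul1, s.smul1, f, s.zero]))⟩
theorem Ip.u0 (h : Ip σ u v) : u ≠ 0 := h.li.ne_zero 0
theorem Ip.ti (h : Ip σ u v) : Ti σ (Submodule.span K {u, v}) := fun x i z j => by
  obtain ⟨_, _, rfl⟩ := Submodule.mem_span_pair.1 i; obtain ⟨_, _, rfl⟩ := Submodule.mem_span_pair.1 j; simp [h.1, h.2, h.3, h.4]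
theorem mem_l (u v : Fin m → K) : u ∈ Submodule.span K {u, v} := Submodule.subset_span (by simp)
theorem mem_r (u v : Fin m → K) : v ∈ Submodule.span K {u, v} := Submodule.subset_span (by simp)

variable (σ) in
/-- the general element of `WX ⟨u, v⟩` -/
noncomputable def E3 (u v : Fin m → K) (a b c : K) : Perm (Fin m → K) := E σ u 0 a * E σ v 0 b * E σ u (c • v) 0

theorem E3_W (hu : u ∈ T) (hv : v ∈ T) (a b c : K) : E3 σ u v a b c ∈ WX σ T :=
  mul_mem (mul_mem (E_W hu (zero_mem _) _) (E_W hv (zero_mem _) _)) (E_W hu (T.smul_mem _ hv) _)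
theorem E3_cj (s : Sem σ 1 g) (u v : Fin m → K) (a b c : K) : g * E3 σ u v a b c * g⁻¹ = E3 σ (g u) (g v) a b c := by
  simp only [E3, conj_mul_conj, E_cj1 s, s.zero, s.smul1]

variable (σ) in
/-- Eichler transformations fixing `T` -/
def RT (T : Submodule K (Fin m → K)) : Subgroup (Perm (Fin m → K)) :=
  closure {g | ∃ v ∈ T, ∃ n ζ, (∀ x ∈ T, hf σ x n = 0) ∧ g = E σ v n ζ}

namespace Dm
variable (d : Dm σ q m)
include d
theorem E3_ap' (h : Ip σ u v) (ha : σ a = a) (hb : σ b = b) (x : Fin m → K) :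
    E3 σ u v a b c x = x + (a * hf σ x u + σ c * hf σ x v) • u + (c * hf σ x u + b * hf σ x v) • v := E3_ap d.iv h.1 h.2 h.3 ha hb x
theorem E3_mul (h : Ip σ u v) (ha : σ a = a) (hb : σ b = b) (ha' : σ a' = a') (hb' : σ b' = b') :
    E3 σ u v a b c * E3 σ u v a' b' c' = E3 σ u v (a + a') (b + b') (c + c') := Equiv.ext fun x => by
  rw [Perm.mul_apply, d.E3_ap' h ha hb, d.E3_ap' h ha' hb', d.E3_ap' h (by simp [*]) (by simp [*])]
  simp only [hf_add_l, hf_smul_l, h.1, h.2, h.3, h.4, map_add]; module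
theorem E3_smul (h : Ip σ u v) (ha : σ a = a) (hb : σ b = b) {r s : K} (r0 : r ≠ 0) (s0 : s ≠ 0) :
    E3 σ (r • u) (s • v) a b c = E3 σ u v (r * σ r * a) (s * σ s * b) (σ r * s * c) := Equiv.ext fun x => by
  rw [d.E3_ap' (by simpa using h.comb (a := r) (b := 0) (a' := 0) (b' := s) (by simp [*])) ha hb,
    d.E3_ap' h (by simp [ha, d.iv r, mul_comm]) (by simp [hb, d.iv s, mul_comm])]
  simp only [hf_smul_r, map_mul, d.iv r]; module
theorem E3_swap (h : Ip σ u v) (ha : σ a = a) (hb : σ b = b) : E3 σ v u a b c = E3 σ u v b a (σ c) := Equiv.ext fun x => by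
  rw [d.E3_ap' h.symm ha hb, d.E3_ap' h hb ha, d.iv]; module
theorem E3_inj (h : Ip σ u v) (k : Ker ρ) (ha : σ a = a) (hb : σ b = b) (ha' : σ a' = a') (hb' : σ b' = b')
    (e : up ρ (E3 σ u v a b c) = up ρ (E3 σ u v a' b' c')) : a = a' ∧ b = b' ∧ c = c' := by
  have w := fun a b c => E3_W (σ := σ) (mem_l u v) (mem_r u v) a b c
  have := d.w2inj (a := a + a') (b := b + b') (c := c + c') h.li h.1 h.2 h.3 (by simp [*]) (by simp [*]) (by
    rw [← E3, ← d.E3_mul h ha hb ha' hb', d.up_inj k (d.W_two h.ti) (d.W_SU h.ti) (w ..) (w ..) e, W_sq h.ti (w ..)])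
  simpa only [CharTwo.add_eq_zero] using this
theorem ex_ip : ∃ u v : Fin m → K, Ip σ u v := by
  obtain ⟨u, a, v, b, r⟩ := exists_li (T := Vf K m (m / 2)) (by have := d.l3; rw [d.Vl_dim]; omega)
  have t := Vf_ti (σ := σ) (m := m) le_rfl
  exact ⟨u, v, t _ a _ a, t _ b _ b, t _ a _ b, t _ b _ a, r⟩
theorem wconst (Φ : (Fin m → K) → (Fin m → K) → X)
    (eqv : ∀ g ∈ SU σ m, ∀ u v, Ip σ u v → up ρ g * Φ u v * (up ρ g)⁻¹ = Φ (g u) (g v))
    (mem : ∀ u v, Ip σ u v → Φ u v ∈ im ρ (WX σ (Submodule.span K {u, v}))) :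
    ∃ a b c, σ a = a ∧ σ b = b ∧ ∀ u v, Ip σ u v → Φ u v = up ρ (E3 σ u v a b c) := by
  obtain ⟨u, v, h⟩ := d.ex_ip
  obtain ⟨w, i, j, e⟩ := mem_im.1 (mem u v h)
  obtain ⟨a, b, c, ha, hb, rfl⟩ := d.W2 h.li h.1 h.2 h.3 i
  refine ⟨a, b, c, ha, hb, fun u' v' k => ?_⟩
  obtain ⟨g, l, rfl, rfl⟩ := d.witt2 h.li k.li (h.1.trans k.1.symm) (h.2.trans k.2.symm) (h.3.trans k.3.symm)
  rw [← eqv g l u v h, ← e, ← up_cj l j, ← E3_cj (su_sem l)]; rfl
theorem W_RT (l : Ti σ T) : WX σ T ≤ RT σ T := d.W_gen l fun v i => subset_closure ⟨v, i, 0, 1, by simp, rfl⟩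
theorem RT_Y (l : Ti σ T) (i : v ∈ T) : RT σ T ≤ Y σ v := (closure_le _).2 fun _ ⟨u, j, n, ζ, k, e⟩ =>
  e ▸ ⟨d.E_SU _ _ _, E_fix (l _ i _ j) (k _ i) _⟩
theorem tL' (c : CS ρ t) : t ∉ ρ.range := fun i => c.t1 (d.s_cen2 c.ker i c.cm (e2_inv c.t2))
theorem cs_sc (c : CS ρ t) (l : Sem σ θ ξ) (i : Ind ρ h ξ) (j : h ∈ 𝐂₁(t)) (hw : w ∈ SU σ m) (e : ∀ x, ξ x = a • w x) :
    h = up ρ w ∨ t * h = up ρ w := by
  have s := su_sem (inv_mem hw)
  have k := (d.ind_cen c.ker (mul_mem ⟨_, s⟩ ⟨_, l⟩) (Ind.mul l (ind_up (inv_mem hw)) i)).2 ⟨a, fun x => by rw [Perm.mul_apply, e, s.smul1]; simp⟩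
  have f := mem_centralizer_iff'.1 c.cm _ (up_range (φ := ρ) w)
  rw [up_inv hw] at k
  refine (c.cen _ (mem_inf.2 ⟨mul_mem (inv_mem (mem_c1.2 f)) j, k⟩)).imp (fun e => (inv_mul_eq_one.1 e).symm) fun e => ?_
  rw [inv_mul_eq_iff_eq_mul.1 e, f, ← mul_assoc, c.t2, one_mul]
theorem ab (c : CS ρ t) (l : Ti σ T) (T0 : T ≠ ⊥) : Ab (im ρ (RT σ T)) (im ρ (WX σ T)) t := by
  refine ⟨im_mono (d.W_RT l), el_im (d.W_el l), c.t2, centralizer_anti im_le c.cm, mt (im_le ·) (d.tL' c), fun x i => ?_, fun h i e => ?_⟩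
  · obtain ⟨w, i', j, rfl⟩ := mem_im.1 i
    exact im_cent j (le_centralizer_iff.1 (show RT σ T ≤ _ from (closure_le _).2 fun _ ⟨u, j, n, ζ, k, e⟩ =>
      e ▸ d.W_cent l (E_sem ..) fun x i => E_fix (l _ i _ j) (k _ i) _) i')
  obtain ⟨ξ, ⟨θ, s⟩, j⟩ := d.ind_of c.ker (c.ct (mem_c1.2 e))
  obtain ⟨a, w, k, -, f⟩ := d.cX l T0 ⟨_, s⟩ fun v r n a r' => icm d c.ker s j (d.E_SU _ _ _) (e2_E ..)
    (mem_centralizer_iff'.1 i _ (up_im (subset_closure ⟨v, r, n, a, r', rfl⟩) (d.E_SU _ _ _))).symm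
  obtain e | e := d.cs_sc c s j (mem_c1.2 e) (d.W_SU l k) f
  exacts [.inl (e ▸ up_im k (d.W_SU l k)), .inr (e ▸ up_im k (d.W_SU l k))]
theorem ex_T (l : Ti σ S) : ∃ T, Ti σ T ∧ S ≤ T ∧ finrank K T = m / 2 := by
  obtain ⟨g, a, b⟩ := d.wittX l
  have s := su_sem a
  exact ⟨(Vf K m (m / 2)).comap (lin s), fun x i y j => s.form1 x y ▸ Vf_ti le_rfl _ i _ j,
    fun x i => Vf_mono (d.ti_le l) ((b x).1 i), (dim_eq g fun _ => .rfl).trans d.Vl_dim⟩
end Dm

end CF.Ud
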