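import Cfsg.Agent.Ud.P1

/-! Doubled transvections: construction. -/

set_option autoImplicit false
set_option linter.unusedSectionVars false
set_option linter.unusedVariables false

namespace CF.Ud

open Subgroup Equiv CF.Geom Module CF.Loc CF.LX CF.Dbl Sx Tx
open scoped commutatorElement IsMulCommutative

variable {K : Type} [Field K] [Fintype K] [CharP K 2] {m q : ℕ} {σ θ : K ≃+* K} {a b a' b' ζ ω : K}
  {g p k ξ w w' : Perm (Fin m → K)} {u v x n u' v' : Fin m → K} {T T' S : Submodule K (Fin m → K)}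
  {X : Type*} [Group X] [Finite X] {ρ : SU σ m →* X} {t h : X} {y : (Fin m → K) → X}

/-- first step -/
structure Y0 (ρ : SU σ m →* X) (t : X) (y : (Fin m → K) → X) : Prop extends CS ρ t where
  zero : y 0 = 1
  eqv : ∀ g ∈ SU σ m, ∀ v, hf σ v v = 0 → up ρ g * y v * (up ρ g)⁻¹ = y (g v)
  tw : ∀ v, hf σ v v = 0 → y v * t * (y v)⁻¹ = t * tv ρ v 1

theorem tv_seven (s : Iv σ) (l : Ti σ T) (hu : u ∈ T) (hv : v ∈ T) (hx : x ∈ T) (e : σ a = a) :
    E σ (u + v + x) 0 a * E σ (u + v) 0 a * E σ (u + x) 0 a * E σ (v + x) 0 a * E σ u 0 a * E σ v 0 a * E σ x 0 a = 1 :=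
  Equiv.ext fun z => by
  have o := fun y (i : y ∈ T) => E_ap (ok_tv s (l _ i _ i) e)
  simp only [Perm.mul_apply, o _ hu, o _ hv, o _ hx, o _ (add_mem hu hv), o _ (add_mem hu hx), o _ (add_mem hv hx),
    o _ (add_mem (add_mem hu hv) hx), hf_add_l, hf_add_r, hf_smul_l, l _ hu _ hu, l _ hu _ hv, l _ hu _ hx, l _ hv _ hu, l _ hv _ hv,
    l _ hv _ hx, l _ hx _ hu, l _ hx _ hv, l _ hx _ hx]
  ext i; simp; grind
theorem tv_cm (c : t ∈ 𝐂(ρ.range)) (g : Perm (Fin m → K)) : up ρ g * t = t * up ρ g := mem_centralizer_iff'.1 c _ (up_range g)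
theorem Y0.cY (c : Y0 ρ t y) (hv : hf σ v v = 0) : y v ∈ 𝐂(im ρ (Y σ v)) := fun x i => by
  obtain ⟨g, j, k, rfl⟩ := mem_im.1 i
  exact conj_eq_iff.1 ((c.eqv g k v hv).trans (congrArg y j.2))
open _root_.Classical in
theorem Y0.flip (c : Y0 ρ t y) : Y0 ρ t fun v => if v = 0 then 1 else y v * t := ⟨c.toCS, if_pos rfl, fun g i v hv => by
  by_cases z : v = 0
  · simp [z, (su_sem i).zero]
  · rw [if_neg z, if_neg ((su_sem i).ne z), conj_mul_conj, c.eqv g i v hv, tv_cm c.cm, mul_inv_cancel_right], fun v hv => by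
  by_cases z : v = 0
  · simp [z, tv, E_zero_v]
  · rw [if_neg z, ← c.tw v hv]; group⟩

namespace Dm
variable (d : Dm σ q m)
include d
theorem y0 (c : CS ρ t) : ∃ y, Y0 ρ t y := by
  classical
  obtain ⟨x, i, e⟩ := c.ex
  choose! γ h1 h2 using fun v (h : hf σ v v = 0 ∧ v ≠ 0) => d.witt1 d.b00 d.b0 h.1 h.2
  refine ⟨fun v => if v = 0 then 1 else up ρ (γ v) * x * (up ρ (γ v))⁻¹, c, if_pos rfl, fun g j v hv => ?_, fun v hv => ?_⟩ <;>
    by_cases z : v = 0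
  · simp [z, (su_sem j).zero]
  · have k : hf σ (g v) (g v) = 0 ∧ g v ≠ 0 := ⟨((su_sem j).form1 ..).trans hv, (su_sem j).ne z⟩
    have s := mul_mem (inv_mem (h1 _ k)) (mul_mem j (h1 v ⟨hv, z⟩))
    have := mem_centralizer_iff'.1 i _ (up_im ⟨s, show (γ (g v))⁻¹ (g (γ v (bv 0))) = bv 0 by
      rw [h2 v ⟨hv, z⟩, Perm.inv_eq_iff_eq, h2 _ k]⟩ s)
    rw [up_mul (inv_mem (h1 _ k)) (mul_mem j (h1 v ⟨hv, z⟩)), up_inv (h1 _ k), up_mul j (h1 v ⟨hv, z⟩), ← conj_eq_iff] at this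
    rw [if_neg z, if_neg k.2]; nth_rw 2 [← this]; group
  · simp [z, tv, E_zero_v]
  · rw [if_neg z, show ∀ a : X, a * x * a⁻¹ * t * (a * x * a⁻¹)⁻¹ = a * (x * (a⁻¹ * t * a) * x⁻¹) * a⁻¹ from fun a => by group,
      mul_assoc _ t, ← tv_cm c.cm, inv_mul_cancel_left, e, conj_mul_conj, tv_cm c.cm, mul_inv_cancel_right,
      ← up_cj (h1 v ⟨hv, z⟩) (tv_SU _ _), tv_cj1 (su_sem (h1 v ⟨hv, z⟩)), h2 v ⟨hv, z⟩]
theorem lm (c : Y0 ρ t y) (l : Ti σ T) (i : v ∈ T) : Lm (im ρ (RT σ T)) (im ρ (WX σ T)) t (y v) (tv ρ v 1) :=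
  ⟨centralizer_anti (im_mono (d.RT_Y l i)) (c.cY (l _ i _ i)), up_im (E_W i (zero_mem _) _) (tv_SU _ _), c.tw v (l _ i _ i)⟩
theorem nrm0 (c : Y0 ρ t y) (hv : hf σ v v = 0) (e : a * σ a = 1) : y (a • v) = y v := by
  by_cases z : v = 0
  · simp [z]
  have a0 : a ≠ 0 := left_ne_zero_of_mul_eq_one e
  have l := d.ti_one hv
  have A := d.ab c.toCS l (by simpa)
  have i := Submodule.mem_span_singleton_self (R := K) v
  obtain ⟨g, j, k⟩ := d.witt1 hv z (v := a • v) (by simp [hv]) (smul_ne_zero a0 z)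
  have h1 := A.mul (A.inv (d.lm c l i)) (d.lm c l (Submodule.smul_mem _ a i))
  rw [tv, tv, tv_smul d.iv hv (map_one σ), e, one_mul, ← up_mul (tv_SU _ _) (tv_SU _ _), tv_sq, up_one] at h1
  have cg : ∀ x ∈ im ρ (WX σ (Submodule.span K {v})), up ρ g * x = x * up ρ g := fun x i => by
    obtain ⟨w, i', j', rfl⟩ := mem_im.1 i
    obtain ⟨b, r, rfl⟩ := (mem_Z d.iv hv).1 (d.W_line hv ▸ i')
    rw [← conj_eq_iff, ← up_cj j j', tv_cj1 (su_sem j), k, tv_smul d.iv hv r, e, one_mul]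
  obtain ⟨s, hs⟩ : ∃ s, y (a • v) = y v * s := ⟨_, (mul_inv_cancel_left _ _).symm⟩
  rw [hs, inv_mul_cancel_left] at h1
  have h2 : up ρ g * s = s * up ρ g ∧ s * s = 1 := by
    obtain f | f := A.one' h1
    · exact ⟨cg _ f, A.el _ f⟩
    have := cg _ f
    rw [← mul_assoc, tv_cm c.cm, mul_assoc, mul_assoc, mul_right_inj] at this
    refine ⟨this, ?_⟩
    have := A.el _ f
    rwa [mul_assoc, ← mul_assoc s, conj_eq_iff.1 (h1.e.trans (mul_one t)), ← mul_assoc, ← mul_assoc, A.t2, one_mul] at this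
  have h3 : ∀ n : ℕ, y (a ^ n • v) = y v * s ^ n := fun n => by
    induction n with
    | zero => simp
    | succ n ih =>
      have := c.eqv g j (a ^ n • v) (by simp [hv])
      rw [(su_sem j).smul1, k, smul_smul, ← pow_succ, ih, conj_mul_conj, c.eqv g j v hv, k, hs,
        ((show Commute _ _ from h2.1).pow_right n).eq, mul_inv_cancel_right] at this
      rw [← this, pow_succ', mul_assoc]
  have := h3 (q + 1)
  rw [(d.odd e).2, one_smul, left_eq_mul] at this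
  rw [hs, (e2_inv h2.2).odd d.oddq this, mul_one]
theorem kap (c : Y0 ρ t y) : ∃ κ, σ κ = κ ∧ ∀ v, hf σ v v = 0 → y v * y v = tv ρ v κ := by
  have l := d.ti_one d.b00
  obtain ⟨w, i, j, e⟩ := mem_im.1 ((d.ab c.toCS l (by simpa using d.b0)).sq (d.lm c l (Submodule.mem_span_singleton_self _)))
  obtain ⟨b, r, rfl⟩ := (mem_Z d.iv d.b00).1 (d.W_line d.b00 ▸ i)
  refine ⟨b, r, fun v hv => ?_⟩
  by_cases z : v = 0
  · simp [z, c.zero, tv, E_zero_v]
  obtain ⟨g, k, rfl⟩ := d.witt1 d.b00 d.b0 hv z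
  rw [← c.eqv g k _ d.b00, ← conj_mul_conj, ← e, ← up_cj k j, tv_cj1 (su_sem k)]
theorem ab2 (c : CS ρ t) (h : Ip σ u v) : Ab (im ρ (RT σ (Submodule.span K {u, v}))) (im ρ (WX σ (Submodule.span K {u, v}))) t :=
  d.ab c h.ti fun z => h.u0 (by simpa [z] using mem_l u v)
theorem alp (c : Y0 ρ t y) : ∃ α, σ α = α ∧ ∀ u v, Ip σ u v → ⁅y u, y v⁆ = tv ρ u α * tv ρ v α := by
  obtain ⟨α, β, γ, ha, hb, f⟩ := d.wconst (ρ := ρ) (fun u v => ⁅y u, y v⁆) (fun g i u v h => by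
    rw [← c.eqv g i u h.1, ← c.eqv g i v h.2]; group) fun u v h =>
    (d.ab2 c.toCS h).comm (d.lm c h.ti (mem_l u v)) (d.lm c h.ti (mem_r u v))
  obtain ⟨u, v, h⟩ := d.ex_ip
  obtain ⟨s, s1, s2⟩ := d.one
  have s0 : s ≠ 0 := left_ne_zero_of_mul_eq_one s1
  have h1 := f (s • u) ((1 : K) • v) (by simpa using h.comb (a := s) (b := 0) (a' := 0) (b' := 1) (by simpa))
  rw [d.E3_smul h ha hb s0 one_ne_zero, one_smul, d.nrm0 c h.1 s1, f u v h] at h1
  obtain rfl : γ = 0 := by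
    have := (d.E3_inj h c.ker ha hb (by simp [s1, ha]) (by simpa) h1).2.2
    have : σ s ≠ 1 := fun e => s2 (by simpa [e] using s1)
    grind
  have h2 := f v u h.symm
  rw [← commutatorElement_inv, f u v h, d.E3_swap h ha hb, inv_eq_of_mul_eq_one_left ((d.ab2 c.toCS h).el _
    (up_im (E3_W (mem_l u v) (mem_r u v) ..) (d.W_SU h.ti (E3_W (mem_l u v) (mem_r u v) ..))))] at h2
  obtain rfl := (d.E3_inj h c.ker ha hb hb ha h2).1
  exact ⟨α, ha, fun u v h => by rw [f u v h, ← up_mul (tv_SU _ _) (tv_SU _ _)]; simp [E3]⟩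
theorem g5 (c : Y0 ρ t y) (l : Ti σ T) (T0 : T ≠ ⊥) (hu : u ∈ T) (hv : v ∈ T) (o : ω + σ ω = 1) :
    Lm (im ρ (RT σ T)) (im ρ (WX σ T)) t (y v * y (u + v) * y (ω • u + v) * y (σ ω • u + v) * y u) 1 := by
  have A := d.ab c.toCS l T0
  have := A.mul (A.mul (A.mul (A.mul (d.lm c l hv) (d.lm c l (add_mem hu hv))) (d.lm c l (add_mem (T.smul_mem ω hu) hv)))
    (d.lm c l (add_mem (T.smul_mem (σ ω) hu) hv))) (d.lm c l hu)
  rwa [tv, tv, tv, tv, ← up_mul (tv_SU _ _) (tv_SU _ _), ← up_mul (mul_mem (tv_SU _ _) (tv_SU _ _)) (tv_SU _ _),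
    ← up_mul (mul_mem (mul_mem (tv_SU _ _) (tv_SU _ _)) (tv_SU _ _)) (tv_SU _ _), tv_five d.iv (l _ hu _ hu) (l _ hv _ hv) (l _ hu _ hv)
    (map_one σ) o, ← up_mul (tv_SU _ _) (tv_SU _ _), tv_sq, up_one] at this
theorem ex3 : ∃ u : Fin 3 → Fin m → K, LinearIndependent K u ∧ ∀ i j, hf σ (u i) (u j) = 0 :=
  ⟨_, li_bv (by have := d.hm; omega), fun i j => Vf_ti d.l3 _ (bv_mem i.2) _ (bv_mem j.2)⟩
theorem y1 (c : CS ρ t) : ∃ y, Y0 ρ t y ∧ ∀ u v, Ip σ u v → y u * y v = y v * y u := by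
  classical
  obtain ⟨y, c⟩ := d.y0 c
  obtain ⟨α, ha, f⟩ := d.alp c
  obtain ⟨u, r, e⟩ := d.ex3
  obtain ⟨ω, o⟩ := d.om
  have l := ti_span e
  have mT : ∀ j, u j ∈ Submodule.span K (Set.range u) := fun j => Submodule.subset_span ⟨j, rfl⟩
  have T0 : Submodule.span K (Set.range u) ≠ ⊥ := fun z => r.ne_zero 0 (by simpa [z] using mT 0)
  have A := d.ab c.toCS l T0
  have i3 : I3 K (u 0) (u 1) (u 2) := i3_iff.2 (by rwa [show ![u 0, u 1, u 2] = u by ext1 i; fin_cases i <;> rfl])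
  have ip : ∀ a b : K, (a = 0 → b ≠ 0) → ⁅y (a • u 0 + b • u 1), y (u 2)⁆ = tv ρ (a • u 0 + b • u 1) α * tv ρ (u 2) α := fun a b n =>
    f _ _ ⟨by simp [e], e _ _, by simp [e], by simp [e], LinearIndependent.pair_iff.2 fun s s' k => by
      have := i3 (s * a) (s * b) s' (by rw [← k]; module); grind⟩
  have m := fun a : K => d.lm c l (add_mem (Submodule.smul_mem _ a (mT 0)) (mT 1))
  have m1 := d.lm c l (add_mem (mT 0) (mT 1))
  have h1 := d.g5 c l T0 (mT 0) (mT 1) o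
  have h2 : ⁅y (u 1) * y (u 0 + u 1) * y (ω • u 0 + u 1) * y (σ ω • u 0 + u 1) * y (u 0), y (u 2)⁆ = tv ρ (u 2) α := by
    have k := fun x (i : x ∈ Submodule.span K (Set.range u)) => up_im (φ := ρ) (E_W i (zero_mem _) α) (tv_SU _ _)
    have n := d.lm c l (mT 2)
    rw [A.cl (A.mul (A.mul (A.mul (d.lm c l (mT 1)) m1) (m _)) (m _)) (d.lm c l (mT 0)) n, A.cl (A.mul (A.mul (d.lm c l (mT 1)) m1) (m _))
      (m _) n, A.cl (A.mul (d.lm c l (mT 1)) m1) (m _) n, A.cl (d.lm c l (mT 1)) m1 n]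
    have a1 := ip 0 1 (by simp); have a2 := ip 1 1 (by simp); have a3 := ip ω 1 (by simp); have a4 := ip (σ ω) 1 (by simp)
    have a5 := ip 1 0 (by simp)
    simp only [one_smul, zero_smul, zero_add, add_zero] at a1 a2 a3 a4 a5
    rw [a1, a2, a3, a4, a5]
    refine five_c ?_ (A.el _ (k _ (mT 2))) (el_cm A.el (k _ (mT 2)) (k _ (add_mem (mT 0) (mT 1))))
      (el_cm A.el (k _ (mT 2)) (k _ (add_mem (Submodule.smul_mem _ _ (mT 0)) (mT 1))))
      (el_cm A.el (k _ (mT 2)) (k _ (add_mem (Submodule.smul_mem _ _ (mT 0)) (mT 1)))) (el_cm A.el (k _ (mT 2)) (k _ (mT 0)))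
    rw [tv, tv, tv, tv, ← up_mul (tv_SU _ _) (tv_SU _ _), ← up_mul (mul_mem (tv_SU _ _) (tv_SU _ _)) (tv_SU _ _),
      ← up_mul (mul_mem (mul_mem (tv_SU _ _) (tv_SU _ _)) (tv_SU _ _)) (tv_SU _ _), tv_five d.iv (e _ _) (e _ _) (e _ _) ha o,
      ← up_mul (tv_SU _ _) (tv_SU _ _), tv_sq, up_one]
  have z : ∀ x ∈ im ρ (WX σ (Submodule.span K (Set.range u))), ⁅x, y (u 2)⁆ = 1 := fun x i =>
    commutatorElement_eq_one_iff_mul_comm.2 (A.cw (d.lm c l (mT 2)) i).symm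
  obtain k | k := A.one' h1
  · obtain rfl : α = 0 := by_contra fun n => d.s_tv1 c.ker (e 2 2) (r.ne_zero 2) ha n (h2.symm.trans (z _ k))
    exact ⟨y, c, fun u v h => commutatorElement_eq_one_iff_mul_comm.1 (by simpa [tv] using f u v h)⟩
  obtain rfl : α = 1 := by
    have := z _ k
    rw [A.cl A.lt h1 (d.lm c l (mT 2)), h2, A.ct' (d.lm c l (mT 2)), ← up_mul (tv_SU _ _) (tv_SU _ _), tv_mul d.iv (e _ _) (map_one σ) ha] at this
    exact (CharTwo.add_eq_zero.1 (by_contra fun n => d.s_tv1 c.ker (e 2 2) (r.ne_zero 2) (by simp [ha]) n this)).symm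
  refine ⟨_, c.flip, fun u v h => commutatorElement_eq_one_iff_mul_comm.1 ?_⟩
  have A := d.ab2 c.toCS h
  have mu := d.lm c h.ti (mem_l u v)
  have mv := d.lm c h.ti (mem_r u v)
  rw [if_neg h.u0, if_neg h.symm.u0, A.cl mu A.lt (A.mul mv A.lt), A.cr mv A.lt mu, A.cr mv A.lt A.lt, f u v h, A.ct' mv,
    ← commutatorElement_inv, A.ct' mu, commutatorElement_self, mul_one, el_cm A.el mu.i mv.i, mul_inv_cancel_right, A.el _ mv.i]
section com
variable (c : Y0 ρ t y) (ci : ∀ u v, Ip σ u v → y u * y v = y v * y u)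
include c ci
theorem comY (hu : hf σ u u = 0) (hv : hf σ v v = 0) (e : hf σ u v = 0) : y u * y v = y v * y u := by
  by_cases u0 : u = 0
  · simp [u0, c.zero]
  by_cases k : v ∈ Submodule.span K {u}
  swap; · exact ci _ _ ⟨hu, hv, e, d.sw e, li_two u0 k⟩
  obtain ⟨s, rfl⟩ := Submodule.mem_span_singleton.1 k
  by_cases s0 : s = 0
  · simp [s0, c.zero]
  obtain ⟨x, r, -, h1, h2, -⟩ := d.out' u0 u0
  have h : Ip σ u x := ⟨hu, h1, d.sw h2, h2, r⟩
  obtain ⟨ω, o⟩ := d.om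
  have A := d.ab2 c.toCS h
  have h1 := d.g5 c h.ti (fun z => u0 (by simpa [z] using mem_l u x)) (mem_l u x) (mem_r u x) o
  have w0 : ω ≠ 0 := by rintro rfl; simp at o
  have c1 : ∀ a : K, a ≠ 0 → Commute (y x) (y (a • u + x)) := fun a n => show _ = _ by
    simpa using ci _ _ (h.comb (a := 0) (b := 1) (a' := a) (b' := 1) (by simpa using n.symm))
  have c2 : ∀ a : K, Commute (y (s • u)) (y (a • u + x)) := fun a => show _ = _ by
    simpa using ci _ _ (h.comb (a := s) (b := 0) (a' := a) (b' := 1) (by simpa))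
  have h2 := A.cw (d.lm c h.ti (Submodule.smul_mem _ s (mem_l u x))) (A.mem h1 (d.lm c h.ti (mem_r u x))
    (d.s_tv1 c.ker h.2 h.symm.u0 (map_one σ) one_ne_zero) ((((((Commute.refl _).mul_right (by simpa using c1 1 one_ne_zero)).mul_right
      (c1 _ w0)).mul_right (c1 _ (by simpa))).mul_right (ci _ _ h.symm)).eq))
  rw [← mul_assoc, (((Commute.mul_right (by simpa using c2 0) (by simpa using c2 1)).mul_right (c2 _)).mul_right (c2 _)).eq,
    mul_assoc, mul_assoc _ (y u), mul_right_inj] at h2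
  exact h2.symm
theorem exM (l : Ti σ T) : ∃ H : Subgroup X, ∃ _ : IsMulCommutative H, ∃ Y : T → Additive H, (∀ v, (Y v).toMul = y v) ∧
    ∀ p r v, I3 K p r v → dl Y p r v = 0 := by
  have := isMulCommutative_closure (k := {x | ∃ v ∈ T, x = y v}) (by
    rintro _ ⟨u, i, rfl⟩ _ ⟨v, j, rfl⟩; exact d.comY c ci (l _ i _ i) (l _ j _ j) (l _ i _ j))
  obtain ⟨Y, hY⟩ : ∃ Y : T → Additive (closure {x | ∃ v ∈ T, x = y v}), ∀ v, (Y v).toMul = y v :=
    ⟨fun v => .ofMul ⟨y v, subset_closure ⟨v, v.2, rfl⟩⟩, fun _ => rfl⟩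
  refine ⟨_, this, Y, hY, fun p r v i => ?_⟩
  have co : ∀ p r v : T, ((dl Y p r v).toMul : X) =
      y (p + r + v) * y (p + r) * y (p + v) * y (r + v) * y p * y r * y v := fun p r v => by simp [dl, hY]
  obtain ⟨u, hu⟩ : ∃ u : Fin 3 → T, u = ![p, r, v] := ⟨_, rfl⟩
  obtain ⟨rfl, rfl, rfl⟩ : p = u 0 ∧ r = u 1 ∧ v = u 2 := by simp [hu]
  have li : LinearIndependent K fun j => (u j).1 := (hu.symm ▸ i3_iff.1 i : LinearIndependent K u).map' T.subtype T.ker_subtype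
  have e : ∀ i j, hf σ (u i).1 (u j).1 = 0 := fun i j => l _ (u i).2 _ (u j).2
  have l' := ti_span e
  have mT : ∀ j, (u j).1 ∈ Submodule.span K (Set.range fun j => (u j).1) := fun j => Submodule.subset_span ⟨j, rfl⟩
  have A := d.ab c.toCS l' fun z => li.ne_zero 0 (by simpa [z] using mT 0)
  have h1 := A.mul (A.mul (A.mul (A.mul (A.mul (A.mul (d.lm c l' (add_mem (add_mem (mT 0) (mT 1)) (mT 2))) (d.lm c l' (add_mem (mT 0) (mT 1))))
    (d.lm c l' (add_mem (mT 0) (mT 2)))) (d.lm c l' (add_mem (mT 1) (mT 2)))) (d.lm c l' (mT 0))) (d.lm c l' (mT 1))) (d.lm c l' (mT 2))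
  have s := congrArg ρ (show (⟨_, tv_SU _ _⟩ * ⟨_, tv_SU _ _⟩ * ⟨_, tv_SU _ _⟩ * ⟨_, tv_SU _ _⟩ * ⟨_, tv_SU _ _⟩ * ⟨_, tv_SU _ _⟩ *
    ⟨_, tv_SU _ _⟩ : SU σ m) = 1 from Subtype.ext (tv_seven d.iv l' (mT 0) (mT 1) (mT 2) (map_one σ)))
  simp only [map_mul, map_one, ← up_eq] at s
  rw [s, ← co] at h1
  obtain ⟨w, j, j', f⟩ := mem_im.1 (A.mem h1 (d.lm c l' (mT 0)) (d.s_tv1 c.ker (e 0 0) (li.ne_zero 0) (map_one σ) one_ne_zero)
    (by rw [← hY]; exact congrArg Subtype.val (mul_comm (Y (u 0)).toMul _)))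
  obtain rfl := d.w3b li e j fun g k a b n h1 h2 => conj_eq_iff.1 (d.s_ker2 c.ker ((su_sem k).su j') j' ((e2_inv (W_sq l' j)).cj g)
    (e2_inv (W_sq l' j)) (by
      obtain ⟨u', hu'⟩ : ∃ u' : Fin 3 → T, u' = Function.update u a (u a + u b) := ⟨_, rfl⟩
      have k1 : ∀ z, g (u z) = u' z := fun z => by
        by_cases o : z = a
        · simp [o, hu', h1]
        · simp [o, hu', h2 z o]
      have k2 : dl Y (u' 0) (u' 1) (u' 2) = dl Y (u 0) (u 1) (u 2) := by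
        fin_cases a <;> fin_cases b <;> simp at n <;> simp [hu']
        · exact dl_sh K ..
        · rw [dl_23, dl_sh K, dl_23]
        · rw [dl_12, dl_sh K, dl_12]
        · rw [dl_12, dl_23, dl_sh K, dl_23, dl_12]
        · rw [dl_23, dl_12, dl_sh K, dl_12, dl_23]
        · rw [dl_23, dl_12, dl_23, dl_sh K, dl_23, dl_12, dl_23]
      have q := fun x (i : x ∈ T) => c.eqv g k x (l _ i _ i)
      rw [up_cj k j', f]; nth_rw 2 [← k2]; rw [co, co]
      simp only [conj_mul_conj, q _ (u _).2, q _ (add_mem (u _).2 (u _).2), q _ (add_mem (add_mem (u _).2 (u _).2) (u _).2),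
        (su_sem k).add, k1]))
  exact Additive.toMul.injective (Subtype.ext (f.symm.trans up_one))
theorem sqY (hv : hf σ v v = 0) : y v * y v = 1 := by
  obtain ⟨κ, hk, f⟩ := d.kap c
  have l := Vf_ti (σ := σ) (m := m) le_rfl
  obtain ⟨H, _, Y, h1, h2⟩ := d.exM c ci l
  obtain ⟨ω, o⟩ := d.om
  have b : ∀ i : Fin 3, (bv i : Fin m → K) ∈ Vf K m (m / 2) := fun i => bv_mem (by have := d.l3; omega)
  have li := li_bv (K := K) (m := m) (j := 3) (by have := d.hm; omega)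
  have τ : ∀ x, ((Y x + Y x).toMul : X) = tv ρ x κ := fun x => by rw [← f _ (l _ x.2 _ x.2), ← h1]; rfl
  have := alg0 (u := ⟨_, b 0⟩) (v := ⟨_, b 1⟩) (w := ⟨_, b 2⟩) (c := ω) h2 (fun _ => rfl) (fun x => Additive.toMul.injective (Subtype.ext (by
    rw [toMul_add, coe_mul, τ, ← up_mul (tv_SU _ _) (tv_SU _ _), tv_sq, up_one]; rfl))) (fun p r v => Additive.toMul.injective
      (Subtype.ext (by
        have s := congrArg ρ (show (⟨_, tv_SU _ _⟩ * ⟨_, tv_SU _ _⟩ * ⟨_, tv_SU _ _⟩ * ⟨_, tv_SU _ _⟩ * ⟨_, tv_SU _ _⟩ *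
          ⟨_, tv_SU _ _⟩ * ⟨_, tv_SU _ _⟩ : SU σ m) = 1 from Subtype.ext (tv_seven d.iv l p.2 r.2 v.2 hk))
        simp only [map_mul, map_one, ← up_eq] at s
        simp only [dl, toMul_add (_ + _ + _), toMul_add (_ + _) (_ + _), coe_mul, τ]; exact s)))
    (i3_iff.2 (.of_comp (Submodule.subtype _) (by convert li using 1; ext1 i; fin_cases i <;> rfl))) (by rintro rfl; simp at o)
    (fun z => by rw [CharTwo.add_eq_zero.1 z] at o; simp [← CharTwo.add_eq_zero.1 z, CharTwo.add_self_eq_zero] at o)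
  have := congrArg (fun x => (x.toMul : X)) this
  simp only [toMul_add (_ + _ + _), toMul_add (_ + _) (_ + _), coe_mul, τ] at this
  rw [← up_mul (tv_SU _ _) (tv_SU _ _), ← up_mul (mul_mem (tv_SU _ _) (tv_SU _ _)) (tv_SU _ _),
    Submodule.coe_add, tv_pol d.iv (l _ (b 0) _ (b 0)) (l _ (b 1) _ (b 1)) (l _ (b 0) _ (b 1)) hk] at this
  have := d.w2inj (a := 0) (b := 0) (li_sub li (i := 0) (j := 1) (by simp)) (l _ (b 0) _ (b 0)) (l _ (b 1) _ (b 1)) (l _ (b 0) _ (b 1))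
    (map_zero σ) (map_zero σ) (by rw [E_zero, E_zero, one_mul, one_mul]; exact d.ker_sc c.ker (d.E_SU _ _ _) this (e2_E ..))
  rw [f v hv, this.2.2, tv, E_zero, up_one]
theorem addY (hu : hf σ u u = 0) (hv : hf σ v v = 0) (hx : hf σ x x = 0) (e1 : hf σ u v = 0) (e2 : hf σ u x = 0) (e3 : hf σ v x = 0) :
    bb y u (v + x) = bb y u v * bb y u x := by
  have := d.sw e1; have := d.sw e2; have := d.sw e3
  obtain ⟨T, l, i, r⟩ := d.ex_T (ti_span (σ := σ) (u := ![u, v, x]) (by simp [Fin.forall_fin_succ, *]))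
  have b : ∀ j, ![u, v, x] j ∈ T := fun j => i (Submodule.subset_span ⟨j, rfl⟩)
  obtain ⟨H, _, Y, h1, h2⟩ := d.exM c ci l
  have two : ∀ x, Y x + Y x = 0 := fun x => Additive.toMul.injective (Subtype.ext (by
    rw [toMul_add, coe_mul, h1]; exact d.sqY c ci (l _ x.2 _ x.2)))
  have := alg1 h2 (Additive.toMul.injective (Subtype.ext ((h1 0).trans c.zero))) two (Ud.ex3 (r ▸ d.l3)) ⟨_, b 0⟩ ⟨_, b 1⟩ ⟨_, b 2⟩
  have : Y (⟨_, b 0⟩ + (⟨_, b 1⟩ + ⟨_, b 2⟩)) + Y ⟨_, b 0⟩ + Y (⟨_, b 1⟩ + ⟨_, b 2⟩) =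
      Y (⟨_, b 0⟩ + ⟨_, b 1⟩) + Y ⟨_, b 0⟩ + Y ⟨_, b 1⟩ + (Y (⟨_, b 0⟩ + ⟨_, b 2⟩) + Y ⟨_, b 0⟩ + Y ⟨_, b 2⟩) := by
    rw [dl, add_assoc (⟨_, b 0⟩ : T)] at this
    linear_combination (norm := abel) this - two (⟨_, b 0⟩ + ⟨_, b 1⟩) - two ⟨_, b 0⟩ - two ⟨_, b 1⟩ - two (⟨_, b 0⟩ + ⟨_, b 2⟩) -
      two ⟨_, b 2⟩
  simpa [h1, bb] using congrArg (fun x => (x.toMul : X)) this
theorem lmb (l : Ti σ T) (T0 : T ≠ ⊥) (hu : u ∈ T) (hv : v ∈ T) : Lm (im ρ (RT σ T)) (im ρ (WX σ T)) t (bb y u v) (up ρ (E σ u v 0)) := by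
  have A := d.ab c.toCS l T0
  have := A.mul (A.mul (d.lm c l (add_mem hu hv)) (d.lm c l hu)) (d.lm c l hv)
  rwa [← up_mul (tv_SU _ _) (tv_SU _ _), ← up_mul (mul_mem (tv_SU _ _) (tv_SU _ _)) (tv_SU _ _),
    tv_pol d.iv (l _ hu _ hu) (l _ hv _ hv) (l _ hu _ hv) (map_one σ), one_smul] at this
theorem bcm (l : Ti σ T) (hu : u ∈ T) (hv : v ∈ T) (hx : x ∈ T) : Commute (y x) (bb y u v) :=
  have k : ∀ z ∈ T, Commute (y x) (y z) := fun z i => d.comY c ci (l _ hx _ hx) (l _ i _ i) (l _ hx _ i)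
  ((k _ (add_mem hu hv)).mul_right (k _ hu)).mul_right (k _ hv)
theorem bcm' (l : Ti σ T) (hu : u ∈ T) (hv : v ∈ T) (hu' : u' ∈ T) (hv' : v' ∈ T) : Commute (bb y u' v') (bb y u v) :=
  ((d.bcm c ci l hu hv (add_mem hu' hv')).mul_left (d.bcm c ci l hu hv hu')).mul_left (d.bcm c ci l hu hv hv')
theorem b0r (hu : hf σ u u = 0) : bb y u 0 = 1 := by rw [bb, add_zero, c.zero, mul_one, d.sqY c ci hu]
theorem bsq (hu : hf σ u u = 0) (hv : hf σ v v = 0) (e : hf σ u v = 0) : bb y u v * bb y u v = 1 := by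
  rw [← d.addY c ci hu hv hv e e hv, vv, d.b0r c ci hu]
theorem adj0 (a0 : a ≠ 0) : ∃ s : K, ∀ u v, Ip σ u v → bb y (a • u) v * bb y u (σ a • v) = up ρ (E σ u (s • v) 0) := by
  obtain ⟨α, β, γ, ha, hb, f⟩ := d.wconst (ρ := ρ) (fun u v => bb y (a • u) v * bb y u (σ a • v)) (fun g i u v h => by
    have s := su_sem i
    simp only [bb, conj_mul_conj]
    rw [c.eqv g i, c.eqv g i, c.eqv g i, c.eqv g i, c.eqv g i, c.eqv g i] <;> simp [s.add, s.smul1, h.1, h.2, h.3, h.4]) fun u v h => by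
      have T0 : Submodule.span K {u, v} ≠ ⊥ := fun z => h.u0 (by simpa [z] using mem_l u v)
      have au := Submodule.smul_mem _ a (mem_l u v)
      have av := Submodule.smul_mem _ (σ a) (mem_r u v)
      have A := d.ab2 c.toCS h
      have := A.mul (d.lmb c ci h.ti T0 au (mem_r u v)) (d.lmb c ci h.ti T0 (mem_l u v) av)
      rw [E_smul (ok_iso d.iv (by simp [h.1]) h.2 (by simp [h.4])) h.1 h.4, mul_zero, A.el _ (d.lmb c ci h.ti T0 (mem_l u v) av).i] at this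
      exact A.mem this (d.lm c h.ti (mem_l u v)) (d.s_tv1 c.ker h.1 h.u0 (map_one σ) one_ne_zero)
        ((d.bcm c ci h.ti au (mem_r u v) (mem_l u v)).mul_right (d.bcm c ci h.ti (mem_l u v) av (mem_l u v))).eq
  obtain ⟨u, v, h⟩ := d.ex_ip
  obtain ⟨ω, o⟩ := d.om
  have w0 : ω ≠ 0 := by rintro rfl; simp at o
  have w1 : σ ω ≠ 0 := by simpa
  have k := fun (s : K) (n : s ≠ 0) => f ((1 : K) • u) (s • v) (by simpa using h.comb (a := 1) (b := 0) (a' := 0) (b' := s) (by simpa))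
  have h1 := k 1 one_ne_zero; have h2 := k _ w0; have h3 := k _ w1
  rw [d.E3_smul h ha hb one_ne_zero (by first | assumption | simp), one_smul] at h1 h2 h3
  have s := fun a : K => Submodule.smul_mem _ a (mem_l u v)
  have s' := fun a : K => Submodule.smul_mem _ a (mem_r u v)
  have w := fun a b c => d.W_SU h.ti (E3_W (σ := σ) (mem_l u v) (mem_r u v) a b c)
  have h4 := congrArg₂ (· * ·) h2 h3
  rw [mul_assoc, ← mul_assoc (bb y u _), (d.bcm' c ci h.ti (s _) (s' _) (mem_l u v) (Submodule.smul_mem _ _ (s' _))).eq, mul_assoc,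
    ← mul_assoc, ← d.addY c ci, ← d.addY c ci, ← smul_add, ← add_smul, o, h1, ← up_mul (w _ _ _) (w _ _ _), d.E3_mul h] at h4
  · have := d.E3_inj h c.ker (by simpa) (by simpa) (by simp [ha]) (by simp [hb, d.iv ω, mul_comm]) h4
    obtain ⟨rfl, rfl⟩ : α = 0 ∧ β = 0 := by
      simp only [map_one, d.iv ω] at this; grind
    exact ⟨γ, fun u v h => by simpa [E3] using f u v h⟩
  all_goals simp [h.1, h.2, h.3, ha, hb, d.iv ω, mul_comm]
theorem adj1 (h : Ip σ u v) : bb y (a • u) v = bb y u (σ a • v) := by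
  by_cases a0 : a = 0
  · simp [a0, bb, c.zero, d.sqY c ci h.1, d.sqY c ci h.2]
  obtain ⟨r, rfl⟩ := exists_rt a
  have r0 : r ≠ 0 := left_ne_zero_of_mul a0
  obtain ⟨s, f⟩ := d.adj0 c ci r0
  have h1 := f (r • u) v (by simpa using h.comb (a := r) (b := 0) (a' := 0) (b' := 1) (by simpa))
  have h2 := f u (σ r • v) (by simpa using h.comb (a := 1) (b := 0) (a' := 0) (b' := σ r) (by simpa))
  rw [E_smul (ok_iso d.iv (by simp [h.1]) (by simp [h.2]) (by simp [h.4])) h.1 (by simp [h.4]), mul_zero, smul_comm (σ r), ← h2,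
    smul_smul, smul_smul, ← map_mul] at h1
  have s := fun a : K => Submodule.smul_mem _ a (mem_l u v)
  have s' := fun a : K => Submodule.smul_mem _ a (mem_r u v)
  rwa [(d.bcm' c ci h.ti (s _) (s' _) (s _) (mem_r u v)).eq, mul_right_inj] at h1
theorem adjY (hu : hf σ u u = 0) (hv : hf σ v v = 0) (e : hf σ u v = 0) : bb y (a • u) v = bb y u (σ a • v) := by
  by_cases u0 : u = 0
  · simp [u0, bb, c.zero, d.sqY c ci hv, d.sqY c ci (show hf σ (σ a • v) (σ a • v) = 0 by simp [hv])]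
  obtain ⟨x, r, h1, h2, h3⟩ := d.out u v
  have := d.sw h2; have := d.sw h3; have := d.sw e
  have k : ∀ z ∈ Submodule.span K {u}, z ∈ Submodule.span K {u, v} := fun z i => Submodule.span_mono (by simp) i
  have i1 : Ip σ u x := ⟨hu, h1, ‹_›, h2, li_two u0 (mt (k _) r)⟩
  have i2 : Ip σ u (v + x) := ⟨hu, by simp [*], by simp [*], by simp [*], li_two u0 fun i => r (by simpa using sub_mem (k _ i) (mem_r u v))⟩
  rw [show v = v + x + x by rw [add_assoc, vv, add_zero], smul_add, d.addY c ci (v := v + x), d.addY c ci (v := σ a • (v + x)),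
    d.adj1 c ci i1, d.adj1 c ci i2] <;> simp [*]
end com
theorem yd (c : CS ρ t) : ∃ y, Yd ρ t y := by
  obtain ⟨y, c, ci⟩ := d.y1 c
  exact ⟨y, c.toCS, c.zero, fun _ => d.sqY c ci, c.eqv, c.tw, fun _ _ => d.comY c ci, fun _ _ _ => d.addY c ci, fun _ _ _ => d.adjY c ci,
    fun _ _ => d.nrm0 c⟩
end Dm

end CF.Ud
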