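import Cfsg.Agent.Ud.T0

/-! Standard unitary subgroups, the field case: transfer. -/

set_option autoImplicit false
set_option linter.unusedSectionVars false

namespace CF.Ud

open Cfsg Subgroup Equiv CF.Loc CF.LX CF.Dbl Module Sx
open scoped commutatorElement

variable {G : Type*} [Group G] [Finite G] {t x : G}

namespace Vx

theorem pair {Ω A : Type*} [DecidableEq Ω] [MulAction G Ω] [CommGroup A] (x2 : x * x = 1) (s : Finset Ω) (f : Ω → A) (hs : ∀ q ∈ s, x • q ∈ s)
    (hf : ∀ q ∈ s, x • q ≠ q → f q * f (x • q) = 1) : ∏ q ∈ s, f q = ∏ q ∈ s.filter fun q => x • q = q, f q := by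
  have xx : ∀ q : Ω, x • x • q = q := fun q => by rw [← mul_smul, x2, one_smul]
  rw [← Finset.prod_filter_mul_prod_filter_not s fun q => x • q = q, Finset.prod_involution (s := s.filter fun q => ¬ x • q = q)
    (fun q _ => x • q) (fun q i => hf q (Finset.mem_filter.1 i).1 (Finset.mem_filter.1 i).2) (fun q i _ => (Finset.mem_filter.1 i).2)
    (fun q i => Finset.mem_filter.2 ⟨hs q (Finset.mem_filter.1 i).1, fun k => (Finset.mem_filter.1 i).2 ((xx q).symm.trans k).symm⟩)
    fun q _ => xx q, mul_one]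

theorem xf {S : Subgroup G} {A : Type*} [CommGroup A] (φ : S →* A) (o : Odd S.index) (t2 : t * t = 1) (x2 : x * x = 1)
    (c : x * t = t * x) (xS : x ∈ S) (k : ∀ g, g⁻¹ * t * g ∈ S → g⁻¹ * x * g ∈ S → up φ (g⁻¹ * x * g) = up φ x) :
    MonoidHom.transfer φ x = up φ x := by
  classical
  have : Fintype (G ⧸ S) := Fintype.ofFinite _
  have mem : ∀ (y : G) (q : G ⧸ S), y • q = q → q.out⁻¹ * y * q.out ∈ S := fun y q e => by
    rw [← q.out_eq', MulAction.Quotient.smul_mk, eq_comm, QuotientGroup.eq] at e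
    simpa [mul_assoc] using e
  have m2 : ∀ (y : G) (q : G ⧸ S), (y • q).out⁻¹ * (y * q.out) ∈ S := fun y q => QuotientGroup.eq.1 (by
    rw [← smul_eq_mul, ← MulAction.Quotient.smul_mk, QuotientGroup.out_eq', QuotientGroup.out_eq'])
  have xx : ∀ q : G ⧸ S, x • x • q = q := fun q => by rw [← mul_smul, x2, one_smul]
  have tc : ∀ q ∈ Finset.univ.filter fun q : G ⧸ S => x • q = q, t • q ∈ Finset.univ.filter fun q : G ⧸ S => x • q = q := fun q i =>
    Finset.mem_filter.2 ⟨Finset.mem_univ _, by rw [← mul_smul, c, mul_smul, (Finset.mem_filter.1 i).2]⟩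
  have a2 : up φ x * up φ x = 1 := by rw [← up_mul xS xS, x2, up_one]
  have e1 : MonoidHom.transfer φ x = ∏ q : G ⧸ S, up φ (q.out⁻¹ * (x * (x • q).out)) := by
    rw [Pg.xfer φ Quotient.out QuotientGroup.out_eq' x]
    exact Finset.prod_congr rfl fun q _ => by rw [← up_eq]; rw [ti x2]
  have e2 : up φ x = ∏ _q : G ⧸ S, up φ x := by
    obtain ⟨n, e⟩ := o
    rw [Finset.prod_const, Finset.card_univ, ← Nat.card_eq_fintype_card, ← index_eq_card, e, pow_succ, pow_mul, pow_two, a2]; simp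
  rw [e1, e2, pair x2 _ _ (fun _ _ => Finset.mem_univ _) fun q _ _ => ?_, pair t2 _ _ tc fun q i _ => ?_,
    pair x2 _ (fun _ => up φ x) (fun _ _ => Finset.mem_univ _) fun _ _ _ => a2, pair t2 _ (fun _ => up φ x) tc fun _ _ _ => a2]
  · refine Finset.prod_congr rfl fun q i => ?_
    obtain ⟨i, j⟩ := Finset.mem_filter.1 i
    have i := (Finset.mem_filter.1 i).2
    rw [i, ← mul_assoc, k _ (mem t q j) (mem x q i)]
  · have j := (Finset.mem_filter.1 i).2
    have a := mem x q j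
    have b := m2 t q
    rw [j, (Finset.mem_filter.1 (tc q i)).2, ← mul_assoc, show (t • q).out⁻¹ * (x * (t • q).out) =
      (t • q).out⁻¹ * (t * q.out) * (q.out⁻¹ * x * q.out) * ((t • q).out⁻¹ * (t * q.out))⁻¹ by
        conv_lhs => rw [← conj_eq_iff.2 c.symm]
        group, up_cj b a, mul_inv_cancel_comm, ← up_mul a a]
    rw [show q.out⁻¹ * x * q.out * (q.out⁻¹ * x * q.out) = q.out⁻¹ * (x * x) * q.out by group, x2]; simp
  · have a := m2 x (x • q)
    rw [xx] at a ⊢
    rw [← up_mul a (m2 x q), show q.out⁻¹ * (x * (x • q).out) * ((x • q).out⁻¹ * (x * q.out)) = q.out⁻¹ * (x * x) * q.out by group, x2]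
    simp

theorem nm {S R : Subgroup G} (hS : IsSyl 2 S ⊤) (ab : ⁅S, S⁆ ≤ R) (t2 : t * t = 1) (x2 : x * x = 1) (c : x * t = t * x) (xS : x ∈ S)
    (xR : x ∉ R) (k : ∀ g, g⁻¹ * t * g ∈ S → g⁻¹ * x * g ∈ S → g⁻¹ * x * g * x ∈ R) : x ∉ _root_.commutator G := fun i => by
  have : (R.subgroupOf S).Normal := ⟨fun a j g => by
    simpa [commutatorElement_def, mem_subgroupOf] using mul_mem (ab (commutator_mem_commutator g.2 a.2)) j⟩
  letI : CommGroup (S ⧸ R.subgroupOf S) := { (inferInstance : Group _) with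
    mul_comm := fun a b => by
      induction a using QuotientGroup.induction_on
      induction b using QuotientGroup.induction_on
      rename_i a b
      rw [← QuotientGroup.mk_mul, ← QuotientGroup.mk_mul, QuotientGroup.eq, mem_subgroupOf]
      simpa [mul_assoc, commutatorElement_def] using ab (commutator_mem_commutator (inv_mem b.2) (inv_mem a.2)) }
  have e : ∀ y ∈ S, up (QuotientGroup.mk' (R.subgroupOf S)) y = 1 ↔ y ∈ R := fun y j => by rw [up_eq j]; exact QuotientGroup.eq_one_iff _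
  have := xf (QuotientGroup.mk' (R.subgroupOf S)) (Nat.odd_iff.2 (Nat.two_dvd_ne_zero.1 (relIndex_top_right S ▸ hS.not_dvd_relIndex)))
    t2 x2 c xS fun g a b => by
      have := (e _ (mul_mem b xS)).2 (k g a b)
      rw [up_mul b xS] at this
      rw [eq_inv_of_mul_eq_one_left this, ← up_inv xS, ti x2]
  exact xR ((e x xS).1 (this.symm.trans (Abelianization.commutator_subset_ker _ i)))

end Vx

theorem Dm.ff {S R : Subgroup G} (hS : IsSyl 2 S ⊤) (ab : ⁅S, S⁆ ≤ R) (l : R ≤ S) (tS : t ∈ S) (t2 : t * t = 1) (tR : t ∉ R)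
    (hD : ∀ g, g * t * g⁻¹ ∈ S → ∃ r ∈ R, r * t * r⁻¹ = g * t * g⁻¹) : t ∉ _root_.commutator G ∧
    ∀ x ∈ S ⊓ 𝐂₁(t), x * x = 1 → x ∉ R ⊔ zpowers t → (∀ c ∈ 𝐂₁(t), c * x * c⁻¹ ∈ S → c * x * c⁻¹ * x ∈ R ⊔ zpowers t) →
      x ∉ _root_.commutator G := by
  refine ⟨Vx.nm hS ab t2 t2 rfl tS tR fun g a _ => ?_, fun x i x2 n k =>
    Vx.nm hS (ab.trans le_sup_left) t2 x2 (mem_c1.1 i.2) i.1 n fun g a b => ?_⟩
  · obtain ⟨r, j, e⟩ := hD g⁻¹ (by rwa [inv_inv])
    have := ab (commutator_mem_commutator (l j) tS)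
    rwa [commutatorElement_def, e, inv_inv, ti t2] at this
  · obtain ⟨r, j, e⟩ := hD g⁻¹ (by rwa [inv_inv])
    have c : r⁻¹ * g⁻¹ ∈ 𝐂₁(t) := mem_c1.2 (conj_eq_iff.1 (by
      calc _ = r⁻¹ * (g⁻¹ * t * g⁻¹⁻¹) * r := by group
        _ = _ := by rw [← e]; group))
    have := mul_mem (mem_sup_left (ab (commutator_mem_commutator b (inv_mem (l j))))) (k _ c (by
      simpa [mul_assoc] using mul_mem (mul_mem (inv_mem (l j)) b) (l j)))
    simpa [commutatorElement_def, mul_assoc] using this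

end CF.Ud
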