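import Cfsg.Agent.Ud.V1
import Cfsg.Agent.Ud.T2
import Cfsg.Agent.Ud.E2
import Cfsg.Agent.S1769

/-! Standard unitary subgroups, the field case: the Sylow subgroup of `F`. -/

set_option autoImplicit false
set_option linter.unusedSectionVars false

namespace CF.Ud

open Cfsg Subgroup Equiv CF.Loc CF.LX CF.Dbl Module Sx Tx
open scoped commutatorElement

variable {K : Type} [Field K] [Fintype K] [CharP K 2] {m q : ℕ} {σ θ : K ≃+* K} {a k : K}
  {G X : Type*} [Group G] [Finite G] [Group X] [Finite X] {ρ : SU σ m →* G} {ρ' : SU σ m →* X} {t h : G} {s : X}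
  {y : (Fin m → K) → X} {F N : Subgroup G} {π : N →* X}

theorem Vx.ne_of {P P' : Type*} [Group P] [Group P'] {C : Subgroup P} {C' : Subgroup P'} {d : P} {d' : P'} (j : C →* C')
    (i : Function.Injective j) (e : ∀ c, (j c : P') = d' → (c : P) = d) (n : NE σ m C d) : NE σ m C' d' := fun f a b =>
  n (f.comp j) (fun _ => a _) fun c k => (b _ k).imp (fun k => i (k.trans j.map_one.symm)) (e c)

theorem Dm.fin (d : Dm σ q m) (f : Fr ρ t) (o : Top ρ F) (c : Cl ρ t N π ρ' s) {R : Subgroup X} (e : Fe ρ' s R) :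
    Nonempty (F ≃* Matrix.ProjectiveSpecialLinearGroup (Fin m) K) := by
  have tN : t ∈ N := c.ct (mem_c1.2 rfl)
  have LN : ρ.range ≤ N := fun x i => c.ct (mem_c1.2 (f.cm x i))
  have pr : ∀ g, Ud.up π (Ud.up ρ g) = Ud.up ρ' g := fun g => by
    by_cases i : g ∈ SU σ m
    · rw [up_eq i, up_eq i, c.rr]
    · rw [show Ud.up ρ g = 1 from dif_neg i, up_one]; exact (show Ud.up ρ' g = 1 from dif_neg i).symm
  have inj : ∀ x ∈ N, E2 x → Ud.up π x = 1 → x = 1 := fun x i a b => congrArg Subtype.val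
    (odd_two c.odd (x := ⟨x, i⟩) ((up_eq i).symm.trans b) (by obtain ⟨j, k⟩ := a; exact ⟨j, Subtype.ext k⟩))
  have pc : ∀ x ∈ 𝐂₁(t), Ud.up π x ∈ 𝐂₁(s) := fun x i => mem_c1.2 (by
    rw [← c.tt, ← up_mul (c.ct i) tN, mem_c1.1 i, up_mul tN (c.ct i)])
  have r : R2 ρ t := fun x i a => by
    refine (c.cs.cen _ ⟨pc x i.1, ?_⟩).imp (inj x (c.ct i.1) a) fun k => ?_
    · intro y j
      obtain ⟨g, -, rfl⟩ := mem_range_up.1 j
      rw [← pr, ← up_mul (LN (up_range g)) (c.ct i.1), i.2 _ (up_range g), up_mul (c.ct i.1) (LN (up_range g))]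
    · have := inj _ (mul_mem (c.ct i.1) tN) (a.mul (e2_inv f.t2) (mem_c1.1 i.1)) (by rw [up_mul (c.ct i.1) tN, k, c.tt, c.cs.t2])
      rw [eq_inv_of_mul_eq_one_left this, ti f.t2]
  obtain ⟨T, ψ, sT, tT, l⟩ := exT d f
  have TN := sT.le.trans c.ct
  have mp : ∀ (B : Subgroup X) x, x ∈ (B.comap π).map N.subtype ↔ x ∈ N ∧ Ud.up π x ∈ B := fun B x =>
    ⟨fun ⟨y, a, b⟩ => b ▸ ⟨y.2, (up_coe (φ := π) y).symm ▸ a⟩, fun ⟨a, b⟩ => ⟨⟨x, a⟩, by rwa [up_eq a] at b, rfl⟩⟩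
  have n1 : im π T ≤ 𝐂₁(s) ⊓ 𝐍(im ρ' (UT σ m)) := fun x i => by
    obtain ⟨x, a, b, rfl⟩ := mem_im.1 i
    refine ⟨pc x (sT.le a), mem_normalizer_of_conj_mem fun y j => ?_⟩
    obtain ⟨g, j1, j2, rfl⟩ := mem_im.1 j
    obtain ⟨g', k1, k2, k⟩ := mem_im.1 (l.cap ▸ conj_mem_of_mem_normalizer (le_normalizer_inf le_normalizer l.le a) (l.cap.ge (up_im j1 j2)))
    rw [← pr, ← up_cj b (LN (up_range g)), ← k, pr]; exact up_im k1 k2
  have n2 := n1.trans e.nrm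
  obtain ⟨S, sS, TS⟩ := exists_isSyl_ge sT.isPGroup (L := ((R ⊔ im π T).comap π).map N.subtype)
    fun x i => (mp _ x).2 ⟨TN i, mem_sup_right (up_im i (TN i))⟩
  have SN : S ≤ N := sS.le.trans (map_subtype_le _)
  have inj2 : ∀ x ∈ S, ∀ y ∈ S, Ud.up π x = Ud.up π y → x = y := fun x i y j k => mul_inv_eq_one.1
    (inj _ (SN (mul_mem i (inv_mem j))) (e2_of sS.isPGroup (mul_mem i (inv_mem j))) (by
      rw [up_mul (SN i) (inv_mem (SN j)), up_inv (SN j), k, mul_inv_cancel]))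
  have sur : ∀ u ∈ R, ∃ x ∈ S ⊓ (R.comap π).map N.subtype, Ud.up π x = u := fun u i => by
    have a : IsSyl 2 (S.subgroupOf N) ((R ⊔ im π T).comap π) := ⟨fun x j => by simpa using sS.le j, isPGroup_subgroupOf sS.isPGroup,
      fun Q a b k => map_injective N.subtype_injective (by
        rw [map_subgroupOf_eq_of_le SN]
        exact sS.eq_of_le (a.map _) (map_subgroupOf_eq_of_le SN ▸ map_mono b) (map_mono k))⟩
    have b := (a.map π).eq_of_isPGroup (by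
      rw [map_comap_eq_self_of_surjective c.sur]; exact e.two.to_sup_of_normal_left' (two_im sT.isPGroup) n2)
    rw [map_comap_eq_self_of_surjective c.sur] at b
    obtain ⟨x, j, -, rfl⟩ := (mem_im (φ := π)).1 (b.ge (mem_sup_left i))
    exact ⟨x, ⟨j, (mp _ x).2 ⟨SN j, i⟩⟩, rfl⟩
  generalize hQ : S ⊓ (R.comap π).map N.subtype = Q at sur
  have mQ : ∀ x, x ∈ Q ↔ x ∈ S ∧ Ud.up π x ∈ R := fun x => by
    rw [← hQ, mem_inf, mp]; exact ⟨fun a => ⟨a.1, a.2.2⟩, fun a => ⟨a.1, SN a.1, a.2⟩⟩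
  have QS : Q ≤ S := fun x i => ((mQ x).1 i).1
  have dec : ∀ x ∈ S, ∃ u ∈ Q, ∃ τ ∈ T, u * τ = x := fun x i => by
    obtain ⟨u, a, _, b0, k⟩ := (mem_sup_of_le_normalizer n2).1 ((mp _ x).1 (sS.le i)).2
    obtain ⟨τ, b, b', rfl⟩ := mem_im.1 b0
    exact ⟨x * τ⁻¹, (mQ _).2 ⟨mul_mem i (inv_mem (TS b)), by rwa [up_mul (SN i) (inv_mem b'), up_inv b', ← k, mul_inv_cancel_right]⟩,
      τ, b, inv_mul_cancel_right _ _⟩
  have nQ : T ≤ 𝐍(Q) := fun x i => mem_normalizer_of_conj_mem fun y j => (mQ _).2 ⟨mul_mem (mul_mem (TS i) (QS j)) (inv_mem (TS i)), by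
    rw [up_cj (TN i) (SN (QS j))]; exact conj_mem_of_mem_normalizer (n2 (up_im i (TN i))) ((mQ y).1 j).2⟩
  have UQ : im ρ (UT σ m) ≤ Q := fun x i => (mQ x).2 ⟨TS (l.uR i), by
    obtain ⟨g, a, b, rfl⟩ := mem_im.1 i
    rw [pr]; exact (e.cap.ge (up_im a b)).1⟩
  have QU : ∀ x ∈ Q, x ∈ 𝐂₁(t) → x ∈ im ρ (UT σ m) := fun x i j => by
    obtain ⟨g, a, b, k⟩ := mem_im.1 (e.cap.le ⟨((mQ x).1 i).2, pc x j⟩)
    rw [inj2 x (QS i) _ (TS (l.u0 a)) (by rw [pr, k])]; exact up_im a b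
  have TL : ∀ x ∈ T, x ∈ ρ.range → x ∈ Q := fun x i j => UQ (l.cap.le ⟨i, j⟩)
  have ab : ⁅S, S⁆ ≤ Q := by
    have : S ≤ Q ⊔ T := fun x i => by obtain ⟨u, a, τ, b, rfl⟩ := dec x i; exact mul_mem (mem_sup_left a) (mem_sup_right b)
    exact (commutator_mono this this).trans (commutator_sup_left_le le_normalizer nQ
      (commutator_le_left_of_le_normalizer (sup_le le_normalizer nQ)) (commutator_sup_right_le le_normalizer nQ
        (commutator_le_right_of_le_normalizer nQ) fun x i => TL x (commutator_le_self _ i) (der d f r sT.isPGroup sT.le i)))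
  have tQ : t ∉ Q := fun i => tL d f (im_le (QU t i (mem_c1.2 rfl)))
  have hD : ∀ g, g * t * g⁻¹ ∈ S → ∃ r ∈ Q, r * t * r⁻¹ = g * t * g⁻¹ := fun g i => by
    have f' := fr_cj f g
    have r' := r2_cj r g
    generalize g * t * g⁻¹ = x at *
    have x2 : Ud.up π x * Ud.up π x = 1 := by rw [← up_mul (SN i) (SN i), f'.t2, up_one]
    by_cases n : s * Ud.up π x ∈ R
    · obtain ⟨u0, a0, b⟩ := e.e0 _ n (by rwa [← mul_assoc s s, c.cs.t2, one_mul])
      obtain ⟨u, a, rfl⟩ := sur u0 a0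
      refine ⟨u, a, inj2 _ (mul_mem (mul_mem (QS a) (TS tT)) (inv_mem (QS a))) x i ?_⟩
      rw [up_cj (SN (QS a)) tN, c.tt, b, ← mul_assoc, c.cs.t2, one_mul]
    obtain ⟨u, a, τ, b, k⟩ := dec x i
    have k' : Ud.up π u * Ud.up π τ = Ud.up π x := by rw [← up_mul (SN (QS a)) (TN b), k]
    have ne := e.ex _ (n1 (up_im b (TN b))) _ ((mQ u).1 a).2 (k' ▸ x2) (k' ▸ fun o => f'.t1 (inj x (SN i) (e2_inv f'.t2) o)) (k' ▸ n)
    rw [k'] at ne
    obtain ⟨ψ', p1, p2, -⟩ := d.lift2 f'.ker (sS.isPGroup.to_le QS).to_inf_left (inf_le_right.trans (s_ct f') : Q ⊓ 𝐂₁(x) ≤ _)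
    let φ : ↥(Q ⊓ 𝐂₁(x)) →* X := π.comp (inclusion (inf_le_left.trans (QS.trans SN)))
    have φu : ∀ y, φ y = Ud.up π y := fun y => (up_eq (φ := π) (SN (QS y.2.1))).symm
    have φi : Function.Injective φ := fun y y' k => Subtype.ext (inj2 _ (QS y.2.1) _ (QS y'.2.1) (by rw [← φu, ← φu, k]))
    have φs : R ⊓ 𝐂₁(Ud.up π x) ≤ φ.range := fun w j => by
      obtain ⟨y, a, rfl⟩ := sur w j.1
      exact ⟨⟨y, a, mem_c1.2 (inj2 _ (mul_mem (QS a) i) _ (mul_mem i (QS a)) (by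
        rw [up_mul (SN (QS a)) (SN i), up_mul (SN i) (SN (QS a)), mem_c1.1 j.2]))⟩, φu _⟩
    refine (Vx.ne_of (d' := x) ((MonoidHom.ofInjective φi).symm.toMonoidHom.comp (inclusion φs))
      ((MonoidHom.ofInjective φi).symm.injective.comp (inclusion_injective _)) (fun w k => ?_) ne ψ' (fun y => (p1 y).1) fun y k => ?_).elim
    · exact ((MonoidHom.apply_ofInjective_symm φi (inclusion φs w)).symm.trans (φu _)).trans (congrArg _ k)
    · exact (r' _ ⟨y.2.2, (p2 y).1 k⟩ (e2_of sS.isPGroup (QS y.2.1))).imp_left Subtype.ext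
  have syl : IsSyl 2 S ⊤ := isSyl_of_normalizer ⟨le_inf le_top le_normalizer, sS.isPGroup, fun P a b k => le_antisymm (fun g i => by
    obtain ⟨u, j, o⟩ := hD g (conj_mem_of_mem_normalizer (k i).2 (TS tT))
    have : u⁻¹ * g ∈ T := sT.eq_of_le (a.to_inf_left (K := 𝐂₁(t))) (le_inf (TS.trans b) sT.le) inf_le_right ▸
      ⟨P.mul_mem (inv_mem (b (QS j))) i, mem_c1.2 (conj_eq_iff.1 (by
        calc _ = u⁻¹ * (g * t * g⁻¹) * u := by group
          _ = _ := by rw [← o]; group))⟩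
    simpa using mul_mem (QS j) (TS this)) b⟩
  obtain ⟨f1, f2⟩ := Dm.ff syl ab QS (TS tT) f.t2 tQ hD
  have := o.nor
  have := o.sim
  have FG : F ≤ _root_.commutator G := by
    refine le_trans (o.key (Y := ⁅F, F⁆) (le_normalizer_of_normal' _ _) fun k => o.nab ?_) (commutator_mono le_top le_top)
    exact isMulCommutative_of_le_centralizer (commutator_eq_bot_iff_le_centralizer'.1 k)
  have QF : Q ≤ F := fun x i => by
    have : (im π F).Normal := Normal.map inferInstance π c.sur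
    obtain ⟨y, a, b, k⟩ := (mem_im (φ := π) (B := F)).1 (e.ncl.trans (normalClosure_le_normal (by
      rintro _ ⟨g, rfl⟩; exact c.rr g ▸ up_im (o.le ⟨g, rfl⟩) (LN ⟨g, rfl⟩))) ((mQ x).1 i).2)
    have j := mul_mem (inv_mem b) (SN (QS i))
    have k1 : (⟨_, j⟩ : N) ^ Nat.card π.ker = 1 := congrArg Subtype.val (pow_card_eq_one' (x := (⟨⟨_, j⟩, (up_eq j).symm.trans (by
      rw [up_mul (inv_mem b) (SN (QS i)), up_inv b, k, inv_mul_cancel])⟩ : π.ker)))
    refine (QuotientGroup.eq_one_iff x).1 (((e2_of sS.isPGroup (QS i)).map (QuotientGroup.mk' F)).odd c.odd ?_)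
    have := congrArg (fun z : N => QuotientGroup.mk' F z) k1
    simpa [(QuotientGroup.eq_one_iff y).2 a] using this
  have key : ∀ n, ∀ x ∈ T ⊓ F, x ^ 2 ^ n = 1 → x ∈ Q := fun n => by
    induction n with
    | zero => exact fun x _ k => by rw [show x = 1 by simpa using k]; exact one_mem _
    | succ n ih =>
      intro x i k
      obtain ⟨u, uU, -, k⟩ := mem_im.1 (QU _ (ih (x * x) (mul_mem i i) (by rw [← pow_two, ← pow_mul, ← pow_succ', k]))
        (sT.le (mul_mem i.1 i.1)))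
      obtain ⟨θ, a⟩ := l.sem i.1
      have k2 : Ud.up ψ x * Ud.up ψ x = u := by rw [← up_mul i.1 i.1, ← k, l.pu uU]
      rcases d.aut (d.sem_uq (a.mul a) (k2 ▸ uU.1)) with rfl | rfl
      · refine TL x i.1 ((lin2 d f r (sT.le i.1) (e2_of sT.isPGroup i.1) fun _ _ a' b => (d.ind_uq f.ker a' a b (l.ind i.1)).1).resolve_right
          fun k => f1 (FG ?_))
        simpa using F.mul_mem (F.inv_mem i.2) (o.le k)
      obtain ⟨w, wU, k3⟩ := d.U_inv a (l.fl i.1) (k2 ▸ uU)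
      have xT := mul_mem i.1 (l.u0 wU)
      have xF := mul_mem i.2 (o.le (up_range (φ := ρ) w))
      have x2 := (r _ ⟨sT.le (mul_mem xT xT), (l.ker (mul_mem xT xT)).1 (by rw [up_mul xT xT, up_mul i.1 (l.u0 wU), l.pu wU, k3])⟩
        (e2_of sT.isPGroup (mul_mem xT xT))).resolve_right fun k => f1 (FG (k ▸ mul_mem xF xF))
      refine (f2 _ ⟨TS xT, sT.le xT⟩ x2 (fun j => d.ne ?_) (fun g j k => mem_sup_left ?_) (FG xF)).elim
      · obtain ⟨z, b, z', b', k⟩ := (mem_sup_of_le_normalizer (zpowers_le.2 (nQ tT))).1 j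
        have zC : z' ∈ 𝐂₁(t) ⊓ 𝐂(ρ.range) := zpowers_le.2 (mem_inf.2 ⟨mem_c1.2 rfl, f.cm⟩) b'
        refine d.s_lin f.ker a (l.ind i.1) ?_
        rw [← mul_inv_cancel_right x (Ud.up ρ w), ← k]
        exact mul_mem (mul_mem (mem_sup_left (im_le (QU z b (by simpa [← k] using mul_mem (sT.le xT) (inv_mem zC.1)))))
          (mem_sup_right zC.2)) (mem_sup_left (inv_mem (up_range w)))
      · have kT : g * (x * Ud.up ρ w) * g⁻¹ ∈ T := sT.eq_of_le (sS.isPGroup.to_inf_left (K := 𝐂₁(t))) (le_inf TS sT.le) inf_le_right ▸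
          ⟨k, (𝐂₁(t)).mul_mem (mul_mem j (sT.le xT)) (inv_mem j)⟩
        refine TL _ (mul_mem kT xT) (d.der2 f r ?_ (e2_of sT.isPGroup (mul_mem kT xT)))
        simpa only [commutatorElement_def, ti x2] using commutator_mem_commutator j (sT.le xT)
  have SF : S ⊓ F = Q := le_antisymm (fun x i => by
    obtain ⟨u, a, τ, b, rfl⟩ := dec x i.1
    obtain ⟨n, k⟩ := e2_of sT.isPGroup b
    exact mul_mem a (key n τ ⟨b, by simpa using F.mul_mem (inv_mem (QF a)) i.2⟩ k)) (le_inf QS QF)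
  obtain ⟨n, n1, rfl⟩ := d.two
  obtain ⟨P, ⟨e1⟩⟩ := d.syl_iso
  obtain ⟨e2⟩ := e.iso
  let φ : Q →* R := (π.comp (inclusion (QS.trans SN))).codRestrict _ fun x => up_eq (φ := π) (SN (QS x.2)) ▸ ((mQ _).1 x.2).2
  have φu : ∀ x, (φ x : X) = Ud.up π x := fun x => (up_eq (φ := π) (SN (QS x.2))).symm
  let e3 := MulEquiv.ofBijective φ ⟨fun x y k => Subtype.ext (inj2 _ (QS x.2) _ (QS y.2) (by rw [← φu, ← φu, k])), fun ⟨u, i⟩ => by
    obtain ⟨x, a, rfl⟩ := sur u i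
    exact ⟨⟨x, a⟩, Subtype.ext (φu _)⟩⟩
  have l3 := d.l3
  refine Agent.S1769.result (fun k => ?_) (n * 2) (by omega) (by rw [d.card', pow_mul]) m (by omega) (SF ▸ syl.inf_normal (N := F)).toSylow P
    ⟨(subgroupOfEquivOfLe QF).trans (e3.trans (e2.trans e1))⟩
  have el : El ((im ρ (WW σ m)).subgroupOf F) := fun x i => Subtype.ext (el_im (d.W_el (Vf_ti le_rfl)) x.1 i)
  have := k _ (isMulCommutative_of_le_centralizer (Pg.el_ab el)) fun x i => by rw [pow_two, el x i]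
  rw [Nat.card_congr (subgroupOfEquivOfLe (im_le.trans o.le)).toEquiv, d.s_card f.ker (d.W_two (Vf_ti le_rfl)) d.s_WSU, d.card_W, ← pow_mul,
    Nat.pow_le_pow_iff_right one_lt_two] at this
  nlinarith

end CF.Ud
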